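import Mathlib
import Groth.Agent.CAlg1.Miracle
import Groth.Agent.CAlg1.Serre
import Groth.Agent.CAlg1.CMPoly
import Groth.Agent.EGA4Alg4.IntegralDim

/-!
A regular finite algebra over a regular local ring which is the coproduct of subalgebras `B i`:
the `B i` are free and regular.
-/

set_option autoImplicit false

universe u v

namespace Groth.Agent.WildQuot51

open IsLocalRing TensorProduct Module

/-- Miracle flatness for finite injective extensions. -/
theorem free_of_regular (R : Type u) [CommRing R] [IsRegularLocalRing R] (A : Type v) [CommRing A]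
    [IsRegularLocalRing A] [Algebra R A] [Module.Finite R A]
    (hinj : Function.Injective (algebraMap R A)) : Module.Free R A := by
  let R' := ULift.{v} R
  let A' := ULift.{u} A
  letI : Algebra R' A' := Algebra.ofModule
    (fun r x y => ULift.ext _ _ (smul_mul_assoc r.down x.down y.down))
    (fun r x y => ULift.ext _ _ (mul_smul_comm r.down x.down y.down))
  have : IsRegularLocalRing R' := IsRegularLocalRing.of_ringEquiv ULift.ringEquiv.symm
  have : IsRegularLocalRing A' := IsRegularLocalRing.of_ringEquiv ULift.ringEquiv.symm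
  have := CAlg1.cm_of_isRegularLocalRing A'
  have hmap : ∀ r : R', (algebraMap R' A' r).down = algebraMap R A r.down := fun r =>
    (Algebra.algebraMap_eq_smul_one r.down).symm
  have hinj' : Function.Injective (algebraMap R' A') := fun x y h =>
    ULift.ext _ _ (hinj (by rw [← hmap, ← hmap, h]))
  have : FaithfulSMul R' A' := (faithfulSMul_iff_algebraMap_injective R' A').2 hinj'
  have : IsScalarTower R R' A' := ⟨fun r x y => ULift.ext _ _ (smul_assoc r x.down y.down)⟩
  have : Module.Finite R A' := Module.Finite.equiv ULift.moduleEquiv.symm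
  have hfin : Module.Finite R' A' := Module.Finite.of_restrictScalars_finite R R' A'
  let J := (maximalIdeal R').map (algebraMap R' A')
  have hJ : J ≤ maximalIdeal A' := Ideal.map_le_iff_le_comap.2 fun x hx =>
    (mem_maximalIdeal _).2 fun h => (mem_maximalIdeal x).1 hx (IsUnit.of_map (algebraMap R' A') x h)
  have : Nontrivial (A' ⧸ J) := Ideal.Quotient.nontrivial_iff.2 fun h =>
    (maximalIdeal.isMaximal A').ne_top (top_le_iff.1 (h ▸ hJ))
  have : Module.Finite (R' ⧸ maximalIdeal R') (A' ⧸ J) :=
    Module.Finite.of_restrictScalars_finite R' _ _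
  letI : Field (R' ⧸ maximalIdeal R') := Ideal.Quotient.field _
  have : IsArtinianRing (A' ⧸ J) := IsArtinianRing.of_finite (R' ⧸ maximalIdeal R') (A' ⧸ J)
  have : Ring.KrullDimLE 0 (A' ⧸ J) := inferInstance
  have h0 : ringKrullDim (A' ⧸ J) = 0 := ringKrullDimZero_iff_ringKrullDim_eq_zero.1 this
  have hdim : ringKrullDim A' = ringKrullDim R' + ringKrullDim (A' ⧸ J) := by
    rw [h0, add_zero, EGA4Alg4.ringKrullDim_eq_of_integral R' A' hinj']
  have hflat := CAlg1.miracle_flatness _ R' A' rfl hdim
  have hfree : Module.Free R' A' := Module.free_of_flat_of_isLocalRing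
  let bR := (Module.Free.chooseBasis R' A').mapCoeffs (ULift.ringEquiv : R' ≃+* R)
    (fun c x => ULift.ext _ _ rfl)
  have : Module.Free R A' := Module.Free.of_basis bR
  exact Module.Free.of_equiv ULift.moduleEquiv

variable {R : Type u} [CommRing R] {A : Type v} [CommRing A] [Algebra R A] {ι : Type} [Fintype ι]

/-- Products of generators. -/
def prodFam (B : ι → Subalgebra R A) {κ : ι → Type} [∀ i, Fintype (κ i)] (b : ∀ i, κ i → B i) (e : ∀ i, κ i) : A :=
  ∏ i, (b i (e i) : A)

variable (B : ι → Subalgebra R A) {κ : ι → Type} [∀ i, Fintype (κ i)] (b : ∀ i, κ i → B i)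

/-- The products of generators generate the subalgebra generated by the factors. -/
theorem iSup_le_span (hb : ∀ i, Submodule.span R (Set.range (b i)) = ⊤) :
    (⨆ i, B i).toSubmodule ≤ Submodule.span R (Set.range (prodFam B b)) := by
  classical
  set S := Submodule.span R (Set.range (prodFam B b))
  -- the span contains every product
  have hmem : ∀ x : ∀ i, B i, ∏ i, (x i : A) ∈ S := by
    let Φ : MultilinearMap R (fun i => B i) A :=
      (MultilinearMap.mkPiAlgebra R ι A).compLinearMap fun i => (B i).val.toLinearMap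
    have hΦ : ∀ x : ∀ i, B i, Φ x = ∏ i, (x i : A) := fun x => rfl
    intro x
    have hsum : ∀ i, ∃ c : κ i →₀ R, (c.sum fun j r => r • b i j) = x i := fun i =>
      Finsupp.mem_span_range_iff_exists_finsupp.1 (hb i ▸ Submodule.mem_top)
    choose c hc using hsum
    rw [← hΦ, show x = fun i => ∑ j ∈ (c i).support, c i j • b i j from funext fun i => (hc i).symm,
      MultilinearMap.map_sum_finset]
    refine S.sum_mem fun e _ => ?_
    rw [MultilinearMap.map_smul_univ]
    exact S.smul_mem _ (Submodule.subset_span ⟨e, rfl⟩)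
  have h1 : (1 : A) ∈ S := by simpa using hmem fun i => 1
  have hmul : ∀ x ∈ S, ∀ y ∈ S, x * y ∈ S := by
    intro x hx y hy
    have h := Submodule.mul_mem_mul hx hy
    rw [Submodule.span_mul_span] at h
    refine (Submodule.span_le.2 ?_) h
    rintro _ ⟨_, ⟨e, rfl⟩, _, ⟨e', rfl⟩, rfl⟩
    have := hmem fun i => b i (e i) * b i (e' i)
    simpa [prodFam, Finset.prod_mul_distrib] using this
  let M : Subalgebra R A := S.toSubalgebra h1 fun x y hx hy => hmul x hx y hy
  suffices (⨆ i, B i) ≤ M from this
  refine iSup_le fun i x hx => ?_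
  have := hmem (Pi.mulSingle i (⟨x, hx⟩ : B i))
  rw [Finset.prod_eq_single i (fun j _ hj => by simp [hj]) (by simp)] at this
  rwa [Pi.mulSingle_eq_same] at this

omit [Fintype ι] in
/-- A coproduct is generated by its factors. -/
theorem iSup_eq_top_of_coproduct
    (hcoprod : ∀ (C : Type (max u v)) [CommRing C] [Algebra R C] (φ : ∀ i, B i →ₐ[R] C),
      ∃! ψ : A →ₐ[R] C, ∀ i (x : B i), ψ x = φ i x) : (⨆ i, B i) = ⊤ := by
  set M := ⨆ i, B i
  let down : ULift.{u} A →ₐ[R] A := ULift.algEquiv.toAlgHom
  let ψM := (hcoprod (ULift.{u} M) fun i =>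
    ULift.algEquiv.symm.toAlgHom.comp (Subalgebra.inclusion (le_iSup B i)))
  obtain ⟨ψ, hψ, -⟩ := ψM
  obtain ⟨χ, -, huniq⟩ := hcoprod (ULift.{u} A) fun i => ULift.algEquiv.symm.toAlgHom.comp (B i).val
  have h1 := huniq (ULift.algEquiv.symm.toAlgHom.comp
    (M.val.comp (ULift.algEquiv.toAlgHom.comp ψ))) fun i x => by
      simp only [AlgHom.comp_apply, hψ i x]
      rfl
  have h2 := huniq ULift.algEquiv.symm.toAlgHom fun i x => rfl
  refine eq_top_iff.2 fun a _ => ?_
  have h := congrArg ULift.down (DFunLike.congr_fun (h2.trans h1.symm) a)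
  rw [show a = ((ψ a).down : A) from h]
  exact (ψ a).down.2

/-- In a coproduct free of rank `r` over a local ring, families of generators which reduce to bases
have product a basis. -/
theorem exists_basis_prod [IsLocalRing R] [IsNoetherianRing R] [Module.Finite R A] [Module.Free R A]
    [Nontrivial A]
    (hcoprod : ∀ (C : Type (max u v)) [CommRing C] [Algebra R C] (φ : ∀ i, B i →ₐ[R] C),
      ∃! ψ : A →ₐ[R] C, ∀ i (x : B i), ψ x = φ i x) :
    ∃ (d : ι → ℕ) (b : ∀ i, Fin (d i) → B i), (∀ i, Submodule.span R (Set.range (b i)) = ⊤) ∧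
      ∃ Bs : Basis (∀ i, Fin (d i)) R A, ∀ e, Bs e = prodFam B b e := by
  classical
  let k := ResidueField R
  let d : ι → ℕ := fun i => finrank k (k ⊗[R] B i)
  have hfin : ∀ i, Module.Finite R (B i) := fun i =>
    Module.Finite.iff_fg.2 (IsNoetherian.noetherian (B i).toSubmodule)
  have hfree : ∀ i, Module.Free k (k ⊗[R] B i) := fun i => Module.Free.of_divisionRing k _
  let bk : ∀ i, Basis (Fin (d i)) k (k ⊗[R] B i) := fun i => Module.finBasis k _
  have hsurj : ∀ i, Function.Surjective (TensorProduct.mk R k (B i) 1) := fun i =>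
    TensorProduct.mk_surjective R _ k Ideal.Quotient.mk_surjective
  choose b hb using fun i j => hsurj i (bk i j)
  have hspan : ∀ i, Submodule.span R (Set.range (b i)) = ⊤ := fun i =>
    span_eq_top_of_tmul_eq_basis (b i) (bk i) (hb i)
  have hgen : Submodule.span R (Set.range (prodFam B b)) = ⊤ := by
    rw [eq_top_iff]
    refine le_trans ?_ (iSup_le_span B b hspan)
    rw [iSup_eq_top_of_coproduct B hcoprod]
    simp
  -- the map to the tensor product of the closed fibres
  let T := PiTensorProduct k (fun i => k ⊗[R] B i)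
  haveI : IsScalarTower R k T := inferInstance
  obtain ⟨ψ, hψ, -⟩ := hcoprod T fun i =>
    ((PiTensorProduct.singleAlgHom (R := k) (A := fun j => k ⊗[R] B j) i).restrictScalars R).comp
      Algebra.TensorProduct.includeRight
  let BT : Basis (∀ i, Fin (d i)) k T := Basis.piTensorProduct bk
  have hψe : ∀ e, ψ (prodFam B b e) = BT e := by
    intro e
    rw [prodFam]
    show ψ.toRingHom (∏ i, (b i (e i) : A)) = _
    rw [map_prod]
    simp only [show ∀ x, ψ.toRingHom x = ψ x from fun _ => rfl, hψ]
    simp only [AlgHom.comp_apply, AlgHom.restrictScalars_apply, Algebra.TensorProduct.includeRight_apply,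
      PiTensorProduct.singleAlgHom_apply, BT, Basis.piTensorProduct_apply]
    rw [← PiTensorProduct.tprod_prod]
    refine Eq.trans ?_ (Basis.piTensorProduct_apply bk e).symm
    congr 1
    funext i
    rw [Finset.prod_apply, Finset.prod_eq_single i (fun j _ hj => by simp [Ne.symm hj]) (by simp)]
    simpa using hb i (e i)
  have hrank : Fintype.card (∀ i, Fin (d i)) ≤ finrank R A := by
    let w := Module.finBasis R A
    have htop : (⊤ : Submodule k T) ≤ Submodule.span k (Set.range fun l => ψ (w l)) := by
      rw [← BT.span_eq, Submodule.span_le]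
      rintro _ ⟨e, rfl⟩
      rw [← hψe, ← w.sum_repr (prodFam B b e), map_sum]
      refine Submodule.sum_mem _ fun l _ => ?_
      rw [map_smul, ← IsScalarTower.algebraMap_smul k (w.repr (prodFam B b e) l) (ψ (w l))]
      exact Submodule.smul_mem _ _ (Submodule.subset_span ⟨l, rfl⟩)
    have h := finrank_range_le_card (R := k) fun l => ψ (w l)
    rw [Set.finrank, top_le_iff.1 htop, finrank_top, finrank_eq_card_basis BT, Fintype.card_fin] at h
    exact h
  have hcard : Fintype.card (∀ i, Fin (d i)) = finrank R A := by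
    refine le_antisymm hrank ?_
    have h := finrank_range_le_card (R := R) (prodFam B b)
    rwa [Set.finrank, hgen, finrank_top] at h
  exact ⟨d, b, hspan, basisOfTopLeSpanOfCardEqFinrank (prodFam B b) hgen.ge hcard,
    fun e => by simp⟩

/-- The factors of a coproduct decomposition of a regular ring are free and regular. -/
theorem free_and_regular [IsRegularLocalRing R] [IsRegularLocalRing A] [Module.Finite R A]
    (hinj : Function.Injective (algebraMap R A))
    (hcoprod : ∀ (C : Type (max u v)) [CommRing C] [Algebra R C] (φ : ∀ i, B i →ₐ[R] C),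
      ∃! ψ : A →ₐ[R] C, ∀ i (x : B i), ψ x = φ i x) (i : ι) :
    Module.Free R (B i) ∧ IsRegularLocalRing (B i) := by
  classical
  have := CAlg1.isDomain_regular R
  have := CAlg1.isDomain_regular A
  have := free_of_regular R A hinj
  obtain ⟨d, b, hspan, Bs, hBs⟩ := exists_basis_prod B hcoprod
  -- some product of generators
  have hne : Nonempty (∀ j, Fin (d j)) := Bs.index_nonempty
  obtain ⟨e₀⟩ := hne
  -- split off the index `i`
  let J := ∀ j : {j // j ≠ i}, Fin (d j)
  let σ : (∀ j, Fin (d j)) ≃ Fin (d i) × J := Equiv.piSplitAt i _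
  let m : J → A := fun e' => ∏ j : {j // j ≠ i}, (b j (e' j) : A)
  have hprod : ∀ e, prodFam B b e = (b i (σ e).1 : A) * m (σ e).2 := by
    intro e
    simp only [prodFam, m, σ, Equiv.piSplitAt_apply]
    rw [← Finset.mul_prod_erase _ _ (Finset.mem_univ i),
      Finset.prod_subtype (p := fun j => j ≠ i) _ (fun x => by simp)]
    rfl
  have hlib : LinearIndependent R (b i) := by
    have hf : LinearIndependent R fun l => (b i l : A) * m (σ e₀).2 := by
      have h := Bs.linearIndependent.comp (fun l => σ.symm (l, (σ e₀).2))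
        fun l l' h => by simpa using σ.symm.injective h
      have heq : (fun l => (b i l : A) * m (σ e₀).2) = ⇑Bs ∘ fun l => σ.symm (l, (σ e₀).2) := by
        funext l; simp [hBs, hprod]
      rw [heq]; exact h
    exact LinearIndependent.of_comp ((LinearMap.mulRight R (m (σ e₀).2)).comp (B i).val.toLinearMap) hf
  let bB : Basis (Fin (d i)) R (B i) := Basis.mk hlib (hspan i).ge
  refine ⟨Module.Free.of_basis bB, ?_⟩
  -- the whole ring is free over the factor
  have : Module.Finite R (B i) := Module.Finite.of_basis bB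
  have : IsLocalHom (algebraMap (B i) A) := ⟨fun x hx => by
    have : Algebra.IsIntegral (B i) A := Algebra.IsIntegral.tower_top (R := R)
    exact (RingHom.IsIntegral.isLocalHom (f := algebraMap (B i) A)
      (algebraMap_isIntegral_iff.2 ‹_›) Subtype.val_injective).map_nonunit x hx⟩
  have : IsLocalRing (B i) := RingHom.domain_isLocalRing (algebraMap (B i) A)
  have : IsNoetherianRing (B i) := IsNoetherianRing.of_finite R (B i)
  let Φ : (J → B i) →ₗ[B i] A :=
    ∑ e' : J, (LinearMap.proj e').smulRight (m e')
  have hΦ : ∀ f, Φ f = ∑ e', (f e' : A) * m e' := fun f => by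
    simp only [Φ, LinearMap.sum_apply, LinearMap.smulRight_apply, LinearMap.proj_apply]
    rfl
  have hΦexp : ∀ f, Φ f = ∑ e, bB.repr (f (σ e).2) (σ e).1 • Bs e := by
    intro f
    rw [hΦ, ← σ.symm.sum_comp, Fintype.sum_prod_type, Finset.sum_comm]
    refine Finset.sum_congr rfl fun e' _ => ?_
    conv_lhs => rw [← bB.sum_repr (f e')]
    push_cast
    rw [Finset.sum_mul]
    refine Finset.sum_congr rfl fun l _ => ?_
    rw [hBs, hprod, Equiv.apply_symm_apply, smul_mul_assoc]
    simp [bB]
  have hbij : Function.Bijective Φ := by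
    refine ⟨fun f g h => ?_, fun a => ?_⟩
    · rw [hΦexp, hΦexp] at h
      funext e'
      refine bB.ext_elem fun l => ?_
      have h' := congrArg (fun z => Bs.repr z (σ.symm (l, e'))) h
      simp only [Bs.repr_sum_self] at h'
      simpa using h'
    · refine ⟨fun e' => ∑ l, Bs.repr a (σ.symm (l, e')) • bB l, ?_⟩
      rw [hΦexp]
      conv_rhs => rw [← Bs.sum_repr a]
      refine Finset.sum_congr rfl fun e _ => ?_
      rw [bB.repr_sum_self]
      simp
  have hfree : Module.Free (B i) A := Module.Free.of_equiv (LinearEquiv.ofBijective Φ hbij)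
  have : Module.Flat (B i) A := Module.Flat.of_free
  exact CAlg1.regular_of_flat (B i) A

end Groth.Agent.WildQuot51
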