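import Mathlib
import Groth.Agent.WildQuot51.Coprod
import Groth.Agent.CAlg6.CompleteSurj
import Groth.Agent.CAlg1.Regular
import Groth.Agent.Curves2.Conductor
import Groth.Agent.AdicC27.Approx

/-!
Complete regular local rings over power series rings in a system of parameters.
-/

set_option autoImplicit false

universe u v w

namespace Groth.Agent.WildQuot51

open IsLocalRing Module

variable {k : Type v} [Field k] {A : Type u} [CommRing A] [IsLocalRing A] [Algebra k A] {n : ℕ}

theorem algebraMap_residue_surjective
    (hk : Function.Surjective (IsLocalRing.residue A ∘ algebraMap k A)) :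
    Function.Surjective (algebraMap k (ResidueField A)) := fun x => by
  obtain ⟨c, hc⟩ := hk x
  exact ⟨c, hc⟩

/-- An ideal with radical the maximal ideal has finite-dimensional quotient, of dimension its length. -/
theorem finite_quotient [IsNoetherianRing A]
    (hk : Function.Surjective (IsLocalRing.residue A ∘ algebraMap k A)) (J : Ideal A)
    (hJ : J.radical = maximalIdeal A) :
    Module.Finite k (A ⧸ J) ∧ Module.length A (A ⧸ J) = Module.finrank k (A ⧸ J) := by
  have hlen := Curves2.length_eq_of_residue k A (algebraMap_residue_surjective hk) (A ⧸ J)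
  have hJt : J ≠ ⊤ := fun h => (maximalIdeal.isMaximal A).ne_top (by rw [← hJ, h, Ideal.radical_top])
  have : Nontrivial (A ⧸ J) := Ideal.Quotient.nontrivial_iff.2 hJt
  have : Ring.KrullDimLE 0 (A ⧸ J) := Ring.KrullDimLE.mk₀ fun P hP => by
    have hPc : (P.comap (Ideal.Quotient.mk J)).IsPrime := Ideal.IsPrime.comap _
    have hle : maximalIdeal A ≤ P.comap (Ideal.Quotient.mk J) := by
      rw [← hJ, hPc.radical_le_iff]
      intro x hx
      rw [Ideal.mem_comap, Ideal.Quotient.eq_zero_iff_mem.2 hx]
      exact zero_mem _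
    have hmax : (P.comap (Ideal.Quotient.mk J)).IsMaximal := by
      rw [← (maximalIdeal.isMaximal A).eq_of_le hPc.ne_top hle]
      exact maximalIdeal.isMaximal A
    exact (Ideal.map_comap_of_surjective _ Ideal.Quotient.mk_surjective P) ▸
      (Ideal.map_eq_top_or_isMaximal_of_surjective _ Ideal.Quotient.mk_surjective hmax).resolve_left
        (by rw [Ideal.map_comap_of_surjective _ Ideal.Quotient.mk_surjective]; exact hP.ne_top)
  have : IsArtinianRing (A ⧸ J) := IsNoetherianRing.isArtinianRing_of_krullDimLE_zero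
  have : IsFiniteLength A (A ⧸ J) := by
    rw [isFiniteLength_iff_isNoetherian_isArtinian]
    exact ⟨inferInstance,
      isArtinian_of_surjective_algebraMap (R := A ⧸ J) (S := A) Ideal.Quotient.mk_surjective⟩
  have hne : Module.length k (A ⧸ J) ≠ ⊤ := by rw [hlen]; exact Module.length_ne_top_iff.2 this
  have hfl := Module.length_ne_top_iff.1 hne
  rw [isFiniteLength_iff_isNoetherian_isArtinian] at hfl
  have hN : IsNoetherian k (A ⧸ J) := hfl.1
  refine ⟨inferInstance, ?_⟩
  rw [← hlen, Module.length_eq_finrank]

/-- A complete local ring is finite over power series in a system of parameters; a lift of a basis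
of the quotient generates. -/
theorem surjective_lift [IsNoetherianRing A] [IsAdicComplete (maximalIdeal A) A]
    (x : Fin n → A) (hx : (Ideal.span (Set.range x)).radical = maximalIdeal A)
    (φ : MvPowerSeries (Fin n) k →ₐ[k] A) (hφ : ∀ i, φ (MvPowerSeries.X i) = x i)
    {d : ℕ} (b : Fin d → A)
    (hb : Submodule.span k (Set.range fun i => Ideal.Quotient.mk (Ideal.span (Set.range x)) (b i)) = ⊤) :
    Function.Surjective (fun r : Fin d → MvPowerSeries (Fin n) k => ∑ i, φ (r i) * b i) := by
  classical
  letI : Algebra (MvPowerSeries (Fin n) k) A := φ.toRingHom.toAlgebra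
  have := CAlg6.isAdicComplete_maximalIdeal (k := k) (d := n)
  let ψ : (Fin d → MvPowerSeries (Fin n) k) →ₗ[MvPowerSeries (Fin n) k] A :=
    Fintype.linearCombination (MvPowerSeries (Fin n) k) b
  have hψ : ∀ r, ψ r = ∑ i, φ (r i) * b i := fun r => by
    rw [Fintype.linearCombination_apply]; rfl
  have hmap : (maximalIdeal (MvPowerSeries (Fin n) k)).map (algebraMap (MvPowerSeries (Fin n) k) A) =
      Ideal.span (Set.range x) := by
    rw [CAlg6.maximalIdeal_eq_span_X, Ideal.map_span, ← Set.range_comp]
    congr 1
    ext a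
    simp only [Set.mem_range, Function.comp_apply]
    exact exists_congr fun i => by rw [← hφ i]; rfl
  set I := maximalIdeal (MvPowerSeries (Fin n) k)
  have hsup : LinearMap.range ψ ⊔ (I • ⊤ : Submodule (MvPowerSeries (Fin n) k) A) = ⊤ := by
    refine top_le_iff.1 fun a _ => ?_
    obtain ⟨c, hc⟩ := (Submodule.mem_span_range_iff_exists_fun k).1
      (hb.ge (Submodule.mem_top : Ideal.Quotient.mk (Ideal.span (Set.range x)) a ∈ ⊤))
    refine Submodule.mem_sup.2 ⟨ψ fun i => algebraMap k _ (c i), LinearMap.mem_range_self _ _,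
      a - ψ fun i => algebraMap k _ (c i), ?_, by abel⟩
    rw [Ideal.smul_top_eq_map, Submodule.restrictScalars_mem, hmap, ← Ideal.Quotient.eq, ← hc, hψ,
      map_sum]
    refine Finset.sum_congr rfl fun i _ => ?_
    rw [AlgHom.commutes, ← Algebra.smul_def]
    rfl
  have : IsHausdorff I A := ⟨fun b hb => IsHausdorff.haus (I := maximalIdeal A) inferInstance b
    fun j => by
      have h := hb j
      rw [SModEq.zero] at h ⊢
      rw [smul_eq_mul, Ideal.mul_top]
      rw [Ideal.smul_top_eq_map, Submodule.restrictScalars_mem, Ideal.map_pow, hmap] at h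
      exact Ideal.pow_right_mono (hx ▸ Ideal.le_radical) j h⟩
  intro a
  obtain ⟨r, hr⟩ := AdicC27.mem_range_of_approx (I := I) ψ
    (fun j => ((I ^ j • ⊤ : Submodule (MvPowerSeries (Fin n) k) A) : Set A))
    (fun j => subset_rfl) (fun j y hy => by
      have h1 : y ∈ (I ^ j • ⊤ : Submodule _ (Fin d → MvPowerSeries (Fin n) k)).map ψ ⊔
          (I ^ (j + 1) • ⊤ : Submodule (MvPowerSeries (Fin n) k) A) := by
        rw [Submodule.map_smul'', Submodule.map_top, pow_succ, Submodule.mul_smul,
          ← Submodule.smul_sup, hsup]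
        exact hy
      obtain ⟨_, ⟨z, hz, rfl⟩, w, hw, rfl⟩ := Submodule.mem_sup.1 h1
      exact ⟨z, hz, by simpa using hw⟩) (y := a) (by simp [Ideal.map_top])
  exact ⟨r, (hψ r).symm.trans hr⟩

/-- ... and, if it is a domain of dimension `n`, the power series embed. -/
theorem finite_injective [IsNoetherianRing A] [IsDomain A] [IsAdicComplete (maximalIdeal A) A]
    (hk : Function.Surjective (IsLocalRing.residue A ∘ algebraMap k A))
    (hn : ringKrullDim A = n) (x : Fin n → A) (hx : (Ideal.span (Set.range x)).radical = maximalIdeal A)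
    (φ : MvPowerSeries (Fin n) k →ₐ[k] A) (hφ : ∀ i, φ (MvPowerSeries.X i) = x i) :
    φ.toRingHom.Finite ∧ Function.Injective φ := by
  classical
  letI : Algebra (MvPowerSeries (Fin n) k) A := φ.toRingHom.toAlgebra
  have := (finite_quotient hk (Ideal.span (Set.range x)) hx).1
  let bb := Module.finBasis k (A ⧸ Ideal.span (Set.range x))
  choose b hb using fun i => Ideal.Quotient.mk_surjective (bb i)
  have hsurj := surjective_lift x hx φ hφ b (by rw [show (fun i => Ideal.Quotient.mk _ (b i)) = ⇑bb from funext hb]; exact bb.span_eq)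
  have hfin : Module.Finite (MvPowerSeries (Fin n) k) A :=
    Module.Finite.of_surjective (Fintype.linearCombination (MvPowerSeries (Fin n) k) b) fun a => by
      obtain ⟨r, hr⟩ := hsurj a
      exact ⟨r, by rw [Fintype.linearCombination_apply]; exact hr⟩
  refine ⟨hfin, ?_⟩
  let K := RingHom.ker φ.toRingHom
  let f : MvPowerSeries (Fin n) k →+* MvPowerSeries (Fin n) k ⧸ K := Ideal.Quotient.mk K
  letI : Algebra (MvPowerSeries (Fin n) k ⧸ K) A := (RingHom.kerLift φ.toRingHom).toAlgebra
  have : IsScalarTower (MvPowerSeries (Fin n) k) (MvPowerSeries (Fin n) k ⧸ K) A :=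
    ⟨fun r q a => by
      induction q using Quotient.inductionOn with
      | h q => exact (congrArg (· * a) (map_mul φ r q)).trans (mul_assoc _ _ _)⟩
  have : Module.Finite (MvPowerSeries (Fin n) k ⧸ K) A :=
    Module.Finite.of_restrictScalars_finite (MvPowerSeries (Fin n) k) _ _
  have hd := EGA4Alg4.ringKrullDim_eq_of_integral (MvPowerSeries (Fin n) k ⧸ K) A
    (RingHom.kerLift_injective _)
  rw [hn] at hd
  haveI := CAlg6.isRegularLocalRing_mvPowerSeries (k := k) (d := n)
  haveI := CAlg1.isDomain_regular (MvPowerSeries (Fin n) k)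
  have hinj := CAlg6.injective_of_surjective_of_ringKrullDim_eq f Ideal.Quotient.mk_surjective n
    CAlg6.ringKrullDim_mvPowerSeries hd.symm
  intro a b h
  exact hinj (Ideal.Quotient.eq.2 (by simp [K, RingHom.mem_ker, map_sub, h]))

/-- The rank of a finite free algebra is the length of its fibre. -/
theorem exists_basis_of_parameters (A : Type u) [CommRing A] [IsRegularLocalRing A] [Algebra k A]
    [IsAdicComplete (maximalIdeal A) A]
    (hk : Function.Surjective (IsLocalRing.residue A ∘ algebraMap k A))
    (hn : ringKrullDim A = n) (x : Fin n → A) (hx : (Ideal.span (Set.range x)).radical = maximalIdeal A)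
    (φ : MvPowerSeries (Fin n) k →ₐ[k] A) (hφ : ∀ i, φ (MvPowerSeries.X i) = x i) :
    ∃ (d : ℕ) (b : Fin d → A), (d : ℕ∞) = Module.length A (A ⧸ Ideal.span (Set.range x)) ∧
      Function.Bijective (fun r : Fin d → MvPowerSeries (Fin n) k => ∑ i, φ (r i) * b i) := by
  classical
  haveI := CAlg1.isDomain_regular A
  obtain ⟨hfinV, hlen⟩ := finite_quotient hk (Ideal.span (Set.range x)) hx
  obtain ⟨hfinA, hinj⟩ := finite_injective hk hn x hx φ hφ
  letI : Algebra (MvPowerSeries (Fin n) k) A := φ.toRingHom.toAlgebra
  haveI : Module.Finite (MvPowerSeries (Fin n) k) A := hfinA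
  have := CAlg6.isRegularLocalRing_mvPowerSeries (k := k) (d := n)
  have := free_of_regular (MvPowerSeries (Fin n) k) A hinj
  have hmap : (maximalIdeal (MvPowerSeries (Fin n) k)).map (algebraMap (MvPowerSeries (Fin n) k) A) =
      Ideal.span (Set.range x) := by
    rw [CAlg6.maximalIdeal_eq_span_X, Ideal.map_span, ← Set.range_comp]
    congr 1
    ext a
    simp only [Set.mem_range, Function.comp_apply]
    exact exists_congr fun i => by rw [← hφ i]; rfl
  let J := Ideal.span (Set.range x)
  let e := Module.finBasis (MvPowerSeries (Fin n) k) A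
  let bb := Module.finBasis k (A ⧸ J)
  choose b hb using fun i => Ideal.Quotient.mk_surjective (bb i)
  have hsurj := surjective_lift x hx φ hφ b (by rw [show (fun i => Ideal.Quotient.mk _ (b i)) = ⇑bb from funext hb]; exact bb.span_eq)
  refine ⟨Module.finrank k (A ⧸ J), b, hlen.symm, ?_, hsurj⟩
  have hspan : Submodule.span k (Set.range fun i => Ideal.Quotient.mk J (e i)) = ⊤ := by
    refine top_le_iff.1 fun q _ => ?_
    obtain ⟨a, rfl⟩ := Ideal.Quotient.mk_surjective q
    refine (Submodule.mem_span_range_iff_exists_fun k).2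
      ⟨fun i => MvPowerSeries.constantCoeff (e.repr a i), ?_⟩
    conv_rhs => rw [← e.sum_repr a, map_sum]
    refine Finset.sum_congr rfl fun i _ => ?_
    rw [Algebra.smul_def, IsScalarTower.algebraMap_apply k A (A ⧸ J), Ideal.Quotient.algebraMap_eq,
      ← map_mul, Algebra.smul_def, Ideal.Quotient.eq, ← sub_mul]
    refine Ideal.mul_mem_right _ _ ?_
    rw [← φ.commutes, show algebraMap (MvPowerSeries (Fin n) k) A (e.repr a i) = φ (e.repr a i) from rfl,
      ← map_sub]
    show _ ∈ Ideal.span (Set.range x)
    rw [← hmap]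
    refine Ideal.mem_map_of_mem _ (CAlg6.mem_maximalIdeal_iff.2 ?_)
    rw [map_sub, MvPowerSeries.algebraMap_apply]
    simp
  have hle : Module.finrank k (A ⧸ J) ≤ Module.finrank (MvPowerSeries (Fin n) k) A := by
    have h := finrank_range_le_card (R := k) fun i => Ideal.Quotient.mk J (e i)
    rwa [Set.finrank, hspan, finrank_top, Fintype.card_fin] at h
  let ψ := Fintype.linearCombination (MvPowerSeries (Fin n) k) b
  have hψ : ∀ r, ψ r = ∑ i, φ (r i) * b i := fun r => by
    rw [Fintype.linearCombination_apply]; rfl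
  have hψs : Function.Surjective ψ := fun a => by
    obtain ⟨r, hr⟩ := hsurj a
    exact ⟨r, (hψ r).trans hr⟩
  have hge : Module.finrank (MvPowerSeries (Fin n) k) A ≤ Module.finrank k (A ⧸ J) := by
    have h := LinearMap.finrank_le_finrank_of_surjective (f := ψ) hψs
    rwa [Module.finrank_fin_fun] at h
  let eq1 : A ≃ₗ[MvPowerSeries (Fin n) k] (Fin (Module.finrank k (A ⧸ J)) → MvPowerSeries (Fin n) k) :=
    (e.reindex (finCongr (le_antisymm hge hle))).equivFun
  have hψi : Function.Injective (eq1.toLinearMap ∘ₗ ψ) :=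
    OrzechProperty.injective_of_surjective_endomorphism _ (eq1.surjective.comp hψs)
  intro r r' h
  exact hψi (congrArg eq1 (((hψ r).trans h).trans (hψ r').symm))

end Groth.Agent.WildQuot51
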