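import Mathlib
import Groth.Agent.WildQuot51.NormRing
import Groth.Agent.LA18.ColonKilling
import Groth.Agent.CAlg6.RegularNormal
import Groth.Agent.SGA3a.FiniteComplete
import Groth.Agent.Frg27.RigClosed
import Groth.Agent.CAlg1.Complete

/-!
The invariant ring of a finite group action on a complete Noetherian local ring with a field of
representatives fixed by the group.
-/

set_option autoImplicit false

universe u v w

namespace Groth.Agent.WildQuot51

open IsLocalRing Module

section Basic

variable {A : Type u} [CommRing A] [IsLocalRing A] {G : Type w} [Group G] [MulSemiringAction G A]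

theorem smul_mem_maximalIdeal (σ : G) {a : A} (ha : a ∈ maximalIdeal A) :
    σ • a ∈ maximalIdeal A := by
  rw [mem_maximalIdeal, mem_nonunits_iff] at ha ⊢
  intro h
  have := h.map (MulSemiringAction.toRingHom G A σ⁻¹)
  rw [MulSemiringAction.toRingHom_apply, inv_smul_smul] at this
  exact ha this

theorem smul_mem_pow (σ : G) {N : ℕ} {a : A} (ha : a ∈ maximalIdeal A ^ N) :
    σ • a ∈ maximalIdeal A ^ N := by
  have h : (maximalIdeal A ^ N).map (MulSemiringAction.toRingHom G A σ) ≤ maximalIdeal A ^ N := by
    rw [Ideal.map_pow]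
    refine Ideal.pow_right_mono ?_ N
    exact Ideal.map_le_iff_le_comap.2 fun x hx => smul_mem_maximalIdeal σ hx
  exact h (Ideal.mem_map_of_mem _ ha)

variable {k : Type v} [Field k] [Algebra k A]

/-- The displacement of the generators of the maximal ideal controls the displacement of everything. -/
theorem orbit_ideal [IsNoetherianRing A]
    (hk : Function.Surjective (IsLocalRing.residue A ∘ algebraMap k A))
    (σ : G) (hσk : ∀ c : k, σ • algebraMap k A c = algebraMap k A c)
    {n : ℕ} (u : Fin n → A) (hu : Ideal.span (Set.range u) = maximalIdeal A)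
    (J : Ideal A) (hJ : ∀ i, σ • u i - u i ∈ J) (a : A) : σ • a - a ∈ J := by
  by_cases hJt : J = ⊤
  · rw [hJt]; exact Submodule.mem_top
  have key : ∀ (N : ℕ) (a : A), ∃ t : A, σ • t - t ∈ J ∧ a - t ∈ maximalIdeal A ^ N := by
    intro N
    induction N with
    | zero => exact fun a => ⟨0, by rw [smul_zero, sub_zero]; exact zero_mem _, by simp⟩
    | succ N ih =>
      intro a
      obtain ⟨c, hc⟩ := hk (residue A a)
      have hc' : a - algebraMap k A c ∈ Ideal.span (Set.range u) := by
        rw [hu, ← residue_eq_zero_iff, map_sub, sub_eq_zero]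
        exact hc.symm
      obtain ⟨f, hf⟩ := Ideal.mem_span_range_iff_exists_fun.1 hc'
      choose t ht htN using fun i => ih (f i)
      refine ⟨algebraMap k A c + ∑ i, t i * u i, ?_, ?_⟩
      · rw [smul_add, hσk, add_sub_add_left_eq_sub, Finset.smul_sum, ← Finset.sum_sub_distrib]
        refine Submodule.sum_mem _ fun i _ => ?_
        rw [smul_mul', show σ • t i * σ • u i - t i * u i =
          (σ • t i - t i) * σ • u i + t i * (σ • u i - u i) by ring]
        exact add_mem (Ideal.mul_mem_right _ _ (ht i)) (Ideal.mul_mem_left _ _ (hJ i))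
      · rw [← sub_sub, ← hf, ← Finset.sum_sub_distrib]
        refine Submodule.sum_mem _ fun i _ => ?_
        rw [← sub_mul, pow_succ]
        exact Ideal.mul_mem_mul (htN i) (hu.le (Ideal.subset_span ⟨i, rfl⟩))
  have : Nontrivial (A ⧸ J) := Ideal.Quotient.nontrivial_iff.2 hJt
  rw [← Ideal.Quotient.eq_zero_iff_mem]
  refine IsHausdorff.haus (IsHausdorff.of_le_jacobson (maximalIdeal A) (A ⧸ J)
    (IsLocalRing.maximalIdeal_le_jacobson _)) _ fun N => ?_
  obtain ⟨t, ht, htN⟩ := key N a
  rw [SModEq.zero, Ideal.smul_top_eq_map, Submodule.restrictScalars_mem, Ideal.Quotient.algebraMap_eq]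
  have h : σ • a - a = (σ • t - t) + (σ • (a - t) - (a - t)) := by rw [smul_sub]; ring
  rw [h, map_add, Ideal.Quotient.eq_zero_iff_mem.2 ht, zero_add]
  exact Ideal.mem_map_of_mem _ (sub_mem (smul_mem_pow σ htN) htN)

end Basic

section Presentation

variable {A : Type u} [CommRing A] [IsLocalRing A] [IsNoetherianRing A]
  [IsAdicComplete (maximalIdeal A) A] {k : Type u} [Field k] [Algebra k A]
  {G : Type w} [Group G] [MulSemiringAction G A]

/-- Substituting invariant elements gives invariant series (coefficient field in any universe). -/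
theorem smul_powerSeries' {k : Type v} [Field k] [Algebra k A] {d : ℕ} (σ : G)
    (hσk : ∀ c : k, σ • algebraMap k A c = algebraMap k A c)
    (φ : MvPowerSeries (Fin d) k →ₐ[k] A) (hφm : ∀ i, φ (MvPowerSeries.X i) ∈ maximalIdeal A)
    (hφ : ∀ i, σ • φ (MvPowerSeries.X i) = φ (MvPowerSeries.X i))
    (r : MvPowerSeries (Fin d) k) : σ • φ r = φ r := by
  have key : ∀ (N : ℕ) (r : MvPowerSeries (Fin d) k), σ • φ r - φ r ∈ maximalIdeal A ^ N := by
    intro N
    induction N with
    | zero => intro r; simp
    | succ N ih =>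
      intro r
      have h1 : CAlg6.OrdGE 1 (r - MvPowerSeries.C (MvPowerSeries.constantCoeff r)) :=
        CAlg6.ordGE_one_iff.2 (by simp)
      obtain ⟨g, -, hg⟩ := CAlg6.exists_decomp (N := 0) h1
      rw [sub_eq_iff_eq_add] at hg
      rw [hg, map_add, map_sum, smul_add,
        show MvPowerSeries.C (MvPowerSeries.constantCoeff r) =
          algebraMap k (MvPowerSeries (Fin d) k) (MvPowerSeries.constantCoeff r) from rfl,
        AlgHom.commutes, hσk, add_sub_add_right_eq_sub, Finset.smul_sum, ← Finset.sum_sub_distrib]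
      refine Submodule.sum_mem _ fun i _ => ?_
      rw [map_mul, smul_mul', hφ, ← mul_sub, pow_succ']
      exact Ideal.mul_mem_mul (hφm i) (ih _)
  rw [← sub_eq_zero]
  refine IsHausdorff.haus (I := maximalIdeal A) inferInstance _ fun N => ?_
  rw [SModEq.zero, smul_eq_mul, Ideal.mul_top]
  exact key N r

variable (k G) in
/-- The ring is finite over power series in invariant elements. -/
theorem exists_invariant_presentation [Finite G]
    (hk : Function.Surjective (IsLocalRing.residue A ∘ algebraMap k A))
    (hGk : ∀ (σ : G) (c : k), σ • algebraMap k A c = algebraMap k A c) :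
    ∃ (d : ℕ) (φ : MvPowerSeries (Fin d) k →ₐ[k] A),
      (∀ (σ : G) (r : MvPowerSeries (Fin d) k), σ • φ r = φ r) ∧
      (∀ i, φ (MvPowerSeries.X i) ∈ maximalIdeal A) ∧ φ.toRingHom.Finite := by
  classical
  have := Fintype.ofFinite G
  obtain ⟨n, u, hu⟩ := Submodule.fg_iff_exists_fin_generating_family.1
    (IsNoetherian.noetherian (maximalIdeal A))
  let ι := Fin n × Fin (Fintype.card G)
  let c : ι → A := fun q => (MulSemiringAction.charpoly G (u q.1)).coeff q.2
  let y : Fin (Fintype.card ι) → A := c ∘ (Fintype.equivFin ι).symm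
  have hum : ∀ i, u i ∈ maximalIdeal A := fun i => hu.le (Submodule.subset_span ⟨i, rfl⟩)
  have hdeg : ∀ i, (MulSemiringAction.charpoly G (u i)).natDegree = Fintype.card G := fun i => by
    rw [MulSemiringAction.charpoly_eq, Polynomial.natDegree_prod_of_monic _ _
      fun σ _ => Polynomial.monic_X_sub_C _]
    simp
  have hcm : ∀ q, c q ∈ maximalIdeal A := fun q => by
    rw [← residue_eq_zero_iff, ← Polynomial.coeff_map, MulSemiringAction.charpoly_eq,
      Polynomial.map_prod]
    simp only [Polynomial.map_sub, Polynomial.map_X, Polynomial.map_C,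
      (residue_eq_zero_iff _).2 (smul_mem_maximalIdeal _ (hum q.1)), map_zero, sub_zero,
      Finset.prod_const, Finset.card_univ, Polynomial.coeff_X_pow]
    exact if_neg q.2.2.ne
  have hym : ∀ j, y j ∈ maximalIdeal A := fun j => hcm _
  obtain ⟨φ₀, hC, hX⟩ := LA18.exists_powerSeries_hom (maximalIdeal A) (algebraMap k A) y hym
  let φ : MvPowerSeries (Fin (Fintype.card ι)) k →ₐ[k] A := { φ₀ with commutes' := hC }
  have hφX : ∀ j, φ (MvPowerSeries.X j) = y j := hX
  refine ⟨_, φ, fun σ => smul_powerSeries' σ (hGk σ) φ (fun j => hφX j ▸ hym j) fun j => ?_,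
    fun j => hφX j ▸ hym j, ?_⟩
  · rw [hφX]
    exact MulSemiringAction.smul_coeff_charpoly _ _ _
  · have hx : (Ideal.span (Set.range y)).radical = maximalIdeal A := by
      refine le_antisymm ?_ ?_
      · rw [(maximalIdeal.isMaximal A).isPrime.radical_le_iff, Ideal.span_le]
        rintro _ ⟨j, rfl⟩
        exact hym j
      · rw [← hu, Submodule.span_le]
        rintro _ ⟨i, rfl⟩
        refine ⟨Fintype.card G, ?_⟩
        have h := MulSemiringAction.eval_charpoly G (u i)
        rw [Polynomial.eval_eq_sum_range, hdeg, Finset.sum_range_succ] at h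
        have h1 : (MulSemiringAction.charpoly G (u i)).coeff (Fintype.card G) = 1 := by
          rw [← hdeg i]; exact (MulSemiringAction.monic_charpoly _ _).coeff_natDegree
        rw [h1, one_mul, add_eq_zero_iff_neg_eq] at h
        rw [← h]
        refine neg_mem (Submodule.sum_mem _ fun j hj => Ideal.mul_mem_right _ _ (Ideal.subset_span ?_))
        exact ⟨Fintype.equivFin ι (i, ⟨j, Finset.mem_range.1 hj⟩), by simp [y, c]⟩
    have := (finite_quotient hk (Ideal.span (Set.range y)) hx).1
    let bb := Module.finBasis k (A ⧸ Ideal.span (Set.range y))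
    choose b hb using fun i => Ideal.Quotient.mk_surjective (bb i)
    have hsurj := surjective_lift y hx φ hφX b
      (by rw [show (fun i => Ideal.Quotient.mk _ (b i)) = ⇑bb from funext hb]; exact bb.span_eq)
    letI : Algebra (MvPowerSeries (Fin (Fintype.card ι)) k) A := φ.toRingHom.toAlgebra
    exact Module.Finite.of_surjective (Fintype.linearCombination (MvPowerSeries (Fin (Fintype.card ι)) k) b)
      fun a => by
        obtain ⟨r, hr⟩ := hsurj a
        exact ⟨r, by rw [Fintype.linearCombination_apply]; exact hr⟩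

end Presentation

section Subring

variable (A : Type u) [CommRing A] [IsLocalRing A] (G : Type w) [Group G] [MulSemiringAction G A]

theorem isUnit_fixed {b : FixedPoints.subring A G} (h : IsUnit (b : A)) : IsUnit b := by
  obtain ⟨c, hc⟩ := h.exists_right_inv
  have hc' : c ∈ FixedPoints.subring A G := fun σ => by
    have h1 : (b : A) * σ • c = 1 := by
      conv_lhs => rw [← b.2 σ, ← smul_mul', hc, smul_one]
    calc σ • c = c * ((b : A) * σ • c) + (1 - (b : A) * c) * σ • c := by ring
      _ = c := by rw [h1, hc]; ring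
  exact IsUnit.of_mul_eq_one ⟨c, hc'⟩ (Subtype.ext hc)

theorem isLocalRing_fixed : IsLocalRing (FixedPoints.subring A G) := by
  refine IsLocalRing.of_nonunits_add fun {a b} ha hb h => ?_
  have ha' : (a : A) ∈ maximalIdeal A := fun hu => ha (isUnit_fixed A G hu)
  have hb' : (b : A) ∈ maximalIdeal A := fun hu => hb (isUnit_fixed A G hu)
  exact (maximalIdeal A).add_mem ha' hb' (h.map (FixedPoints.subring A G).subtype)

theorem maximalIdeal_fixed [IsLocalRing (FixedPoints.subring A G)] :
    maximalIdeal (FixedPoints.subring A G) =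
      Ideal.comap (FixedPoints.subring A G).subtype (maximalIdeal A) :=
  Ideal.ext fun b => ⟨fun hb hu => hb (isUnit_fixed A G hu),
    fun hb hu => hb (hu.map (FixedPoints.subring A G).subtype)⟩

variable [Finite G]

theorem isIntegral_fixed : Algebra.IsIntegral (FixedPoints.subring A G) A :=
  haveI : Algebra.IsInvariant (FixedPoints.subring A G) A G := ⟨fun b hb => ⟨⟨b, hb⟩, rfl⟩⟩
  Algebra.IsInvariant.isIntegral _ A G

theorem isIntegrallyClosed_fixed [IsDomain A] [IsIntegrallyClosed A] :
    IsIntegrallyClosed (FixedPoints.subring A G) := by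
  set B := FixedPoints.subring A G
  let L := FractionRing A
  rw [isIntegrallyClosed_iff (FractionRing B)]
  intro z hz
  obtain ⟨b, c, hc, rfl⟩ := IsFractionRing.div_surjective B z
  have hc0 : c ≠ 0 := nonZeroDivisors.ne_zero hc
  let ψ : B →+* L := (algebraMap A L).comp B.subtype
  have hψ : Function.Injective ψ := (IsFractionRing.injective A L).comp Subtype.val_injective
  let Ψ : FractionRing B →+* L := IsFractionRing.lift hψ
  have hΨ : ∀ y : B, Ψ (algebraMap B _ y) = algebraMap A L (y : A) := IsFractionRing.lift_algebraMap hψ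
  obtain ⟨f, hfm, hf⟩ := hz
  have hint : IsIntegral A (Ψ (algebraMap B _ b / algebraMap B _ c)) := by
    refine ⟨f.map B.subtype, hfm.map _, ?_⟩
    rw [Polynomial.eval₂_map, show (algebraMap A L).comp B.subtype = Ψ.comp (algebraMap B _) from
      RingHom.ext fun y => (hΨ y).symm, ← Polynomial.hom_eval₂, hf, map_zero]
  obtain ⟨a, ha⟩ := IsIntegrallyClosed.isIntegral_iff.1 hint
  rw [map_div₀, hΨ, hΨ, eq_div_iff (by simpa using hc0), ← map_mul] at ha
  have hac : a * (c : A) = (b : A) := IsFractionRing.injective A L ha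
  have ha' : a ∈ B := fun σ => by
    refine mul_right_cancel₀ (b := (c : A)) (by simpa using hc0) ?_
    conv_lhs => rw [← c.2 σ, ← smul_mul', hac, b.2 σ, ← hac]
  refine ⟨⟨a, ha'⟩, ?_⟩
  rw [eq_div_iff (by simpa using hc0), ← map_mul]
  exact congrArg _ (Subtype.ext hac)

variable [IsNoetherianRing A] [IsAdicComplete (maximalIdeal A) A]

/-- The invariant ring is complete Noetherian local and the ring is finite over it. -/
theorem fixed_structure {k : Type v} [Field k] [Algebra k A]
    (hk : Function.Surjective (IsLocalRing.residue A ∘ algebraMap k A))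
    (hGk : ∀ (σ : G) (c : k), σ • algebraMap k A c = algebraMap k A c) :
    IsNoetherianRing (FixedPoints.subring A G) ∧ Module.Finite (FixedPoints.subring A G) A ∧
      IsAdicComplete (Ideal.comap (FixedPoints.subring A G).subtype (maximalIdeal A))
        (FixedPoints.subring A G) := by
  classical
  let K := (algebraMap k A).range
  have hKf : IsField K := by
    refine ⟨⟨0, 1, zero_ne_one⟩, mul_comm, fun {a} ha => ?_⟩
    obtain ⟨a, c, rfl⟩ := a
    refine ⟨⟨_, c⁻¹, rfl⟩, Subtype.ext ?_⟩
    have hc : c ≠ 0 := fun h => ha (Subtype.ext (by simp [h]))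
    simp [← map_mul, mul_inv_cancel₀ hc]
  letI : Field K := hKf.toField
  letI : Algebra K A := K.subtype.toAlgebra
  have hk' : Function.Surjective (IsLocalRing.residue A ∘ algebraMap K A) := fun x => by
    obtain ⟨c, hc⟩ := hk x
    exact ⟨⟨_, c, rfl⟩, hc⟩
  have hGK : ∀ (σ : G) (c : K), σ • algebraMap K A c = algebraMap K A c := by
    rintro σ ⟨_, c, rfl⟩
    exact hGk σ c
  obtain ⟨d, φ, hφG, hφm, hφfin⟩ := exists_invariant_presentation K G hk' hGK
  set B := FixedPoints.subring A G
  let R := MvPowerSeries (Fin d) K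
  have := CAlg6.isRegularLocalRing_mvPowerSeries (k := K) (d := d)
  have := CAlg6.isAdicComplete_maximalIdeal (k := K) (d := d)
  letI : Algebra R A := φ.toRingHom.toAlgebra
  haveI : Module.Finite R A := hφfin
  letI : Algebra R B := (φ.toRingHom.codRestrict B fun r σ => hφG σ r).toAlgebra
  haveI : IsScalarTower R B A := IsScalarTower.of_algebraMap_eq' rfl
  haveI : Module.Finite R B := Module.Finite.of_injective
    (IsScalarTower.toAlgHom R B A).toLinearMap Subtype.val_injective
  have hN : IsNoetherianRing B := isNoetherian_of_tower R inferInstance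
  refine ⟨hN, Module.Finite.of_restrictScalars_finite R B A, ?_⟩
  have := isLocalRing_fixed A G
  rw [← maximalIdeal_fixed A G]
  have := SGA3a.isAdicComplete_map_of_finite (A := R) B
  set J := (maximalIdeal R).map (algebraMap R B)
  have hrad : maximalIdeal B ≤ J.radical := by
    rw [Ideal.radical_eq_sInf]
    refine le_sInf fun P ⟨hP, hPp⟩ => ?_
    have : (P.comap (algebraMap R B)).IsMaximal := by
      rw [← (maximalIdeal.isMaximal R).eq_of_le (Ideal.IsPrime.comap _).ne_top
        (Ideal.map_le_iff_le_comap.1 hP)]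
      exact maximalIdeal.isMaximal R
    have := Ideal.isMaximal_of_isIntegral_of_isMaximal_comap P this
    rw [IsLocalRing.eq_maximalIdeal this]
  obtain ⟨N, hNle⟩ := Ideal.exists_pow_le_of_le_radical_of_fg hrad (IsNoetherian.noetherian _)
  have hle : maximalIdeal B ^ (N + 1) ≤ J := (Ideal.pow_le_pow_right N.le_succ).trans hNle
  have := CAlg1.isAdicComplete_of_le (M := B) hle (IsNoetherian.noetherian _)
  exact Frg27.isAdicComplete_of_pow (N := N)

end Subring

end Groth.Agent.WildQuot51
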