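import Mathlib
import Groth.Agent.EGA4Alg4.SepVars
import Groth.Agent.EGA4Alg4.IntegralDim
import Groth.Agent.CAlg1.Regular
import Groth.Agent.CAlg1.Complete
import Groth.Agent.Frg27.RigClosed
import Groth.Agent.SGA3a.FiniteComplete

/-!
The algebra `R[u_1, …, u_n] / (u_i ^ p - β_i u_i - c_i)`.
-/

set_option autoImplicit false

universe u v w

namespace Groth.Agent.WildQuot51

open MvPolynomial IsLocalRing Module

variable (p : ℕ) {R : Type u} [CommRing R] {n : ℕ} (β c : Fin n → R)

/-- The ideal of the family. -/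
noncomputable abbrev famIdeal : Ideal (MvPolynomial (Fin n) R) :=
  Ideal.span (Set.range fun i : Fin n => X i ^ p - C (β i) * X i - C (c i))

/-- The family algebra. -/
abbrev Fam : Type u := MvPolynomial (Fin n) R ⧸ famIdeal p β c

/-- The generators. -/
noncomputable abbrev famU (i : Fin n) : Fam p β c := Ideal.Quotient.mk _ (X i)

theorem famU_pow (i : Fin n) :
    famU p β c i ^ p = algebraMap R _ (β i) * famU p β c i + algebraMap R _ (c i) := by
  rw [← sub_eq_zero, ← sub_sub, IsScalarTower.algebraMap_apply R (MvPolynomial (Fin n) R) (Fam p β c) (β i),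
    IsScalarTower.algebraMap_apply R (MvPolynomial (Fin n) R) (Fam p β c) (c i),
    Ideal.Quotient.algebraMap_eq, ← map_pow, ← map_mul, ← map_sub, ← map_sub,
    Ideal.Quotient.eq_zero_iff_mem]
  exact Ideal.subset_span ⟨i, rfl⟩

theorem fam_finite_free [Nontrivial R] (hp : 2 ≤ p) :
    Module.Free R (Fam p β c) ∧ Module.Finite R (Fam p β c) ∧
      Module.finrank R (Fam p β c) = p ^ n := by
  let F : Fin n → Polynomial R := fun i =>
    Polynomial.X ^ p - (Polynomial.C (β i) * Polynomial.X + Polynomial.C (c i))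
  have hdeg : ∀ i, (Polynomial.C (β i) * Polynomial.X + Polynomial.C (c i)).natDegree < p := fun i =>
    lt_of_le_of_lt (Polynomial.natDegree_linear_le) hp
  have hmon : ∀ i, (F i).Monic := fun i => Polynomial.monic_X_pow_sub
    (lt_of_le_of_lt Polynomial.degree_le_natDegree (by exact_mod_cast hdeg i))
  have hnd : ∀ i, (F i).natDegree = p := fun i => by
    rw [Polynomial.natDegree_sub_eq_left_of_natDegree_lt (by rw [Polynomial.natDegree_X_pow]; exact hdeg i),
      Polynomial.natDegree_X_pow]
  have hI : EGA4Alg4.SepVars13.sepIdeal F = famIdeal p β c := by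
    refine congrArg (fun f : Fin n → MvPolynomial (Fin n) R => Ideal.span (Set.range f)) (funext fun i => ?_)
    simp [F, sub_sub]
  obtain ⟨h1, h2, h3⟩ := EGA4Alg4.SepVars13.free_and_finrank F hmon
  let e := (Ideal.quotientEquivAlgOfEq R hI).toLinearEquiv
  refine ⟨Module.Free.of_equiv e, Module.Finite.equiv e, ?_⟩
  rw [← e.finrank_eq, h3, Finset.prod_congr rfl fun i _ => hnd i, Finset.prod_const, Finset.card_univ,
    Fintype.card_fin]

/-- Maps out of the family. -/
theorem exists_famHom {S : Type v} [CommRing S] [Algebra R S] (v : Fin n → S)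
    (hv : ∀ i, v i ^ p = algebraMap R S (β i) * v i + algebraMap R S (c i)) :
    ∃ φ : Fam p β c →ₐ[R] S, ∀ i, φ (famU p β c i) = v i := by
  refine ⟨Ideal.Quotient.liftₐ _ (aeval v) fun a ha => ?_, fun i => aeval_X v i⟩
  refine (Ideal.span_le (I := RingHom.ker (aeval v).toRingHom)).2 ?_ ha
  rintro _ ⟨i, rfl⟩
  simp [RingHom.mem_ker, hv i]

theorem famHom_ext {S : Type v} [CommRing S] [Algebra R S] {φ ψ : Fam p β c →ₐ[R] S}
    (h : ∀ i, φ (famU p β c i) = ψ (famU p β c i)) : φ = ψ :=
  Ideal.Quotient.algHom_ext _ (MvPolynomial.algHom_ext h)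

/-- The monomials in the generators. -/
noncomputable def famMono (e : Fin n → Fin p) : Fam p β c := ∏ i, famU p β c i ^ (e i : ℕ)

theorem span_famMono (hp : 2 ≤ p) : Submodule.span R (Set.range (famMono p β c)) = ⊤ := by
  classical
  set M := Submodule.span R (Set.range (famMono p β c))
  have h1 : (1 : Fam p β c) ∈ M :=
    Submodule.subset_span ⟨fun _ => ⟨0, by omega⟩, by simp [famMono]⟩
  have hmul : ∀ i, ∀ x ∈ M, x * famU p β c i ∈ M := by
    intro i x hx
    induction hx using Submodule.span_induction with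
    | mem x hx =>
      obtain ⟨e, rfl⟩ := hx
      have hupd : ∀ d : Fin p, famMono p β c (Function.update e i d) =
          famU p β c i ^ (d : ℕ) * ∏ j ∈ Finset.univ.erase i, famU p β c j ^ (e j : ℕ) := fun d => by
        rw [famMono, ← Finset.mul_prod_erase _ _ (Finset.mem_univ i), Function.update_self]
        exact congrArg _ (Finset.prod_congr rfl fun j hj => by
          rw [Function.update_of_ne (Finset.ne_of_mem_erase hj)])
      have he : famMono p β c e * famU p β c i = famU p β c i ^ ((e i : ℕ) + 1) *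
          ∏ j ∈ Finset.univ.erase i, famU p β c j ^ (e j : ℕ) := by
        rw [famMono, ← Finset.mul_prod_erase _ _ (Finset.mem_univ i), pow_succ]; ring
      rw [he]
      by_cases hlt : (e i : ℕ) + 1 < p
      · exact Submodule.subset_span ⟨Function.update e i ⟨_, hlt⟩, hupd _⟩
      · have heq : (e i : ℕ) + 1 = p := by have := (e i).2; omega
        rw [heq, famU_pow, add_mul, mul_assoc, ← Algebra.smul_def, ← Algebra.smul_def]
        refine add_mem (Submodule.smul_mem _ _ (Submodule.subset_span
          ⟨Function.update e i ⟨1, by omega⟩, ?_⟩)) (Submodule.smul_mem _ _ (Submodule.subset_span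
          ⟨Function.update e i ⟨0, by omega⟩, ?_⟩))
        · rw [hupd, pow_one]
        · rw [hupd, pow_zero, one_mul]
    | zero => rw [zero_mul]; exact zero_mem _
    | add x y _ _ hx hy => rw [add_mul]; exact add_mem hx hy
    | smul r x _ hx => rw [smul_mul_assoc]; exact Submodule.smul_mem _ _ hx
  refine top_le_iff.1 fun a _ => ?_
  obtain ⟨f, rfl⟩ := Ideal.Quotient.mk_surjective a
  clear ‹Ideal.Quotient.mk _ f ∈ ⊤›
  induction f using MvPolynomial.induction_on with
  | C r =>
    rw [show Ideal.Quotient.mk (famIdeal p β c) (C r) = r • (1 : Fam p β c) from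
      (show algebraMap R (Fam p β c) r = _ from Algebra.algebraMap_eq_smul_one r)]
    exact Submodule.smul_mem _ _ h1
  | add f g hf hg => rw [map_add]; exact add_mem hf hg
  | mul_X f i hf => rw [map_mul]; exact hmul i _ hf

/-- The monomial basis. -/
theorem exists_famBasis [Nontrivial R] (hp : 2 ≤ p) :
    ∃ B : Basis (Fin n → Fin p) R (Fam p β c), ∀ e, B e = famMono p β c e := by
  obtain ⟨hfree, hfin, hrk⟩ := fam_finite_free p β c hp
  exact ⟨basisOfTopLeSpanOfCardEqFinrank (famMono p β c) (span_famMono p β c hp).ge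
    (by rw [hrk, Fintype.card_fun, Fintype.card_fin, Fintype.card_fin]), fun e => by simp⟩

end Groth.Agent.WildQuot51

namespace Groth.Agent.WildQuot51

open MvPolynomial IsLocalRing Module

variable (p : ℕ) {R : Type u} [CommRing R] [IsRegularLocalRing R] {n : ℕ} (β c : Fin n → R)

set_option maxHeartbeats 400000 in
/-- With parameters as constants the family is regular, with maximal ideal generated by the
generators, and complete if the base is. -/
theorem fam_regular (hp : 2 ≤ p) (hn : ringKrullDim R = n)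
    (hc : Ideal.span (Set.range c) = maximalIdeal R) (hβ : ∀ i, β i ∈ maximalIdeal R) :
    IsRegularLocalRing (Fam p β c) ∧
      (Ideal.span (Set.range (famU p β c))).IsMaximal ∧
      (maximalIdeal R).map (algebraMap R (Fam p β c)) ≤ Ideal.span (Set.range (famU p β c)) ^ p := by
  haveI := CAlg1.isDomain_regular R
  obtain ⟨hfree, hfin, hrk⟩ := fam_finite_free p β c hp
  haveI : Algebra.IsIntegral R (Fam p β c) := Algebra.IsIntegral.of_finite R _
  haveI : Nontrivial (Fam p β c) := Module.nontrivial_of_finrank_pos (R := R)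
    (by rw [hrk]; exact pow_pos (by omega) n)
  haveI : IsNoetherianRing (Fam p β c) := isNoetherian_of_tower R inferInstance
  set U := Ideal.span (Set.range (famU p β c))
  set mA := (maximalIdeal R).map (algebraMap R (Fam p β c))
  have hmU : mA ≤ U := by
    rw [Ideal.map_le_iff_le_comap]
    conv_lhs => rw [← hc]
    rw [Ideal.span_le]
    rintro _ ⟨i, rfl⟩
    have h := famU_pow p β c i
    rw [add_comm, ← sub_eq_iff_eq_add] at h
    rw [SetLike.mem_coe, Ideal.mem_comap, ← h]
    exact sub_mem (Ideal.pow_mem_of_mem U (Ideal.subset_span ⟨i, rfl⟩) p (by omega))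
      (Ideal.mul_mem_left _ _ (Ideal.subset_span ⟨i, rfl⟩))
  have hUM : ∀ M : Ideal (Fam p β c), M.IsMaximal → U ≤ M := by
    intro M hM
    have hmax : (M.comap (algebraMap R (Fam p β c))).IsMaximal :=
      Ideal.isMaximal_comap_of_isIntegral_of_isMaximal M
    have hMR : M.comap (algebraMap R (Fam p β c)) = maximalIdeal R := IsLocalRing.eq_maximalIdeal hmax
    rw [Ideal.span_le]
    rintro _ ⟨i, rfl⟩
    refine hM.isPrime.mem_of_pow_mem p ?_
    rw [famU_pow]
    exact add_mem (Ideal.mul_mem_right _ _ (hMR.ge (hβ i)))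
      (hMR.ge (hc.le (Ideal.subset_span ⟨i, rfl⟩)))
  have hrep : ∀ a : Fam p β c, ∃ r : R, a - algebraMap R _ r ∈ U := by
    intro a
    obtain ⟨f, rfl⟩ := Ideal.Quotient.mk_surjective a
    induction f using MvPolynomial.induction_on with
    | C r => exact ⟨r, by simp [IsScalarTower.algebraMap_apply R (MvPolynomial (Fin n) R) (Fam p β c)]⟩
    | add f g hf hg =>
      obtain ⟨r, hr⟩ := hf
      obtain ⟨s, hs⟩ := hg
      exact ⟨r + s, by rw [map_add, map_add, add_sub_add_comm]; exact add_mem hr hs⟩
    | mul_X f i _ =>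
      exact ⟨0, by rw [map_zero, sub_zero, map_mul]; exact Ideal.mul_mem_left _ _ (Ideal.subset_span ⟨i, rfl⟩)⟩
  obtain ⟨M, hM⟩ := Ideal.exists_maximal (Fam p β c)
  have hUmax : U.IsMaximal := by
    refine Ideal.isMaximal_iff.2 ⟨fun h => hM.ne_top ((Ideal.eq_top_iff_one M).2 (hUM M hM h)),
      fun J a hJ haU haJ => ?_⟩
    obtain ⟨r, hr⟩ := hrep a
    have hrU : algebraMap R (Fam p β c) r ∉ U := fun h => haU (by simpa using add_mem hr h)
    have hru : IsUnit r := by
      by_contra hru
      exact hrU (hmU (Ideal.mem_map_of_mem _ ((mem_maximalIdeal r).2 hru)))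
    have hrJ : algebraMap R (Fam p β c) r ∈ J := by simpa using sub_mem haJ (hJ hr)
    exact (Ideal.eq_top_iff_one J).1 (Ideal.eq_top_of_isUnit_mem J hrJ (hru.map _))
  haveI : IsLocalRing (Fam p β c) := IsLocalRing.of_unique_max_ideal
    ⟨U, hUmax, fun M hM => (hUmax.eq_of_le hM.ne_top (hUM M hM)).symm⟩
  have hU : maximalIdeal (Fam p β c) = U := (IsLocalRing.eq_maximalIdeal hUmax).symm
  have hinj : Function.Injective (algebraMap R (Fam p β c)) :=
    (faithfulSMul_iff_algebraMap_injective R _).1 inferInstance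
  have hd := EGA4Alg4.ringKrullDim_eq_of_integral R (Fam p β c) hinj
  have hreg : IsRegularLocalRing (Fam p β c) := by
    refine IsRegularLocalRing.of_spanFinrank_maximalIdeal_le _ ?_
    rw [hd, hn, hU]
    refine WithBot.coe_le_coe.2 (Nat.cast_le.2 ?_)
    refine (Submodule.spanFinrank_span_le_ncard_of_finite (Set.finite_range _)).trans ?_
    rw [← Nat.card_coe_set_eq]
    exact (Finite.card_range_le _).trans (Nat.card_fin n).le
  refine ⟨hreg, hUmax, ?_⟩
  refine Submodule.le_of_le_smul_of_le_jacobson_bot (IsNoetherian.noetherian _)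
    (IsLocalRing.maximalIdeal_le_jacobson _) ?_
  rw [hU, smul_eq_mul, Ideal.map_le_iff_le_comap]
  conv_lhs => rw [← hc]
  rw [Ideal.span_le]
  rintro _ ⟨i, rfl⟩
  have h := famU_pow p β c i
  rw [add_comm, ← sub_eq_iff_eq_add] at h
  rw [SetLike.mem_coe, Ideal.mem_comap, ← h]
  have hiU : famU p β c i ∈ U := Ideal.subset_span ⟨i, rfl⟩
  have h1 : famU p β c i ^ p ∈ U ^ p := Ideal.pow_mem_pow hiU p
  have h2 : algebraMap R (Fam p β c) (β i) * famU p β c i ∈ U * mA := by
    rw [mul_comm]
    exact Ideal.mul_mem_mul hiU (Ideal.mem_map_of_mem _ (hβ i))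
  exact sub_mem (Submodule.mem_sup_left h1) (Submodule.mem_sup_right h2)

/-- Completeness of the family over a complete base. -/
theorem fam_complete (hp : 2 ≤ p) (hn : ringKrullDim R = n)
    (hc : Ideal.span (Set.range c) = maximalIdeal R) (hβ : ∀ i, β i ∈ maximalIdeal R)
    [IsAdicComplete (maximalIdeal R) R] :
    IsAdicComplete (Ideal.span (Set.range (famU p β c))) (Fam p β c) := by
  haveI := CAlg1.isDomain_regular R
  obtain ⟨hreg, hUmax, -⟩ := fam_regular p β c hp hn hc hβ
  haveI : Module.Finite R (Fam p β c) := (fam_finite_free p β c hp).2.1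
  have := SGA3a.isAdicComplete_map_of_finite (A := R) (Fam p β c)
  set mA := (maximalIdeal R).map (algebraMap R (Fam p β c))
  set U := Ideal.span (Set.range (famU p β c))
  have hrad : U ≤ mA.radical := by
    rw [Ideal.span_le]
    rintro _ ⟨i, rfl⟩
    refine ⟨p, ?_⟩
    rw [famU_pow]
    exact add_mem (Ideal.mul_mem_right _ _ (Ideal.mem_map_of_mem _ (hβ i)))
      (Ideal.mem_map_of_mem _ (hc.le (Ideal.subset_span ⟨i, rfl⟩)))
  obtain ⟨N, hN⟩ := Ideal.exists_pow_le_of_le_radical_of_fg hrad (IsNoetherian.noetherian _)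
  have hle : U ^ (N + 1) ≤ mA := (Ideal.pow_le_pow_right N.le_succ).trans hN
  have := CAlg1.isAdicComplete_of_le (M := Fam p β c) hle (IsNoetherian.noetherian _)
  exact Frg27.isAdicComplete_of_pow (N := N)

end Groth.Agent.WildQuot51
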