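import Mathlib
import Groth.Agent.WildQuot51.Family

/-!
Automorphisms of the family: the translations, and they cut out the base.
-/

set_option autoImplicit false

universe u v w

namespace Groth.Agent.WildQuot51

open MvPolynomial IsLocalRing Module

/-- The solutions of `y ^ p = y` in a field of characteristic `p`. -/
theorem exists_cast_of_pow_eq (p : ℕ) [hp : Fact p.Prime] {M : Type u} [Field M] [CharP M p] {y : M}
    (hy : y ^ p = y) : ∃ j : ZMod p, ZMod.castHom dvd_rfl M j = y := by
  classical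
  by_contra hne
  push Not at hne
  let P : Polynomial M := Polynomial.X ^ p - Polynomial.X
  have hP : P.natDegree = p := by
    show (Polynomial.X ^ p - Polynomial.X : Polynomial M).natDegree = p
    rw [Polynomial.natDegree_sub_eq_left_of_natDegree_lt
      (by rw [Polynomial.natDegree_X_pow, Polynomial.natDegree_X]; exact hp.out.one_lt),
      Polynomial.natDegree_X_pow]
  have hP0 : P ≠ 0 := fun h => by rw [h, Polynomial.natDegree_zero] at hP; exact hp.out.ne_zero hP.symm
  let s : Finset M := insert y (Finset.univ.image (ZMod.castHom (dvd_refl p) M))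
  have hcard : s.card = p + 1 := by
    rw [Finset.card_insert_of_notMem (by simpa using hne),
      Finset.card_image_of_injective _ (ZMod.castHom_injective M), Finset.card_univ, ZMod.card]
  have hs : s.val ⊆ P.roots := by
    intro z hz
    rw [Polynomial.mem_roots hP0]
    rcases Finset.mem_insert.1 hz with rfl | hz
    · simp [P, hy]
    · obtain ⟨j, -, rfl⟩ := Finset.mem_image.1 hz
      simp only [P, Polynomial.IsRoot, Polynomial.eval_sub, Polynomial.eval_pow, Polynomial.eval_X]
      rw [← map_pow, ZMod.pow_card, sub_self]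
  have := Polynomial.card_le_degree_of_subset_roots hs
  rw [hcard, hP] at this
  omega

/-- Two solutions of the same equation differ by a multiple of the translation. -/
theorem exists_translate (p : ℕ) [hp : Fact p.Prime] {A : Type u} [CommRing A] [IsDomain A] [CharP A p]
    {a v w : A} (h : v ^ p - w ^ p = a ^ (p - 1) * (v - w)) :
    ∃ j : ZMod p, v = w + ZMod.castHom dvd_rfl A j * a := by
  have hd : (v - w) ^ p = a ^ (p - 1) * (v - w) := by rw [sub_pow_char]; exact h
  have h1 : p = p - 1 + 1 := (Nat.sub_add_cancel hp.out.pos).symm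
  by_cases ha : a = 0
  · rw [ha, zero_pow (by have := hp.out.one_lt; omega), zero_mul] at hd
    exact ⟨0, by rw [map_zero, zero_mul, add_zero, ← sub_eq_zero, eq_zero_of_pow_eq_zero hd]⟩
  let K := FractionRing A
  let μ := algebraMap A K
  haveI : CharP K p := charP_of_injective_algebraMap (IsFractionRing.injective A K) p
  have hμa : μ a ≠ 0 := (map_ne_zero_iff _ (IsFractionRing.injective A K)).2 ha
  have hy : (μ (v - w) / μ a) ^ p = μ (v - w) / μ a := by
    rw [div_pow, ← map_pow, hd, map_mul, map_pow, div_eq_div_iff (pow_ne_zero _ hμa) hμa]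
    conv_rhs => rw [h1, pow_succ]
    ring
  obtain ⟨j, hj⟩ := exists_cast_of_pow_eq p hy
  rw [eq_div_iff hμa] at hj
  refine ⟨j, ?_⟩
  have : μ (ZMod.castHom dvd_rfl A j * a) = μ (v - w) := by
    rw [← hj, map_mul]
    exact congrArg (· * μ a) (RingHom.congr_fun (RingHom.ext_zmod (μ.comp (ZMod.castHom dvd_rfl A))
      (ZMod.castHom dvd_rfl K)) j)
  rw [IsFractionRing.injective A K this]
  ring

variable (p : ℕ) [hp : Fact p.Prime] {R : Type u} [CommRing R] [CharP R p] {n : ℕ} (a c : Fin n → R)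

local notation "𝔸" => Fam p (fun i => a i ^ (p - 1)) c

/-- The translations. -/
theorem exists_famTranslation (ν : Fin n → ZMod p) :
    ∃ φ : 𝔸 ≃ₐ[R] 𝔸, ∀ i, φ (famU p _ c i) =
      famU p _ c i + algebraMap R 𝔸 (ZMod.castHom dvd_rfl R (ν i) * a i) := by
  have hmk : ∀ μ : Fin n → ZMod p, ∃ φ : 𝔸 →ₐ[R] 𝔸, ∀ i, φ (famU p _ c i) =
      famU p _ c i + algebraMap R 𝔸 (ZMod.castHom dvd_rfl R (μ i) * a i) := by
    intro μ
    refine exists_famHom p _ c _ fun i => ?_
    rcases subsingleton_or_nontrivial 𝔸 with hs | hn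
    · exact Subsingleton.elim _ _
    haveI : CharP 𝔸 p := (CharP.charP_iff_prime_eq_zero hp.out).2 (by
      rw [← map_natCast (algebraMap R 𝔸), CharP.cast_eq_zero, map_zero])
    rw [add_pow_char, famU_pow, ← map_pow, mul_pow, ← map_pow (ZMod.castHom dvd_rfl R), ZMod.pow_card,
      show a i ^ p = a i ^ (p - 1) * a i by rw [← pow_succ, Nat.sub_add_cancel hp.out.pos]]
    simp only [map_mul]
    ring
  obtain ⟨φ, hφ⟩ := hmk ν
  obtain ⟨ψ, hψ⟩ := hmk (-ν)
  refine ⟨AlgEquiv.ofAlgHom φ ψ (famHom_ext p _ c fun i => ?_) (famHom_ext p _ c fun i => ?_), hφ⟩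
  · rw [AlgHom.comp_apply, hψ, map_add, hφ, AlgHom.commutes, AlgHom.id_apply, add_assoc, ← map_add,
      ← add_mul, Pi.neg_apply, map_neg, add_neg_cancel, zero_mul, map_zero, add_zero]
  · rw [AlgHom.comp_apply, hφ, map_add, hψ, AlgHom.commutes, AlgHom.id_apply, add_assoc, ← map_add,
      ← add_mul, Pi.neg_apply, map_neg, neg_add_cancel, zero_mul, map_zero, add_zero]

variable [IsDomain R] [IsDomain (Fam p (fun i => a i ^ (p - 1)) c)] (ha : ∀ i, a i ≠ 0)

include ha in
/-- The automorphisms are the translations. -/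
theorem famAut_equiv : ∃ e : (Fin n → ZMod p) ≃ (𝔸 ≃ₐ[R] 𝔸), ∀ ν i, e ν (famU p _ c i) =
    famU p _ c i + algebraMap R 𝔸 (ZMod.castHom dvd_rfl R (ν i) * a i) := by
  obtain ⟨hfree, -, -⟩ := fam_finite_free p (fun i => a i ^ (p - 1)) c hp.out.two_le
  have hinj : Function.Injective (algebraMap R 𝔸) :=
    (faithfulSMul_iff_algebraMap_injective R _).1 inferInstance
  haveI : CharP 𝔸 p := charP_of_injective_algebraMap hinj p
  choose T hT using exists_famTranslation p a c
  refine ⟨Equiv.ofBijective T ⟨fun μ ν h => funext fun i => ?_, fun σ => ?_⟩, hT⟩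
  · have h' := congrArg (fun φ : 𝔸 ≃ₐ[R] 𝔸 => φ (famU p _ c i)) h
    simp only [hT, add_right_inj, hinj.eq_iff, mul_eq_mul_right_iff, ha i, or_false] at h'
    exact ZMod.castHom_injective R h'
  · have hex : ∀ i, ∃ j : ZMod p, σ (famU p _ c i) =
        famU p _ c i + ZMod.castHom dvd_rfl 𝔸 j * algebraMap R 𝔸 (a i) := fun i =>
      exists_translate p (by
        rw [← map_pow σ, famU_pow, map_add, map_mul, AlgEquiv.commutes, AlgEquiv.commutes, map_pow]
        ring)
    choose ν hν using hex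
    refine ⟨ν, AlgEquiv.coe_algHom_injective (famHom_ext p _ c fun i => ?_)⟩
    show T ν (famU p _ c i) = σ (famU p _ c i)
    rw [hT, hν, map_mul]
    exact congrArg (fun z => _ + z * _) (RingHom.congr_fun (RingHom.ext_zmod
      ((algebraMap R 𝔸).comp (ZMod.castHom dvd_rfl R)) (ZMod.castHom dvd_rfl 𝔸)) (ν i))

include ha in
/-- The automorphism group is elementary abelian of order `p ^ n`. -/
theorem famAut_group :
    Nat.card (𝔸 ≃ₐ[R] 𝔸) = p ^ n ∧ (∀ σ τ : 𝔸 ≃ₐ[R] 𝔸, σ * τ = τ * σ) ∧
      ∀ σ : 𝔸 ≃ₐ[R] 𝔸, σ ^ p = 1 := by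
  obtain ⟨e, he⟩ := famAut_equiv p a c ha
  have hmul : ∀ μ ν, e μ * e ν = e (μ + ν) := fun μ ν => AlgEquiv.coe_algHom_injective
    (famHom_ext p _ c fun i => by
      show e μ (e ν (famU p _ c i)) = e (μ + ν) (famU p _ c i)
      rw [he, map_add, he, AlgEquiv.commutes, he, add_assoc, ← map_add, ← add_mul, Pi.add_apply, map_add])
  have hone : e 0 = 1 := AlgEquiv.coe_algHom_injective (famHom_ext p _ c fun i => by
    show e 0 (famU p _ c i) = famU p _ c i
    rw [he, Pi.zero_apply, map_zero, zero_mul, map_zero, add_zero])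
  refine ⟨?_, fun σ τ => ?_, fun σ => ?_⟩
  · rw [← Nat.card_congr e, Nat.card_fun, Nat.card_fin, Nat.card_zmod]
  · obtain ⟨μ, rfl⟩ := e.surjective σ
    obtain ⟨ν, rfl⟩ := e.surjective τ
    rw [hmul, hmul, add_comm]
  · obtain ⟨μ, rfl⟩ := e.surjective σ
    have hpow : ∀ m : ℕ, e μ ^ m = e (m • μ) := fun m => by
      induction m with
      | zero => rw [pow_zero, zero_nsmul, hone]
      | succ m ih => rw [pow_succ, ih, hmul, succ_nsmul]
    rw [hpow, show p • μ = 0 from funext fun i => by simp [CharP.cast_eq_zero], hone]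

include ha in
/-- The invariants are the base. -/
theorem famAut_fixed [IsIntegrallyClosed R] (b : 𝔸) :
    (∀ σ : 𝔸 ≃ₐ[R] 𝔸, σ b = b) ↔ b ∈ Set.range (algebraMap R 𝔸) := by
  refine ⟨fun hb => ?_, fun ⟨r, hr⟩ σ => hr ▸ σ.commutes r⟩
  obtain ⟨hfree, hfin, hrk⟩ := fam_finite_free p (fun i => a i ^ (p - 1)) c hp.out.two_le
  have hinj : Function.Injective (algebraMap R 𝔸) :=
    (faithfulSMul_iff_algebraMap_injective R _).1 inferInstance
  let K := FractionRing R
  let L := FractionRing 𝔸
  letI := FractionRing.liftAlgebra R L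
  haveI : Algebra.IsIntegral R 𝔸 := Algebra.IsIntegral.of_finite R 𝔸
  haveI : FiniteDimensional K L := Module.Finite.of_isLocalization R 𝔸 (nonZeroDivisors R)
  let Ext : (𝔸 ≃ₐ[R] 𝔸) → (L ≃ₐ[K] L) := fun σ => IsFractionRing.fieldEquivOfAlgEquiv K L L σ
  have hExt : Function.Injective Ext := fun σ τ h => AlgEquiv.ext fun x =>
    IsFractionRing.injective 𝔸 L (by
      rw [← IsFractionRing.fieldEquivOfAlgEquiv_algebraMap K L L σ x,
        ← IsFractionRing.fieldEquivOfAlgEquiv_algebraMap K L L τ x]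
      exact AlgEquiv.congr_fun h _)
  have hrkL : finrank K L = p ^ n := by rw [IsFractionRing.finrank_eq R K 𝔸 L, hrk]
  have hcard : Nat.card (L ≃ₐ[K] L) ≤ finrank K L := by
    rw [Nat.card_eq_fintype_card]; exact AlgEquiv.card_le
  have hge : finrank K L ≤ Nat.card (L ≃ₐ[K] L) := by
    rw [hrkL, ← (famAut_group p a c ha).1]
    exact Nat.card_le_card_of_injective Ext hExt
  have heq := le_antisymm hcard hge
  haveI : IsGalois K L := IsGalois.of_card_aut_eq_finrank K L heq
  have hsurj : Function.Surjective Ext :=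
    ((Nat.bijective_iff_injective_and_card Ext).2
      ⟨hExt, by rw [(famAut_group p a c ha).1, heq, hrkL]⟩).2
  have hx : algebraMap 𝔸 L b ∈ Set.range (algebraMap K L) := by
    refine IntermediateField.mem_bot.1 ((IsGalois.mem_bot_iff_fixed _).2 fun f => ?_)
    obtain ⟨σ, rfl⟩ := hsurj f
    exact (IsFractionRing.fieldEquivOfAlgEquiv_algebraMap K L L σ b).trans (congrArg _ (hb σ))
  obtain ⟨x, hx⟩ := hx
  have hintx : IsIntegral R x := by
    rw [← isIntegral_algebraMap_iff (algebraMap K L).injective (R := R), hx]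
    exact (Algebra.IsIntegral.isIntegral b).map (IsScalarTower.toAlgHom R 𝔸 L)
  obtain ⟨r, hr⟩ := IsIntegrallyClosed.isIntegral_iff.1 hintx
  refine ⟨r, IsFractionRing.injective 𝔸 L ?_⟩
  rw [← hx, ← hr, ← IsScalarTower.algebraMap_apply, ← IsScalarTower.algebraMap_apply]

end Groth.Agent.WildQuot51
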