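import Mathlib
import Groth.Agent.WildQuot51.Invariant
import Groth.Agent.LC16.SopRegular
import Groth.Agent.CAlg1.CMPoly

/-!
Admissible systems of parameters for a finite group action: primary norms, triangular systems, the
length of the quotient by the norms.
-/

set_option autoImplicit false

universe u v w

namespace Groth.Agent.WildQuot51

open IsLocalRing Module

section Primary

variable {A : Type u} [CommRing A] [IsLocalRing A] {G : Type v} [Group G] [MulSemiringAction G A]
  {n : ℕ}

/-- A tuple of products is primary as soon as all tuples of factors are. -/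
theorem le_radical_prod (u : Fin n → A) (T : Fin n → Finset G) (J : Ideal A)
    (h : ∀ τ : Fin n → G, (∀ i, τ i ∈ T i) → J ≤ (Ideal.span (Set.range fun i => τ i • u i)).radical) :
    J ≤ (Ideal.span (Set.range fun i => ∏ σ ∈ T i, σ • u i)).radical := by
  rw [Ideal.radical_eq_sInf]
  refine le_sInf fun P ⟨hP, hPp⟩ => ?_
  have : ∀ i, ∃ σ ∈ T i, σ • u i ∈ P := fun i =>
    hPp.prod_mem_iff.1 (hP (Ideal.subset_span ⟨i, rfl⟩))
  choose τ hτ hτP using this
  refine (h τ hτ).trans ((hPp.radical_le_iff).2 (Ideal.span_le.2 ?_))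
  rintro _ ⟨i, rfl⟩
  exact hτP i

theorem radical_norms_iff [Fintype G] (u : Fin n → A) (J : Ideal A) :
    J ≤ (Ideal.span (Set.range fun i => ∏ σ : G, σ • u i)).radical ↔
      ∀ τ : Fin n → G, J ≤ (Ideal.span (Set.range fun i => τ i • u i)).radical := by
  classical
  refine ⟨fun h τ => h.trans (Ideal.radical_mono (Ideal.span_le.2 ?_)),
    fun h => le_radical_prod u (fun _ => Finset.univ) J fun τ _ => h τ⟩
  rintro _ ⟨i, rfl⟩
  show ∏ σ : G, σ • u i ∈ Ideal.span (Set.range fun j => τ j • u j)
  rw [← Finset.mul_prod_erase _ _ (Finset.mem_univ (τ i))]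
  exact Ideal.mul_mem_right _ _ (Ideal.subset_span ⟨i, rfl⟩)

end Primary

section Length

variable {A : Type u} [CommRing A]

theorem length_sup_span_mul_le (K : Ideal A) (a b : A) :
    Module.length A (A ⧸ (K ⊔ Ideal.span {a * b})) ≤
      Module.length A (A ⧸ (K ⊔ Ideal.span {a})) + Module.length A (A ⧸ (K ⊔ Ideal.span {b})) ∧
    ((∀ z, z * b ∈ K → z ∈ K) → Module.length A (A ⧸ (K ⊔ Ideal.span {a})) +
      Module.length A (A ⧸ (K ⊔ Ideal.span {b})) ≤ Module.length A (A ⧸ (K ⊔ Ideal.span {a * b}))) := by
  set Ia := K ⊔ Ideal.span {a}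
  set Ib := K ⊔ Ideal.span {b}
  set I := K ⊔ Ideal.span {a * b}
  have hIb : I ≤ Ib := sup_le_sup_left
    (Ideal.span_singleton_le_span_singleton.2 (dvd_mul_left b a)) K
  have hf : Ia ≤ Submodule.comap (LinearMap.mulRight A b) I := by
    refine sup_le (fun z hz => Submodule.mem_sup_left (Ideal.mul_mem_right _ _ hz)) ?_
    rw [Ideal.span_le, Set.singleton_subset_iff]
    exact Submodule.mem_sup_right (Ideal.mem_span_singleton_self _)
  let f : (A ⧸ Ia) →ₗ[A] A ⧸ I := Submodule.mapQ Ia I (LinearMap.mulRight A b) hf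
  let g : (A ⧸ I) →ₗ[A] A ⧸ Ib := Submodule.factor hIb
  have hg : Function.Surjective g := Submodule.factor_surjective hIb
  have hex : Function.Exact (LinearMap.range f).subtype g := by
    rw [LinearMap.exact_iff, Submodule.range_subtype]
    refine le_antisymm (fun q hq => ?_) ?_
    · obtain ⟨x, rfl⟩ := Submodule.Quotient.mk_surjective _ q
      have hx : x ∈ Ib := (Submodule.Quotient.mk_eq_zero _).1 hq
      obtain ⟨y, hy, z, hz, rfl⟩ := Submodule.mem_sup.1 hx
      obtain ⟨c, rfl⟩ := Ideal.mem_span_singleton'.1 hz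
      refine ⟨Submodule.Quotient.mk c, ?_⟩
      show Submodule.Quotient.mk (c * b) = _
      rw [Submodule.Quotient.eq]
      exact Submodule.mem_sup_left (by simpa using K.neg_mem hy)
    · rintro _ ⟨q, rfl⟩
      obtain ⟨c, rfl⟩ := Submodule.Quotient.mk_surjective _ q
      exact (Submodule.Quotient.mk_eq_zero _).2
        (Submodule.mem_sup_right (Ideal.mem_span_singleton'.2 ⟨c, rfl⟩))
  have hlen := Module.length_eq_add_of_exact _ _ Subtype.val_injective hg hex
  refine ⟨?_, fun hreg => ?_⟩
  · rw [hlen]
    exact add_le_add_left (Module.length_le_of_surjective f.rangeRestrict f.surjective_rangeRestrict) _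
  · have hfinj : Function.Injective f := by
      rw [injective_iff_map_eq_zero]
      intro q hq
      obtain ⟨x, rfl⟩ := Submodule.Quotient.mk_surjective _ q
      have hx : x * b ∈ I := (Submodule.Quotient.mk_eq_zero _).1 hq
      obtain ⟨y, hy, z, hz, hsum⟩ := Submodule.mem_sup.1 hx
      obtain ⟨c, rfl⟩ := Ideal.mem_span_singleton'.1 hz
      refine (Submodule.Quotient.mk_eq_zero _).2 ?_
      have h : x - c * a ∈ K := hreg _ (by
        rw [show (x - c * a) * b = y by linear_combination -hsum]; exact hy)
      rw [show x = (x - c * a) + c * a by ring]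
      exact add_mem (Submodule.mem_sup_left h)
        (Submodule.mem_sup_right (Ideal.mem_span_singleton'.2 ⟨c, rfl⟩))
    rw [hlen]
    exact add_le_add_left (Module.length_le_of_injective f.rangeRestrict
      (fun x y h => hfinj (congrArg Subtype.val h))) _

theorem span_range_eq_sup {n : ℕ} (a : Fin n → A) (i : Fin n) :
    Ideal.span (Set.range a) = Ideal.span (a '' {j | j ≠ i}) ⊔ Ideal.span {a i} := by
  rw [← Ideal.span_union]
  congr 1
  ext x
  refine ⟨?_, ?_⟩
  · rintro ⟨j, rfl⟩
    by_cases hj : j = i
    · exact Or.inr (by rw [hj]; rfl)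
    · exact Or.inl ⟨j, hj, rfl⟩
  · rintro (⟨j, -, rfl⟩ | rfl) <;> exact ⟨_, rfl⟩

end Length

section Bounds

variable {A : Type u} [CommRing A] [IsRegularLocalRing A] {G : Type v} [Group G]
  [MulSemiringAction G A] {n : ℕ}

/-- Bounds for the length of the quotient by a tuple of partial norms. -/
theorem length_bounds [DecidableEq G] (hn : ringKrullDim A = n) (u : Fin n → A)
    (N : ℕ) (T : Fin n → Finset G) (hT : ∀ i, (T i).Nonempty) (hN : ∑ i, (T i).card = N) :
    ((∀ τ : Fin n → G, (∀ i, τ i ∈ T i) → Ideal.span (Set.range fun i => τ i • u i) = maximalIdeal A) →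
      Module.length A (A ⧸ Ideal.span (Set.range fun i => ∏ σ ∈ T i, σ • u i)) ≤
        ((∏ i, (T i).card : ℕ) : ℕ∞)) ∧
    ((∀ i, u i ∈ maximalIdeal A) → (∀ τ : Fin n → G, (∀ i, τ i ∈ T i) →
        maximalIdeal A ≤ (Ideal.span (Set.range fun i => τ i • u i)).radical) →
      ((∏ i, (T i).card : ℕ) : ℕ∞) ≤
        Module.length A (A ⧸ Ideal.span (Set.range fun i => ∏ σ ∈ T i, σ • u i))) := by
  induction N using Nat.strong_induction_on generalizing T with
  | _ N ih =>
    subst hN
    by_cases hone : ∀ i, (T i).card = 1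
    · choose τ hτ using fun i => Finset.card_eq_one.1 (hone i)
      have hprod : (fun i => ∏ σ ∈ T i, σ • u i) = fun i => τ i • u i := funext fun i => by
        rw [hτ i, Finset.prod_singleton]
      have hc : (∏ i, (T i).card : ℕ) = 1 := Finset.prod_eq_one fun i _ => hone i
      rw [hprod, hc, Nat.cast_one]
      refine ⟨fun h => ?_, fun hu _ => ?_⟩
      · rw [h τ fun i => by rw [hτ i]; exact Finset.mem_singleton_self _]
        exact le_of_eq (Module.length_eq_one_iff.2
          (isSimpleModule_iff_isCoatom.2 (maximalIdeal.isMaximal A).out))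
      · have hle : Ideal.span (Set.range fun i => τ i • u i) ≤ maximalIdeal A := by
          rw [Ideal.span_le]
          rintro _ ⟨i, rfl⟩
          exact smul_mem_maximalIdeal _ (hu i)
        have : Nontrivial (A ⧸ Ideal.span (Set.range fun i => τ i • u i)) :=
          Ideal.Quotient.nontrivial_iff.2 fun h => (maximalIdeal.isMaximal A).ne_top
            (top_le_iff.1 (h ▸ hle))
        exact Order.one_le_iff_pos.2 Module.length_pos
    · push Not at hone
      obtain ⟨i, hi⟩ := hone
      obtain ⟨s, hs⟩ := hT i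
      let R := (T i).erase s
      have hR : R.Nonempty := by
        rw [← Finset.card_pos, Finset.card_erase_of_mem hs]
        have := (hT i).card_pos
        omega
      let Ts := Function.update T i {s}
      let Tr := Function.update T i R
      have hTs : ∀ j, (Ts j).Nonempty := fun j => by
        by_cases hj : j = i
        · subst hj; simp [Ts]
        · simpa [Ts, Function.update_of_ne hj] using hT j
      have hTr : ∀ j, (Tr j).Nonempty := fun j => by
        by_cases hj : j = i
        · subst hj; simpa [Tr] using hR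
        · simpa [Tr, Function.update_of_ne hj] using hT j
      have hsub : ∀ U, (U = Ts ∨ U = Tr) → ∀ τ : Fin n → G, (∀ j, τ j ∈ U j) → ∀ j, τ j ∈ T j := by
        rintro U hU τ hτ j
        have h := hτ j
        by_cases hj : j = i
        · subst hj
          rcases hU with rfl | rfl
          · simp [Ts] at h; rw [h]; exact hs
          · simp [Tr, R] at h; exact h.2
        · rcases hU with rfl | rfl <;>
            simpa [Ts, Tr, Function.update_of_ne hj] using h
      have hcard : ∀ U : Finset G, ∏ j, (Function.update T i U j).card =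
          U.card * ∏ j ∈ Finset.univ.erase i, (T j).card := fun U => by
        rw [← Finset.mul_prod_erase _ _ (Finset.mem_univ i), Function.update_self]
        exact congrArg _ (Finset.prod_congr rfl fun j hj => by
          rw [Function.update_of_ne (Finset.ne_of_mem_erase hj)])
      have hsum : ∀ U : Finset G, U.card < (T i).card →
          ∑ j, (Function.update T i U j).card < ∑ j, (T j).card := fun U hU =>
        Finset.sum_lt_sum (fun j _ => by
          by_cases hj : j = i
          · subst hj; simpa using hU.le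
          · rw [Function.update_of_ne hj]) ⟨i, Finset.mem_univ _, by simpa using hU⟩
      have hTi : (T i).card = R.card + 1 := by rw [← Finset.card_erase_add_one hs]
      have hRlt : R.card < (T i).card := by omega
      have h1lt : ({s} : Finset G).card < (T i).card := by
        rw [Finset.card_singleton]; have := hR.card_pos; omega
      let K := Ideal.span ((fun j => ∏ σ ∈ T j, σ • u j) '' {j | j ≠ i})
      have hspan : ∀ U : Finset G, Ideal.span (Set.range fun j => ∏ σ ∈ Function.update T i U j, σ • u j) =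
          K ⊔ Ideal.span {∏ σ ∈ U, σ • u i} := fun U => by
        rw [span_range_eq_sup _ i, Function.update_self]
        congr 2
        refine Set.image_congr fun j hj => ?_
        rw [Function.update_of_ne hj]
      have hI : Ideal.span (Set.range fun j => ∏ σ ∈ T j, σ • u j) =
          K ⊔ Ideal.span {s • u i * ∏ σ ∈ R, σ • u i} := by
        rw [Finset.mul_prod_erase _ (fun σ => σ • u i) hs, span_range_eq_sup _ i]
      have hP : (∏ j, (T j).card) = (∏ j, (Ts j).card) + ∏ j, (Tr j).card := by
        rw [hcard, hcard, Finset.card_singleton, ← add_mul, add_comm 1, ← hTi,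
          ← Finset.mul_prod_erase _ _ (Finset.mem_univ i)]
      have hA := (ih _ (hsum {s} h1lt) Ts hTs rfl)
      have hB := (ih _ (hsum R hRlt) Tr hTr rfl)
      obtain ⟨hup, hlow⟩ := length_sup_span_mul_le K (s • u i) (∏ σ ∈ R, σ • u i)
      rw [hI, hP, Nat.cast_add]
      refine ⟨fun h => ?_, fun hu h => ?_⟩
      · refine hup.trans (add_le_add ?_ ?_)
        · have := hA.1 fun τ hτ => h τ (hsub Ts (Or.inl rfl) τ hτ)
          rwa [hspan, Finset.prod_singleton] at this
        · have := hB.1 fun τ hτ => h τ (hsub Tr (Or.inr rfl) τ hτ)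
          rwa [hspan] at this
      · refine le_trans (add_le_add ?_ ?_) (hlow fun z hz => ?_)
        · have := hA.2 hu fun τ hτ => h τ (hsub Ts (Or.inl rfl) τ hτ)
          rwa [hspan, Finset.prod_singleton] at this
        · have := hB.2 hu fun τ hτ => h τ (hsub Tr (Or.inr rfl) τ hτ)
          rwa [hspan] at this
        · haveI := CAlg1.cm_of_isRegularLocalRing A
          let a := fun j => ∏ σ ∈ Tr j, σ • u j
          have hrad : (Ideal.span (Set.range a)).radical = maximalIdeal A := by
            refine le_antisymm ?_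
              (le_radical_prod u Tr _ fun τ hτ => h τ (hsub Tr (Or.inr rfl) τ hτ))
            rw [(maximalIdeal.isMaximal A).isPrime.radical_le_iff, Ideal.span_le]
            rintro _ ⟨j, rfl⟩
            obtain ⟨σ, hσ⟩ := hTr j
            show ∏ σ ∈ Tr j, σ • u j ∈ maximalIdeal A
            rw [← Finset.mul_prod_erase _ _ hσ]
            exact Ideal.mul_mem_right _ _ (smul_mem_maximalIdeal _ (hu j))
          have hK : Ideal.span (a '' {j | j ≠ i}) = K := congrArg Ideal.span (Set.image_congr fun j hj => by
            simp only [a, Tr, Function.update_of_ne hj])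
          have hai : a i = ∏ σ ∈ R, σ • u i := by simp [a, Tr]
          rw [← hK] at hz ⊢
          exact LC16.sop_cancel hn a hrad i (by rwa [hai])

end Bounds

section Triangular

variable {A : Type u} [CommRing A] [IsRegularLocalRing A] {G : Type v} [Group G] [Finite G]
  [MulSemiringAction G A] {n : ℕ}

theorem mem_sup_mono {A : Type u} [CommRing A] {I I' K : Ideal A} (h : I ≤ I') {x : A} (hx : x ∈ I ⊔ K) :
    x ∈ I' ⊔ K :=
  (sup_le_sup_right h K : I ⊔ K ≤ I' ⊔ K) hx

/-- A system with fewer elements does not generate, not even up to radical. -/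
theorem not_le_radical_erase {A : Type u} [CommRing A] [IsLocalRing A] [IsNoetherianRing A] {n : ℕ}
    (hn : ringKrullDim A = n) (u : Fin n → A) (hu : ∀ j, u j ∈ maximalIdeal A) (i : Fin n) :
    ¬ maximalIdeal A ≤ (Ideal.span (u '' {j | j ≠ i})).radical := by
  classical
  intro h
  have him : u '' {j | j ≠ i} = (((Finset.univ.erase i).image u : Finset A) : Set A) := by
    ext x; simp
  have htop : Ideal.span (u '' {j | j ≠ i}) ≤ maximalIdeal A := by
    rw [Ideal.span_le]
    rintro _ ⟨j, -, rfl⟩
    exact hu j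
  have hmin : maximalIdeal A ∈ (Ideal.span (u '' {j | j ≠ i})).minimalPrimes := by
    refine ⟨⟨(maximalIdeal.isMaximal A).isPrime, htop⟩, fun P hP _ => ?_⟩
    exact h.trans (hP.1.radical_le_iff.2 hP.2)
  rw [him] at hmin
  have hh := Ideal.height_le_card_of_mem_minimalPrimes_span_finset hmin
  have hd := IsLocalRing.maximalIdeal_height_eq_ringKrullDim (R := A)
  rw [hn] at hd
  have h2 : ((Finset.univ.erase i).image u).card < n := by
    refine lt_of_le_of_lt Finset.card_image_le ?_
    rw [Finset.card_erase_of_mem (Finset.mem_univ i), Finset.card_univ, Fintype.card_fin]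
    have := i.pos
    omega
  have h3 : (n : ℕ∞) ≤ (((Finset.univ.erase i).image u).card : ℕ) := by
    rwa [← WithBot.coe_le_coe, show ((n : ℕ∞) : WithBot ℕ∞) = (n : WithBot ℕ∞) from rfl, ← hd,
      WithBot.coe_le_coe]
  exact absurd (Nat.cast_le.1 h3) (not_le.2 h2)

/-- A triangular generating system is admissible. -/
theorem span_orbit_eq_of_triangular (hn : ringKrullDim A = n) (u : Fin n → A)
    (hu : Ideal.span (Set.range u) = maximalIdeal A)
    (htri : ∀ (σ : G) (i : Fin n),
      σ • u i ∈ Ideal.span (u '' {j | j ≤ i}) ⊔ maximalIdeal A ^ 2) (τ : Fin n → G) :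
    Ideal.span (Set.range fun i => τ i • u i) = maximalIdeal A := by
  classical
  have hum : ∀ i, u i ∈ maximalIdeal A := fun i => hu.le (Ideal.subset_span ⟨i, rfl⟩)
  let V : Fin n → Ideal A := fun i => Ideal.span (u '' {j | j < i}) ⊔ maximalIdeal A ^ 2
  let J := Ideal.span (Set.range fun i => τ i • u i)
  have hJm : J ≤ maximalIdeal A := by
    rw [Ideal.span_le]
    rintro _ ⟨i, rfl⟩
    exact smul_mem_maximalIdeal _ (hum i)
  -- the lower parts are stable
  have hV : ∀ (σ : G) i, ∀ x ∈ V i, σ • x ∈ V i := by
    intro σ i x hx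
    suffices h : (V i).map (MulSemiringAction.toRingHom G A σ) ≤ V i from h (Ideal.mem_map_of_mem _ hx)
    rw [Ideal.map_le_iff_le_comap]
    refine sup_le (Ideal.span_le.2 ?_) fun y hy => Submodule.mem_sup_right (smul_mem_pow σ hy)
    rintro _ ⟨j, hj, rfl⟩
    refine (sup_le ?_ le_sup_right : Ideal.span (u '' {l | l ≤ j}) ⊔ maximalIdeal A ^ 2 ≤ V i) (htri σ j)
    exact le_sup_of_le_left (Ideal.span_mono (Set.image_mono fun l (hl : l ≤ j) => (lt_of_le_of_lt hl hj : l < i)))
  have hsplit : ∀ (σ : G) i, ∃ a : A, σ • u i - a * u i ∈ V i := by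
    intro σ i
    obtain ⟨y, hy, z, hz, hyz⟩ := Submodule.mem_sup.1 (htri σ i)
    have hset : u '' {j | j ≤ i} = insert (u i) (u '' {j | j < i}) := by
      rw [← Set.image_insert_eq]
      congr 1
      ext j
      simp [le_iff_eq_or_lt]
    rw [hset, Ideal.span, Submodule.mem_span_insert] at hy
    obtain ⟨a, w, hw, rfl⟩ := hy
    refine ⟨a, ?_⟩
    rw [← hyz, smul_eq_mul, show a * u i + w + z - a * u i = w + z by ring]
    exact add_mem (Submodule.mem_sup_left hw) (Submodule.mem_sup_right hz)
  -- the diagonal entries are units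
  have hunit : ∀ (σ : G) i, ∃ a : A, IsUnit a ∧ σ • u i - a * u i ∈ V i := by
    intro σ i
    obtain ⟨a, ha⟩ := hsplit σ i
    refine ⟨a, ?_, ha⟩
    by_contra hau
    obtain ⟨b, hb⟩ := hsplit σ⁻¹ i
    have h1 : u i - σ⁻¹ • a * b * u i ∈ V i := by
      have h2 := hV σ⁻¹ i _ ha
      rw [smul_sub, smul_mul', inv_smul_smul] at h2
      have h3 := add_mem h2 (Ideal.mul_mem_left _ (σ⁻¹ • a) hb)
      convert h3 using 1
      ring
    have hmem : σ⁻¹ • a * b ∈ maximalIdeal A :=
      Ideal.mul_mem_right _ _ (smul_mem_maximalIdeal _ hau)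
    obtain ⟨e, he⟩ : IsUnit (1 - σ⁻¹ • a * b) :=
      IsLocalRing.isUnit_one_sub_self_of_mem_nonunits _ hmem
    have h4 : u i ∈ V i := by
      have := Ideal.mul_mem_left _ (↑e⁻¹ : A) h1
      rwa [← one_sub_mul, ← mul_assoc, ← he, Units.inv_mul, one_mul] at this
    refine not_le_radical_erase hn u hum i (le_trans ?_ Ideal.le_radical)
    refine Submodule.le_of_le_smul_of_le_jacobson_bot (IsNoetherian.noetherian _)
      (IsLocalRing.maximalIdeal_le_jacobson _) ?_
    conv_lhs => rw [← hu]
    rw [Submodule.span_le, smul_eq_mul, ← pow_two]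
    rintro _ ⟨l, rfl⟩
    by_cases hl : l = i
    · subst hl
      exact mem_sup_mono (Ideal.span_mono (Set.image_mono fun j (hj : j < l) => (ne_of_lt hj : j ≠ l))) h4
    · exact Submodule.mem_sup_left (Ideal.subset_span ⟨l, hl, rfl⟩)
  refine le_antisymm hJm ?_
  have hall : ∀ i, u i ∈ J ⊔ maximalIdeal A ^ 2 := by
    intro i
    induction i using WellFoundedLT.induction with
    | ind i ih =>
      obtain ⟨a, ⟨e, rfl⟩, ha⟩ := hunit (τ i) i
      have hVJ : V i ≤ J ⊔ maximalIdeal A ^ 2 := sup_le (Ideal.span_le.2 (by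
        rintro _ ⟨j, hj, rfl⟩; exact ih j hj)) le_sup_right
      have h1 : (e : A) * u i ∈ J ⊔ maximalIdeal A ^ 2 := by
        have := sub_mem (Submodule.mem_sup_left (T := maximalIdeal A ^ 2)
          (Ideal.subset_span ⟨i, rfl⟩ : τ i • u i ∈ J)) (hVJ ha)
        rwa [sub_sub_cancel] at this
      have := Ideal.mul_mem_left _ (↑e⁻¹ : A) h1
      rwa [← mul_assoc, Units.inv_mul, one_mul] at this
  refine Submodule.le_of_le_smul_of_le_jacobson_bot (IsNoetherian.noetherian _)
    (IsLocalRing.maximalIdeal_le_jacobson _) ?_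
  conv_lhs => rw [← hu]
  rw [Submodule.span_le, smul_eq_mul, ← pow_two]
  rintro _ ⟨i, rfl⟩
  exact hall i

open MulAction in
/-- A `p`-group fixes a nonzero element of a nonzero stable section of the maximal ideal. -/
theorem exists_fixed_mod (p : ℕ) [hp : Fact p.Prime] [CharP A p] (hG : IsPGroup p G) (W : Ideal A)
    (hW : ∀ (σ : G), ∀ x ∈ W, σ • x ∈ W) (hlt : ¬ maximalIdeal A ≤ W) :
    ∃ v ∈ maximalIdeal A, v ∉ W ∧ ∀ σ : G, σ • v - v ∈ W := by
  classical
  obtain ⟨x, hxm, hxW⟩ := SetLike.not_le_iff_exists.1 hlt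
  have hle : ∀ σ : G, W ≤ W.comap (MulSemiringAction.toRingHom G A σ) := fun σ y hy => hW σ y hy
  let π := Ideal.Quotient.mk W
  let act : G → A ⧸ W →+* A ⧸ W := fun σ => Ideal.quotientMap W _ (hle σ)
  have hact : ∀ σ a, act σ (π a) = π (σ • a) := fun σ a => Ideal.quotientMap_mk
  let S : AddSubgroup (A ⧸ W) := AddSubgroup.closure (Set.range fun σ : G => π (σ • x))
  have hSstable : ∀ σ, ∀ q ∈ S, act σ q ∈ S := fun σ q hq => by
    have : S ≤ S.comap (act σ).toAddMonoidHom := by
      rw [AddSubgroup.closure_le]
      rintro _ ⟨g, rfl⟩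
      exact AddSubgroup.subset_closure ⟨σ * g, by
        show π ((σ * g) • x) = act σ (π (g • x))
        rw [hact, mul_smul]⟩
    exact this hq
  have hSm : ∀ q ∈ S, ∃ a ∈ maximalIdeal A, π a = q := fun q hq => by
    have : S ≤ (maximalIdeal A).toAddSubgroup.map π.toAddMonoidHom := by
      rw [AddSubgroup.closure_le]
      rintro _ ⟨g, rfl⟩
      exact ⟨g • x, smul_mem_maximalIdeal g hxm, rfl⟩
    exact this hq
  letI : MulAction G S :=
    { smul := fun σ q => ⟨act σ q.1, hSstable σ q.1 q.2⟩
      one_smul := fun q => Subtype.ext (by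
        obtain ⟨a, ha⟩ := Ideal.Quotient.mk_surjective q.1
        show act 1 q.1 = q.1
        rw [← ha, hact, one_smul])
      mul_smul := fun g h q => Subtype.ext (by
        obtain ⟨a, ha⟩ := Ideal.Quotient.mk_surjective q.1
        show act (g * h) q.1 = act g (act h q.1)
        rw [← ha, hact, hact, hact, mul_smul]) }
  have hpA : ∀ q : A ⧸ W, p • q = 0 := fun q => by
    obtain ⟨a, rfl⟩ := Ideal.Quotient.mk_surjective q
    rw [← map_nsmul, nsmul_eq_mul, CharP.cast_eq_zero, zero_mul, map_zero]
  haveI : Module.Finite ℤ S := by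
    rw [Module.Finite.iff_addGroup_fg]
    exact (AddGroup.fg_iff_addSubgroup_fg S).2
      (AddSubgroup.fg_iff _ |>.2 ⟨_, rfl, Set.finite_range _⟩)
  have htors : AddMonoid.IsTorsion S := fun q => isOfFinAddOrder_iff_nsmul_eq_zero.2
    ⟨p, hp.out.pos, Subtype.ext (hpA q.1)⟩
  haveI : Finite S := Module.finite_of_fg_torsion S (fun q => by
    refine ⟨⟨(p : ℤ), mem_nonZeroDivisors_of_ne_zero (by exact_mod_cast hp.out.ne_zero)⟩, ?_⟩
    exact Subtype.ext (by simpa using hpA q.1))
  let x₀ : S := ⟨π x, AddSubgroup.subset_closure ⟨1, by simp⟩⟩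
  have hx₀ : x₀ ≠ 0 := fun h => hxW (Ideal.Quotient.eq_zero_iff_mem.1 (congrArg Subtype.val h))
  have hord : addOrderOf x₀ = p := addOrderOf_eq_prime (Subtype.ext (hpA _)) hx₀
  have hdvd : p ∣ Nat.card S := hord ▸ addOrderOf_dvd_natCard x₀
  obtain ⟨b, hb, hb0⟩ := hG.exists_fixed_point_of_prime_dvd_card_of_fixed_point S hdvd (a := 0)
    (fun σ => Subtype.ext (map_zero (act σ)))
  obtain ⟨a, ham, ha⟩ := hSm b.1 b.2
  refine ⟨a, ham, fun haW => hb0 (Subtype.ext ?_), fun σ => Ideal.Quotient.eq.1 ?_⟩
  · rw [← ha, Ideal.Quotient.eq_zero_iff_mem.2 haW]; rfl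
  · rw [← hact, show π a = b.1 from ha]
    exact congrArg Subtype.val (hb σ)

/-- A `p`-group in characteristic `p` has a triangular system of parameters. -/
theorem exists_triangular (p : ℕ) [Fact p.Prime] [CharP A p] (hG : IsPGroup p G)
    (hn : ringKrullDim A = n) :
    ∃ u : Fin n → A, Ideal.span (Set.range u) = maximalIdeal A ∧ ∀ (σ : G) (i : Fin n),
      σ • u i ∈ Ideal.span (u '' {j | j ≤ i}) ⊔ maximalIdeal A ^ 2 := by
  classical
  have hfr : Module.finrank (ResidueField A) (CotangentSpace A) = n := by
    have h := IsRegularLocalRing.spanFinrank_maximalIdeal (R := A)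
    rw [hn] at h
    rw [← spanFinrank_maximalIdeal_eq_finrank_cotangentSpace]
    exact_mod_cast h
  have key : ∀ i ≤ n, ∃ u : Fin i → maximalIdeal A,
      LinearIndependent (ResidueField A) (fun j => (maximalIdeal A).toCotangent (u j)) ∧
      ∀ (σ : G) (j : Fin i),
        σ • (u j : A) ∈ Ideal.span ((fun l => (u l : A)) '' {l | l ≤ j}) ⊔ maximalIdeal A ^ 2 := by
    intro i hi
    induction i with
    | zero => exact ⟨Fin.elim0, linearIndependent_empty_type, fun _ j => j.elim0⟩
    | succ i ih =>
      obtain ⟨u, hli, htri⟩ := ih (by omega)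
      let W := Ideal.span (Set.range fun l => (u l : A)) ⊔ maximalIdeal A ^ 2
      have hW : ∀ (σ : G), ∀ y ∈ W, σ • y ∈ W := fun σ y hy => by
        suffices h : W.map (MulSemiringAction.toRingHom G A σ) ≤ W from h (Ideal.mem_map_of_mem _ hy)
        rw [Ideal.map_le_iff_le_comap]
        refine sup_le (Ideal.span_le.2 ?_) fun z hz => Submodule.mem_sup_right (smul_mem_pow σ hz)
        rintro _ ⟨j, rfl⟩
        exact mem_sup_mono (Ideal.span_mono (Set.image_subset_range _ _)) (htri σ j)
      -- a combination lands in the span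
      have hmemW : ∀ y : maximalIdeal A,
          (maximalIdeal A).toCotangent y ∈
            Submodule.span (ResidueField A) (Set.range fun j => (maximalIdeal A).toCotangent (u j)) ↔
          (y : A) ∈ W := by
        intro y
        rw [← Submodule.restrictScalars_mem A, Submodule.restrictScalars_span A (ResidueField A)
          Ideal.Quotient.mk_surjective, Submodule.mem_span_range_iff_exists_fun]
        constructor
        · rintro ⟨c, hc⟩
          rw [← sub_add_cancel (y : A) (∑ j, c j * (u j : A))]
          refine add_mem (Submodule.mem_sup_right ?_) (Submodule.mem_sup_left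
            (Submodule.sum_mem _ fun j _ => Ideal.mul_mem_left _ _ (Ideal.subset_span ⟨j, rfl⟩)))
          have h := (Ideal.toCotangent_eq (maximalIdeal A)).1
            (show (maximalIdeal A).toCotangent y = (maximalIdeal A).toCotangent (∑ j, c j • u j) by
              rw [map_sum, ← hc]; exact Finset.sum_congr rfl fun j _ => (map_smul _ _ _).symm)
          simpa using h
        · intro hy
          obtain ⟨a, ha, b, hb, hab⟩ := Submodule.mem_sup.1 hy
          obtain ⟨c, rfl⟩ := Ideal.mem_span_range_iff_exists_fun.1 ha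
          refine ⟨c, ?_⟩
          simp only [← map_smul, ← map_sum]
          refine (Ideal.toCotangent_eq _).2 ?_
          rw [show ((∑ j, c j • u j : maximalIdeal A) : A) = ∑ j, c j * (u j : A) by simp, ← hab,
            sub_add_cancel_left]
          exact neg_mem hb
      have hnot : ¬ maximalIdeal A ≤ W := by
        intro hle
        have htop : Submodule.span (ResidueField A)
            (Set.range fun j => (maximalIdeal A).toCotangent (u j)) = ⊤ := by
          refine top_le_iff.1 fun q _ => ?_
          obtain ⟨y, rfl⟩ := (maximalIdeal A).toCotangent_surjective q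
          exact (hmemW y).2 (hle y.2)
        have h := finrank_range_le_card (R := ResidueField A) fun j => (maximalIdeal A).toCotangent (u j)
        rw [Set.finrank, htop, finrank_top, hfr, Fintype.card_fin] at h
        omega
      obtain ⟨v, hvm, hvW, hv⟩ := exists_fixed_mod p hG W hW hnot
      refine ⟨Fin.snoc u (⟨v, hvm⟩ : maximalIdeal A), ?_, ?_⟩
      · have hcomp : (fun j => (maximalIdeal A).toCotangent (Fin.snoc (α := fun _ => maximalIdeal A) u ⟨v, hvm⟩ j)) =
            Fin.snoc (fun j => (maximalIdeal A).toCotangent (u j))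
              ((maximalIdeal A).toCotangent ⟨v, hvm⟩) := Fin.comp_snoc (α := maximalIdeal A) (maximalIdeal A).toCotangent u _
        rw [hcomp, linearIndependent_finSnoc]
        exact ⟨hli, fun h => hvW ((hmemW ⟨v, hvm⟩).1 h)⟩
      · intro σ j
        induction j using Fin.lastCases with
        | last =>
          simp only [Fin.snoc_last]
          rw [← sub_add_cancel (σ • v) v]
          refine add_mem ?_ (Submodule.mem_sup_left (Ideal.subset_span ⟨Fin.last i, (show Fin.last i ≤ Fin.last i from le_rfl), by simp⟩))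
          refine mem_sup_mono (Ideal.span_mono ?_) (hv σ)
          rintro _ ⟨l, rfl⟩
          exact ⟨l.castSucc, Fin.le_last _, by simp⟩
        | cast j =>
          simp only [Fin.snoc_castSucc]
          refine mem_sup_mono (Ideal.span_mono ?_) (htri σ j)
          rintro _ ⟨l, hl, rfl⟩
          exact ⟨l.castSucc, Fin.castSucc_le_castSucc_iff.2 hl, by simp⟩
  obtain ⟨u, hli, htri⟩ := key n le_rfl
  refine ⟨fun j => u j, ?_, htri⟩
  have htop := hli.span_eq_top_of_card_eq_finrank' (by rw [Fintype.card_fin, hfr])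
  have h2 : Submodule.span A (Set.range u) = ⊤ := by
    rw [← CotangentSpace.span_image_eq_top_iff, ← Set.range_comp]
    exact htop
  have h3 := congrArg (Submodule.map (maximalIdeal A).subtype) h2
  rw [Submodule.map_span, Submodule.map_top, Submodule.range_subtype, ← Set.range_comp] at h3
  exact h3

end Triangular

end Groth.Agent.WildQuot51
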