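import Mathlib
import Groth.Agent.WildQuot51.Invariant

/-!
Actions ramified precisely at the origin: no fixed parameter, the quotient map is not flat, the
invariant ring is not regular.
-/

set_option autoImplicit false

universe u v w

namespace Groth.Agent.WildQuot51

open IsLocalRing Module

variable {A : Type u} [CommRing A] [IsLocalRing A] {G : Type w} [Group G] [MulSemiringAction G A]

theorem exists_smul_sub_notMem
    (hram : ∀ P : Ideal A, P.IsPrime → P ≠ maximalIdeal A → P.inertia G = ⊥)
    (Q : Ideal A) [hQ : Q.IsPrime] (hQm : Q ≠ maximalIdeal A) {g h : G} (hgh : g ≠ h) :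
    ∃ a : A, g • a - h • a ∉ Q := by
  let Q' := Q.comap (MulSemiringAction.toRingHom G A h)
  have hQ' : Q'.IsPrime := Ideal.IsPrime.comap _
  have hne : Q' ≠ maximalIdeal A := fun e => hQm <|
    ((maximalIdeal.isMaximal A).eq_of_le hQ.ne_top fun x hx => by
      have h1 : h⁻¹ • x ∈ Q' := e ▸ smul_mem_maximalIdeal _ hx
      simpa [Q'] using h1).symm
  have hI : h⁻¹ * g ∉ Q'.inertia G := by
    rw [hram Q' hQ' hne, Subgroup.mem_bot, inv_mul_eq_one]
    exact hgh.symm
  by_contra hc
  push Not at hc
  refine hI fun a => ?_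
  show h • ((h⁻¹ * g) • a - a) ∈ Q
  rw [smul_sub, smul_smul, mul_inv_cancel_left]
  exact hc a

/-- Some prime other than the maximal ideal contains an ideal generated by fewer elements than the
dimension. -/
theorem exists_prime_ne [IsNoetherianRing A] (J : Ideal A) (s : Finset A) (hs : Ideal.span (s : Set A) = J)
    (hJ : J ≤ maximalIdeal A) (hcard : (s.card : WithBot ℕ∞) < ringKrullDim A) :
    ∃ P : Ideal A, P.IsPrime ∧ P ≠ maximalIdeal A ∧ J ≤ P := by
  obtain ⟨P, hP, hPle⟩ := Ideal.exists_minimalPrimes_le hJ
  refine ⟨P, hP.1.1, fun e => ?_, hP.1.2⟩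
  subst hs
  have h := Ideal.height_le_card_of_mem_minimalPrimes_span_finset hP
  rw [e] at h
  rw [← IsLocalRing.maximalIdeal_height_eq_ringKrullDim] at hcard
  exact absurd hcard (not_lt.2 (WithBot.coe_le_coe.2 h))

/-- No parameter is fixed. -/
theorem exists_smul_ne {A : Type u} [CommRing A] [IsRegularLocalRing A] {k : Type v} [Field k] [Algebra k A]
    [MulSemiringAction G A]
    (hk : Function.Surjective (IsLocalRing.residue A ∘ algebraMap k A))
    (hGk : ∀ (σ : G) (c : k), σ • algebraMap k A c = algebraMap k A c)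
    (hram : ∀ P : Ideal A, P.IsPrime → P ≠ maximalIdeal A → P.inertia G = ⊥)
    (σ : G) (hσ : σ ≠ 1) (hdim : 1 ≤ ringKrullDim A)
    (v : A) (hv : v ∈ maximalIdeal A) (hv2 : v ∉ maximalIdeal A ^ 2) : σ • v ≠ v := by
  classical
  intro hfix
  obtain ⟨s, hcard, hs⟩ := Submodule.FG.exists_span_finset_card_eq_spanFinrank
    (IsNoetherian.noetherian (maximalIdeal A))
  have hn : (s.card : WithBot ℕ∞) = ringKrullDim A := by
    rw [hcard]; exact IsRegularLocalRing.spanFinrank_maximalIdeal
  obtain ⟨f, -, hf⟩ := Submodule.mem_span_finset.1 (hs.ge hv)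
  obtain ⟨x, hx, hfx⟩ : ∃ x ∈ s, IsUnit (f x) := by
    by_contra hc
    push Not at hc
    refine hv2 (hf ▸ Submodule.sum_mem _ fun x hx => ?_)
    rw [smul_eq_mul, pow_two]
    exact Ideal.mul_mem_mul (hc x hx) (hs.le (Submodule.subset_span hx))
  have hxmem : x ∈ Ideal.span (insert v (s.erase x : Set A)) := by
    rw [← Finset.add_sum_erase s _ hx] at hf
    obtain ⟨e, he⟩ := hfx.exists_left_inv
    have hx' : x = e * (v - ∑ y ∈ s.erase x, f y • y) := by
      rw [← hf]; simp only [smul_eq_mul]; linear_combination (-x) * he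
    refine Eq.subst (motive := fun z => z ∈ Ideal.span (insert v (s.erase x : Set A))) hx'.symm ?_
    refine Ideal.mul_mem_left _ _ (sub_mem (Ideal.subset_span (Set.mem_insert _ _))
      (Submodule.sum_mem _ fun y hy => Submodule.smul_mem _ _ (Ideal.subset_span (Or.inr ?_))))
    exact hy
  have hgen : Ideal.span (insert v (s.erase x : Set A)) = maximalIdeal A := by
    refine le_antisymm (Ideal.span_le.2 ?_) ?_
    · rintro y (rfl | hy)
      · exact hv
      · exact hs.le (Submodule.subset_span (Finset.mem_of_mem_erase hy))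
    · rw [← hs]
      refine Submodule.span_le.2 fun y hy => ?_
      by_cases hyx : y = x
      · exact hyx ▸ hxmem
      · exact Ideal.subset_span (Or.inr (Finset.mem_erase.2 ⟨hyx, hy⟩))
  let J := Ideal.span (((s.erase x).image fun y => σ • y - y : Finset A) : Set A)
  have hJm : J ≤ maximalIdeal A := by
    rw [Ideal.span_le, Finset.coe_image]
    rintro _ ⟨y, hy, rfl⟩
    have hym := hs.le (Submodule.subset_span (Finset.mem_of_mem_erase hy))
    exact sub_mem (smul_mem_maximalIdeal σ hym) hym
  have hlt : (((s.erase x).image fun y => σ • y - y).card : WithBot ℕ∞) < ringKrullDim A := by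
    rw [← hn]
    exact_mod_cast lt_of_le_of_lt Finset.card_image_le (Finset.card_erase_lt_of_mem hx)
  obtain ⟨P, hP, hPm, hJP⟩ := exists_prime_ne J _ rfl hJm hlt
  let T := insert v (s.erase x)
  let u : Fin T.card → A := fun i => T.equivFin.symm i
  have hu : Set.range u = (insert v (s.erase x : Set A)) := by
    rw [show u = Subtype.val ∘ T.equivFin.symm from rfl, Set.range_comp, Equiv.range_eq_univ,
      Set.image_univ, Subtype.range_coe, Finset.coe_insert]
  have hI : σ ∈ P.inertia G := fun a => orbit_ideal hk σ (hGk σ) u (by rw [hu, hgen]) P (fun i => by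
    have : u i ∈ insert v (s.erase x : Set A) := hu ▸ ⟨i, rfl⟩
    rcases this with h | h
    · rw [h, hfix, sub_self]; exact zero_mem _
    · exact hJP (Ideal.subset_span (Finset.mem_coe.2 (Finset.mem_image_of_mem _ h)))) a
  rw [hram P hP hPm, Subgroup.mem_bot] at hI
  exact hσ hI

/-- The quotient map is not flat. -/
theorem not_flat [IsDomain A] [IsNoetherianRing A] [IsAdicComplete (maximalIdeal A) A] [Finite G]
    {k : Type v} [Field k] [Algebra k A]
    (hk : Function.Surjective (IsLocalRing.residue A ∘ algebraMap k A))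
    (hGk : ∀ (σ : G) (c : k), σ • algebraMap k A c = algebraMap k A c)
    (hram : ∀ P : Ideal A, P.IsPrime → P ≠ maximalIdeal A → P.inertia G = ⊥)
    (hG : 2 ≤ Nat.card G) (hdim : 2 ≤ ringKrullDim A) :
    ¬ Module.Flat (FixedPoints.subring A G) A := by
  classical
  intro hflat
  have := Fintype.ofFinite G
  obtain ⟨hN, hfin, -⟩ := fixed_structure A G hk hGk
  set B := FixedPoints.subring A G
  have := isLocalRing_fixed A G
  have hfree : Module.Free B A := Module.free_of_flat_of_isLocalRing
  let e := Module.finBasis B A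
  set r := Module.finrank B A
  have hbot : (⊥ : Ideal A) ≠ maximalIdeal A := fun h => by
    have h0 : ringKrullDim A = 0 := by
      rw [← IsLocalRing.maximalIdeal_height_eq_ringKrullDim, ← h, Ideal.height_bot]; rfl
    rw [h0] at hdim
    exact absurd hdim (by decide)
  -- the characters `a ↦ g • a` are independent modulo every nonmaximal prime
  have hind : ∀ (Q : Ideal A) [Q.IsPrime], Q ≠ maximalIdeal A → ∀ c : G → A,
      (∀ i, ∑ g, c g * g • e i ∈ Q) → ∀ g, c g ∈ Q := by
    intro Q _ hQm c hc
    let χ : G → A →* (A ⧸ Q) := fun g =>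
      ((Ideal.Quotient.mk Q).comp (MulSemiringAction.toRingHom G A g)).toMonoidHom
    have hχ : Function.Injective χ := fun g h hgh => by
      by_contra hne
      obtain ⟨a, ha⟩ := exists_smul_sub_notMem hram Q hQm hne
      exact ha (Ideal.Quotient.eq.1 (DFunLike.congr_fun hgh a))
    have hli := (linearIndependent_monoidHom A (A ⧸ Q)).comp χ hχ
    have hzero : ∀ a : A, ∑ g, c g * g • a ∈ Q := fun a => by
      rw [← e.sum_repr a]
      simp only [Finset.smul_sum, Finset.mul_sum]
      rw [Finset.sum_comm]
      refine Submodule.sum_mem _ fun i _ => ?_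
      have h : ∀ g : G, c g * g • (e.repr a i • e i) = (e.repr a i : A) * (c g * g • e i) := fun g => by
        rw [Subring.smul_def, smul_eq_mul, smul_mul', (e.repr a i).2 g]; ring
      simp only [h, ← Finset.mul_sum]
      exact Ideal.mul_mem_left _ _ (hc i)
    have h0 : ∑ g, Ideal.Quotient.mk Q (c g) • ((χ g : A → A ⧸ Q)) = 0 := funext fun a => by
      have h := Ideal.Quotient.eq_zero_iff_mem.2 (hzero a)
      rw [map_sum] at h
      rw [Finset.sum_apply, Pi.zero_apply, ← h]
      exact Finset.sum_congr rfl fun g _ => by rw [map_mul]; rfl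
    exact fun g => Ideal.Quotient.eq_zero_iff_mem.1 (Fintype.linearIndependent_iff.1 hli _ h0 g)
  -- the rank is at least the order of the group
  have hle : Fintype.card G ≤ r := by
    let M : (G → A) →ₗ[A] (Fin r → A) :=
      { toFun := fun c i => ∑ g, c g * g • e i
        map_add' := fun c d => funext fun i => by simp [add_mul, Finset.sum_add_distrib]
        map_smul' := fun t c => funext fun i => by simp [Finset.mul_sum, mul_assoc] }
    have hM : Function.Injective M := by
      rw [injective_iff_map_eq_zero]
      exact fun c hc => funext fun g => Ideal.mem_bot.1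
        (hind ⊥ hbot c (fun i => Ideal.mem_bot.2 (congrFun hc i)) g)
    simpa using LinearMap.finrank_le_finrank_of_injective hM
  -- and at most
  have hge : r ≤ Fintype.card G := by
    by_contra hlt
    rw [not_le] at hlt
    let M : (Fin r → A) →ₗ[A] (G → A) :=
      { toFun := fun c g => ∑ i, c i * g • e i
        map_add' := fun c d => funext fun g => by simp [add_mul, Finset.sum_add_distrib]
        map_smul' := fun t c => funext fun g => by simp [Finset.mul_sum, mul_assoc] }
    have hM : ¬ Function.Injective M := fun hM => by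
      have := LinearMap.finrank_le_finrank_of_injective hM
      rw [Module.finrank_fin_fun, Module.finrank_fintype_fun_eq_card] at this
      omega
    rw [injective_iff_map_eq_zero] at hM
    push Not at hM
    obtain ⟨c, hc, hc0⟩ := hM
    obtain ⟨i₀, hi₀⟩ := Function.ne_iff.1 hc0
    have htr : ∀ a : A, ∀ h : G, h • (∑ g, g • (a * c i₀)) = ∑ g, g • (a * c i₀) := fun a h => by
      rw [Finset.smul_sum]
      exact Fintype.sum_equiv (Equiv.mulLeft h) _ _ fun g => by simp [mul_smul]
    have hzero : ∀ a : A, ∑ g : G, g • (a * c i₀) = 0 := by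
      intro a
      let b : Fin r → B := fun i => ⟨∑ g : G, g • (a * c i), fun h => by
        rw [Finset.smul_sum]
        exact Fintype.sum_equiv (Equiv.mulLeft h) _ _ fun g => by simp [mul_smul]⟩
      have hb : ∑ i, b i • e i = 0 := by
        simp only [Subring.smul_def, smul_eq_mul, b, Finset.sum_mul]
        rw [Finset.sum_comm]
        refine Finset.sum_eq_zero fun g _ => ?_
        have h := congrArg (g • ·) (congrFun hc g⁻¹)
        simp only [M, LinearMap.coe_mk, AddHom.coe_mk, Pi.zero_apply, smul_zero, Finset.smul_sum,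
          smul_mul', smul_inv_smul] at h
        simp only [smul_mul', mul_assoc, ← Finset.mul_sum, h, mul_zero]
      exact congrArg Subtype.val (Fintype.linearIndependent_iff.1 e.linearIndependent b hb i₀)
    have h := hind ⊥ hbot (fun g => g • c i₀) (fun i => Ideal.mem_bot.2 ((Finset.sum_congr rfl
      fun g _ => by rw [smul_mul', mul_comm]).trans (hzero (e i)))) 1
    exact hi₀ (by simpa using h)
  let eσ : G ≃ Fin r := (Fintype.equivFin G).trans (finCongr (le_antisymm hle hge))
  let D : Matrix (Fin r) (Fin r) A := fun j i => eσ.symm j • e i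
  have hD : ∀ (Q : Ideal A) [Q.IsPrime], Q ≠ maximalIdeal A → D.det ∉ Q := by
    intro Q _ hQm hdet
    have h0 : (D.map (Ideal.Quotient.mk Q)).det = 0 := by
      show ((Ideal.Quotient.mk Q).mapMatrix D).det = 0
      rw [← RingHom.map_det]
      exact Ideal.Quotient.eq_zero_iff_mem.2 hdet
    obtain ⟨v, hv0, hv⟩ := Matrix.exists_vecMul_eq_zero_iff.2 h0
    choose c hc using fun j => Ideal.Quotient.mk_surjective (v j)
    refine hv0 (funext fun j => ?_)
    have h := hind Q hQm (fun g => c (eσ g)) (fun i => by
      rw [← Ideal.Quotient.eq_zero_iff_mem, map_sum]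
      refine (Fintype.sum_equiv eσ _ (fun j => v j * D.map (Ideal.Quotient.mk Q) j i) fun g => ?_).trans
        (congrFun hv i)
      simp [D, ← hc, Matrix.map]) (eσ.symm j)
    rw [← hc j, Pi.zero_apply, Ideal.Quotient.eq_zero_iff_mem]
    simpa using h
  have hres : ∀ (g : G) (a : A), g • a - a ∈ maximalIdeal A := fun g a => by
    obtain ⟨c, hc⟩ := hk (residue A a)
    have h1 : a - algebraMap k A c ∈ maximalIdeal A := by
      rw [← residue_eq_zero_iff, map_sub, sub_eq_zero]; exact hc.symm
    have : g • a - a = g • (a - algebraMap k A c) - (a - algebraMap k A c) := by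
      rw [smul_sub, hGk]; ring
    rw [this]
    exact sub_mem (smul_mem_maximalIdeal g h1) h1
  have hDm : D.det ∈ maximalIdeal A := by
    rw [← residue_eq_zero_iff, RingHom.map_det]
    rw [Nat.card_eq_fintype_card] at hG
    refine Matrix.det_zero_of_row_eq (i := (⟨0, by omega⟩ : Fin r)) (j := ⟨1, by omega⟩) (by simp)
      (funext fun i => ?_)
    simp only [RingHom.mapMatrix_apply, Matrix.map_apply, D]
    exact (Ideal.Quotient.eq.2 (hres _ (e i))).trans (Ideal.Quotient.eq.2 (hres _ (e i))).symm
  obtain ⟨P, hP, hPm, hPle⟩ := exists_prime_ne (Ideal.span {D.det}) {D.det} (by simp)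
    (by rw [Ideal.span_le, Set.singleton_subset_iff]; exact hDm)
    (lt_of_lt_of_le (by rw [Finset.card_singleton]; exact_mod_cast Nat.one_lt_two) hdim)
  exact hD P hPm (hPle (Ideal.mem_span_singleton_self _))

end Groth.Agent.WildQuot51
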