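import Mathlib
import Groth.Agent.CAlg1.Serre
import Groth.Agent.CAlg1.Regular
import Groth.Agent.CAlg6.RegularNormal
import Groth.Agent.CAlg4.ReducedCurve

/-!
Purity for Artin–Schreier classes: on a regular local ring of characteristic `p`, a class
`f` modulo `g ^ p - g` which is unramified at every height-one prime is unramified.

The obstruction is an ideal `J` of elements `s` for which the local solutions `g Q` times `s` glue.
If `Q₀` is minimal over `J` and `x` a regular parameter at `Q₀`, a power of `x` is in `J` at `Q₀`;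
the leading coefficient of the polar part along `x` has its `p`-th power in the normal domain
`R / (x)`, so lies in it, and the exponent can be lowered.
-/

set_option autoImplicit false

universe v

namespace Groth.Agent.WildQuot51

open IsLocalRing

section InLoc

variable {A : Type v} [CommRing A] [IsDomain A] {L : Type v} [Field L] [Algebra A L]
  [IsFractionRing A L]

/-- The element lies in the local ring at the prime. -/
def InLoc (Q : Ideal A) (z : L) : Prop :=
  ∃ a s : A, s ∉ Q ∧ z * algebraMap A L s = algebraMap A L a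

omit [IsDomain A] [IsFractionRing A L] in
lemma InLoc.of_map {Q : Ideal A} (hQ : Q.IsPrime) (a : A) : InLoc Q (algebraMap A L a) :=
  ⟨a, 1, fun h => hQ.ne_top (Q.eq_top_iff_one.2 h), by rw [map_one, mul_one]⟩

omit [IsDomain A] [IsFractionRing A L] in
lemma InLoc.add {Q : Ideal A} [hQ : Q.IsPrime] {z w : L} (hz : InLoc Q z) (hw : InLoc Q w) :
    InLoc Q (z + w) := by
  obtain ⟨a, s, hs, ha⟩ := hz
  obtain ⟨b, t, ht, hb⟩ := hw
  refine ⟨a * t + b * s, s * t, fun h => (hQ.mem_or_mem h).elim hs ht, ?_⟩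
  rw [map_mul, map_add, map_mul, map_mul]
  linear_combination algebraMap A L t * ha + algebraMap A L s * hb

omit [IsDomain A] [IsFractionRing A L] in
lemma InLoc.neg {Q : Ideal A} {z : L} (hz : InLoc Q z) : InLoc Q (-z) := by
  obtain ⟨a, s, hs, ha⟩ := hz
  exact ⟨-a, s, hs, by rw [map_neg, neg_mul, ha]⟩

omit [IsDomain A] [IsFractionRing A L] in
lemma InLoc.sub {Q : Ideal A} [Q.IsPrime] {z w : L} (hz : InLoc Q z) (hw : InLoc Q w) :
    InLoc Q (z - w) := by
  rw [sub_eq_add_neg]; exact hz.add hw.neg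

omit [IsDomain A] [IsFractionRing A L] in
lemma InLoc.mul {Q : Ideal A} [hQ : Q.IsPrime] {z w : L} (hz : InLoc Q z) (hw : InLoc Q w) :
    InLoc Q (z * w) := by
  obtain ⟨a, s, hs, ha⟩ := hz
  obtain ⟨b, t, ht, hb⟩ := hw
  refine ⟨a * b, s * t, fun h => (hQ.mem_or_mem h).elim hs ht, ?_⟩
  rw [map_mul, map_mul, mul_mul_mul_comm, ha, hb]

omit [IsDomain A] [IsFractionRing A L] in
lemma InLoc.pow {Q : Ideal A} [hQ : Q.IsPrime] {z : L} (hz : InLoc Q z) (n : ℕ) :
    InLoc Q (z ^ n) := by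
  induction n with
  | zero => simpa using InLoc.of_map (L := L) hQ (1 : A)
  | succ n ih => rw [pow_succ]; exact ih.mul hz

lemma map_ne_zero_of_notMem {Q : Ideal A} {s : A} (hs : s ∉ Q) : algebraMap A L s ≠ 0 := by
  rw [Ne, map_eq_zero_iff _ (IsFractionRing.injective A L)]
  exact fun h => hs (h ▸ Q.zero_mem)

lemma InLoc.div {Q : Ideal A} [hQ : Q.IsPrime] {z : L} (hz : InLoc Q z) {t : A} (ht : t ∉ Q) :
    InLoc Q (z / algebraMap A L t) := by
  obtain ⟨a, s, hs, ha⟩ := hz
  refine ⟨a, s * t, fun h => (hQ.mem_or_mem h).elim hs ht, ?_⟩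
  rw [map_mul, mul_left_comm, ← mul_assoc, mul_assoc (algebraMap A L s), div_mul_cancel₀ _ (map_ne_zero_of_notMem ht),
    mul_comm, ha]

lemma inLoc_of_mul {Q : Ideal A} [Q.IsPrime] {z : L} {t : A} (ht : t ∉ Q)
    (hz : InLoc Q (algebraMap A L t * z)) : InLoc Q z := by
  have := hz.div ht
  rwa [mul_div_cancel_left₀ _ (map_ne_zero_of_notMem ht)] at this

/-- Normality: roots of monic equations stay in the local ring. -/
lemma inLoc_of_pow_sub [IsIntegrallyClosed A] {Q : Ideal A} [hQ : Q.IsPrime] {p : ℕ} (hp : 2 ≤ p)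
    {z : L} (c : A) (hz : InLoc Q (z ^ p - algebraMap A L c * z)) : InLoc Q z := by
  obtain ⟨a, s, hs, ha⟩ := hz
  obtain ⟨m, rfl⟩ : ∃ m, p = m + 2 := ⟨p - 2, by omega⟩
  have hint : IsIntegral A (z * algebraMap A L s) := by
    refine ⟨Polynomial.X ^ (m + 2) - (Polynomial.C (c * s ^ (m + 1)) * Polynomial.X +
      Polynomial.C (a * s ^ (m + 1))), Polynomial.monic_X_pow_sub (lt_of_le_of_lt ?_ (?_ : (1 : WithBot ℕ) < _)), ?_⟩
    · exact Polynomial.degree_linear_le
    · exact_mod_cast (show 1 < m + 2 by omega)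
    · simp only [Polynomial.eval₂_sub, Polynomial.eval₂_add, Polynomial.eval₂_mul,
        Polynomial.eval₂_pow, Polynomial.eval₂_X, Polynomial.eval₂_C, map_mul, map_pow]
      linear_combination (algebraMap A L s) ^ (m + 1) * ha
  obtain ⟨b, hb⟩ := IsIntegrallyClosed.isIntegral_iff.1 hint
  exact ⟨b, s, hs, hb.symm⟩

lemma inLoc_killing (Q : Ideal A) [hQ : Q.IsPrime] (hQ1 : Q.height = 1) {t : A} (ht : t ∈ Q)
    (z : L) : ∃ N : ℕ, InLoc Q (algebraMap A L t ^ N * z) := by
  obtain ⟨a, b, hb, rfl⟩ := IsFractionRing.div_surjective A z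
  have hb0 : b ≠ 0 := nonZeroDivisors.ne_zero hb
  by_cases hd : Disjoint ((Ideal.span {b} : Ideal A) : Set A) (Submonoid.powers t ⊔ Q.primeCompl : Submonoid A)
  · exfalso
    obtain ⟨P, hP, hbP, hdis⟩ := Ideal.exists_le_prime_disjoint _ _ hd
    have hPQ : P ≤ Q := fun y hy => by
      by_contra hyQ
      exact Set.disjoint_left.1 hdis hy ((le_sup_right : Q.primeCompl ≤ _) hyQ)
    have htP : t ∉ P := fun h =>
      Set.disjoint_left.1 hdis h ((le_sup_left : Submonoid.powers t ≤ _) (Submonoid.mem_powers t))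
    have hlt : P < Q := lt_of_le_of_ne hPQ fun h => htP (h ▸ ht)
    have h0 := (Ideal.height_le_iff (n := 1)).1 hQ1.le P hP hlt
    rw [Nat.cast_one, Order.lt_one_iff, Ideal.height_eq_zero_iff,
      IsDomain.minimalPrimes_eq_singleton_bot, Set.mem_singleton_iff] at h0
    exact hb0 (Ideal.mem_bot.1 (h0 ▸ hbP (Ideal.mem_span_singleton_self b)))
  · obtain ⟨y, hy1, hy2⟩ := Set.not_disjoint_iff.1 hd
    obtain ⟨_, ⟨N, rfl⟩, s, hs, rfl⟩ := Submonoid.mem_sup.1 hy2
    obtain ⟨c, hc⟩ := Ideal.mem_span_singleton.1 hy1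
    refine ⟨N, a * c, s, hs, ?_⟩
    have hbL : algebraMap A L b ≠ 0 := by
      rw [Ne, map_eq_zero_iff _ (IsFractionRing.injective A L)]; exact hb0
    have hc' := congrArg (algebraMap A L) hc
    simp only [map_mul, map_pow] at hc'
    rw [map_mul]
    field_simp
    linear_combination algebraMap A L a * hc'

/-- An element in all local rings at height-one primes below a prime is in its local ring. -/
lemma inLoc_of_forall_height_one [IsNoetherianRing A] [IsIntegrallyClosed A] (Q₀ : Ideal A)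
    [Q₀.IsPrime] (z : L) (h : ∀ Q : Ideal A, Q.IsPrime → Q.height = 1 → Q ≤ Q₀ → InLoc Q z) :
    InLoc Q₀ z := by
  obtain ⟨u, v, hv, rfl⟩ := IsFractionRing.div_surjective A z
  have hv0 : v ≠ 0 := nonZeroDivisors.ne_zero hv
  let R := Localization.AtPrime Q₀
  haveI : IsNoetherianRing R := IsLocalization.isNoetherianRing Q₀.primeCompl _ inferInstance
  haveI : IsIntegrallyClosed R :=
    isIntegrallyClosed_of_isLocalization _ Q₀.primeCompl Q₀.primeCompl_le_nonZeroDivisors
  have hinjR : Function.Injective (algebraMap A R) :=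
    IsLocalization.injective R Q₀.primeCompl_le_nonZeroDivisors
  obtain ⟨c, hc⟩ := CAlg4.ReducedCurve.dvd_of_forall_height_one (algebraMap A R v) (algebraMap A R u)
    (fun h0 => hv0 (hinjR (by rw [h0, map_zero]))) fun q _ hq _ => by
      haveI := (inferInstance : q.IsPrime).comap (algebraMap A R)
      have hle : q.comap (algebraMap A R) ≤ Q₀ := fun y hy => by
        by_contra hy'
        exact (inferInstance : q.IsPrime).ne_top
          (Ideal.eq_top_of_isUnit_mem _ hy (IsLocalization.map_units R (⟨y, hy'⟩ : Q₀.primeCompl)))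
      obtain ⟨a, s, hs, ha⟩ := h _ inferInstance
        (by rw [← hq]; exact IsLocalization.height_under Q₀.primeCompl q) hle
      rw [div_mul_eq_mul_div, div_eq_iff (by
        rw [Ne, map_eq_zero_iff _ (IsFractionRing.injective A L)]; exact hv0),
        ← map_mul, ← map_mul] at ha
      have heq : u * s = a * v := IsFractionRing.injective A L ha
      have he := congrArg (fun y => algebraMap R (Localization.AtPrime q) (algebraMap A R y)) heq
      simp only [map_mul] at he
      have hu : IsUnit (algebraMap R (Localization.AtPrime q) (algebraMap A R s)) :=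
        IsLocalization.map_units _ (⟨_, hs⟩ : q.primeCompl)
      exact (IsUnit.dvd_mul_right hu).1 ⟨_, he.trans (mul_comm _ _)⟩
  obtain ⟨r, s, rfl⟩ := IsLocalization.exists_mk'_eq Q₀.primeCompl c
  refine ⟨r, s, s.2, ?_⟩
  have h2 : u * s = v * r := hinjR (by
    rw [map_mul, map_mul, hc, mul_assoc, IsLocalization.mk'_spec])
  have hvL : algebraMap A L v ≠ 0 := by
    rw [Ne, map_eq_zero_iff _ (IsFractionRing.injective A L)]; exact hv0
  rw [div_mul_eq_mul_div, div_eq_iff hvL, ← map_mul, ← map_mul, h2, mul_comm]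

end InLoc

/-- Purity for Artin–Schreier classes on a regular local ring. -/
theorem artinSchreier_purity {A : Type v} [CommRing A] [IsRegularLocalRing A] {L : Type v} [Field L]
    [Algebra A L] [IsFractionRing A L] (p : ℕ) [hp : Fact p.Prime] [CharP L p] (f : L)
    (hloc : ∀ Q : Ideal A, Q.IsPrime → Q.height = 1 → ∃ g, InLoc Q (f + g ^ p - g)) :
    ∃ (g : L) (a : A), f + g ^ p - g = algebraMap A L a := by
  classical
  haveI := CAlg1.isDomain_regular A
  haveI := CAlg6.isIntegrallyClosed_of_regular A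
  have hp2 : 2 ≤ p := hp.out.two_le
  let g : Ideal A → L := fun Q => if h : Q.IsPrime ∧ Q.height = 1 then (hloc Q h.1 h.2).choose else 0
  have hg : ∀ Q : Ideal A, Q.IsPrime → Q.height = 1 → InLoc Q (f + g Q ^ p - g Q) := fun Q h1 h2 => by
    simp only [g, dif_pos (And.intro h1 h2)]
    exact (hloc Q h1 h2).choose_spec
  let μ := algebraMap A L
  let J : Ideal A :=
    { carrier := {s | ∃ h, ∀ Q : Ideal A, Q.IsPrime → Q.height = 1 → InLoc Q (μ s * g Q - h)}
      zero_mem' := ⟨0, fun Q hQ _ => by simpa [μ] using InLoc.of_map (L := L) hQ (0 : A)⟩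
      add_mem' := by
        rintro s t ⟨h, hh⟩ ⟨h', hh'⟩
        refine ⟨h + h', fun Q hQ hQ1 => ?_⟩
        have := (hh Q hQ hQ1).add (hh' Q hQ hQ1)
        convert this using 1
        simp only [μ, map_add]; ring
      smul_mem' := by
        rintro c s ⟨h, hh⟩
        refine ⟨μ c * h, fun Q hQ hQ1 => ?_⟩
        have := (InLoc.of_map (L := L) hQ c).mul (hh Q hQ hQ1)
        convert this using 1
        simp only [μ, smul_eq_mul, map_mul]; ring }
  -- gluing at a prime gives elements of `J`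
  have lift : ∀ (Q₀ : Ideal A), Q₀.IsPrime → ∀ (s : A) (h : L),
      (∀ Q : Ideal A, Q.IsPrime → Q.height = 1 → Q ≤ Q₀ → InLoc Q (μ s * g Q - h)) →
      ∃ t, t ∉ Q₀ ∧ t * s ∈ J := by
    intro Q₀ hQ₀ s h hh
    let Bad : Set (Ideal A) := {Q | Q.IsPrime ∧ Q.height = 1 ∧ ¬ InLoc Q (μ s * g Q - h)}
    have hfin : Bad.Finite := by
      obtain ⟨u, v, hv, hf⟩ := IsFractionRing.div_surjective A f
      obtain ⟨u', v', hv', hh'⟩ := IsFractionRing.div_surjective A h
      have hvv : v * v' ≠ 0 := mul_ne_zero (nonZeroDivisors.ne_zero hv) (nonZeroDivisors.ne_zero hv')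
      refine ((Ideal.span {v * v'}).finite_minimalPrimes_of_isNoetherianRing A).subset ?_
      rintro Q ⟨hQ, hQ1, hbad⟩
      have hmem : v * v' ∈ Q := by
        by_contra hn
        apply hbad
        have hvQ : v ∉ Q := fun h => hn (Q.mul_mem_right _ h)
        have hv'Q : v' ∉ Q := fun h => hn (Q.mul_mem_left _ h)
        have hfQ : InLoc Q f := by rw [← hf]; exact (InLoc.of_map hQ u).div hvQ
        have hhQ : InLoc Q h := by rw [← hh']; exact (InLoc.of_map hQ u').div hv'Q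
        have hgQ : InLoc Q (g Q) := inLoc_of_pow_sub hp2 1 (by
          have := (hg Q hQ hQ1).sub hfQ
          simpa [add_sub_assoc] using this)
        exact ((InLoc.of_map hQ s).mul hgQ).sub hhQ
      refine ⟨⟨hQ, (Ideal.span_singleton_le_iff_mem _).2 hmem⟩, fun P hP hPQ => ?_⟩
      rcases hPQ.lt_or_eq with hlt | heq
      · exfalso
        haveI := hP.1
        have h0 := (Ideal.height_le_iff (n := 1)).1 hQ1.le P hP.1 hlt
        rw [Nat.cast_one, Order.lt_one_iff, Ideal.height_eq_zero_iff,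
          IsDomain.minimalPrimes_eq_singleton_bot, Set.mem_singleton_iff] at h0
        exact hvv (Ideal.mem_bot.1 (h0 ▸ hP.2 (Ideal.mem_span_singleton_self _)))
      · exact heq.ge
    have hnle : ∀ Q ∈ Bad, ∃ t, t ∈ Q ∧ t ∉ Q₀ := fun Q hQ =>
      Set.not_subset.1 fun hle => hQ.2.2 (hh Q hQ.1 hQ.2.1 hle)
    choose t ht htQ using hnle
    have hpow : ∀ Q (hQ : Q ∈ Bad), ∃ N : ℕ, InLoc Q (μ (t Q hQ) ^ N * (μ s * g Q - h)) :=
      fun Q hQ => by
        haveI := hQ.1
        exact inLoc_killing Q hQ.2.1 (ht Q hQ) _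
    choose N hN using hpow
    let T : A := ∏ Q : hfin.toFinset, t Q.1 (hfin.mem_toFinset.1 Q.2) ^ N Q.1 (hfin.mem_toFinset.1 Q.2)
    refine ⟨T, fun hmem => ?_, μ T * h, fun Q hQ hQ1 => ?_⟩
    · obtain ⟨Q, -, hQ⟩ := Ideal.IsPrime.prod_mem_iff.1 hmem
      exact htQ _ _ (hQ₀.mem_of_pow_mem _ hQ)
    rw [show μ (T * s) * g Q - μ T * h = μ T * (μ s * g Q - h) by rw [map_mul]; ring]
    by_cases hb : InLoc Q (μ s * g Q - h)
    · exact (InLoc.of_map hQ T).mul hb
    · have hQb : Q ∈ Bad := ⟨hQ, hQ1, hb⟩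
      obtain ⟨T', hT'⟩ : t Q hQb ^ N Q hQb ∣ T :=
        Finset.dvd_prod_of_mem
          (fun Q : hfin.toFinset => t Q.1 (hfin.mem_toFinset.1 Q.2) ^ N Q.1 (hfin.mem_toFinset.1 Q.2))
          (Finset.mem_univ ⟨Q, hfin.mem_toFinset.2 hQb⟩)
      have := (InLoc.of_map hQ T').mul (hN Q hQb)
      convert this using 1
      simp only [μ, hT', map_mul, map_pow]; ring
  suffices hJ : J = ⊤ by
    obtain ⟨h, hh⟩ : (1 : A) ∈ J := hJ ▸ Submodule.mem_top
    obtain ⟨a, s, hs, ha⟩ := inLoc_of_forall_height_one (maximalIdeal A) (f + h ^ p - h)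
      fun Q hQ hQ1 _ => by
        have h1 : InLoc Q (g Q - h) := by simpa [μ] using hh Q hQ hQ1
        have := ((hg Q hQ hQ1).sub (h1.pow p)).add h1
        convert this using 1
        rw [sub_pow_char]; ring
    obtain ⟨w, rfl⟩ : IsUnit s := by
      by_contra hns
      exact hs hns
    exact ⟨h, a * ↑w⁻¹, by rw [map_mul, ← ha, mul_assoc, ← map_mul, Units.mul_inv, map_one, mul_one]⟩
  by_contra hJ
  obtain ⟨M, hM, hJM⟩ := Ideal.exists_le_maximal J hJ
  obtain ⟨Q₀, hQ₀min, -⟩ := Ideal.exists_minimalPrimes_le hJM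
  haveI hQ₀ : Q₀.IsPrime := hQ₀min.1.1
  have hJQ₀ : J ≤ Q₀ := hQ₀min.1.2
  have hQ₀bot : Q₀ ≠ ⊥ := by
    intro h
    obtain ⟨t, ht, htJ⟩ := lift ⊥ Ideal.isPrime_bot 1 0 fun Q hQ hQ1 hle => by
      rw [le_bot_iff] at hle
      subst hle
      rw [Ideal.height_bot] at hQ1
      exact absurd hQ1 zero_ne_one
    rw [mul_one] at htJ
    exact ht (h ▸ hJQ₀ htJ)
  -- a regular parameter at `Q₀`
  let R := Localization.AtPrime Q₀
  haveI : IsRegularLocalRing R := CAlg1.regular_localization A Q₀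
  haveI := CAlg1.isDomain_regular R
  have hinjR : Function.Injective (algebraMap A R) :=
    IsLocalization.injective R Q₀.primeCompl_le_nonZeroDivisors
  obtain ⟨a₀, ha₀, ha₀2⟩ : ∃ a₀, a₀ ∈ Q₀ ∧ algebraMap A R a₀ ∉ maximalIdeal R ^ 2 := by
    by_contra hc
    push Not at hc
    have hle : maximalIdeal R ≤ maximalIdeal R • maximalIdeal R := by
      rw [smul_eq_mul, ← sq, ← Localization.AtPrime.map_eq_maximalIdeal, Ideal.map_le_iff_le_comap]
      intro a ha
      rw [Localization.AtPrime.map_eq_maximalIdeal]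
      exact hc a ha
    have hbot := Submodule.eq_bot_of_le_smul_of_le_jacobson_bot (maximalIdeal R) (maximalIdeal R)
      (IsNoetherian.noetherian _) hle (maximalIdeal_le_jacobson _)
    obtain ⟨a, ha, ha0⟩ := (Submodule.ne_bot_iff Q₀).1 hQ₀bot
    refine ha0 (hinjR ?_)
    rw [map_zero, ← Ideal.mem_bot, ← hbot]
    exact (IsLocalization.AtPrime.to_map_mem_maximal_iff R Q₀ a).2 ha
  set x := algebraMap A R a₀
  have hxm : x ∈ maximalIdeal R := (IsLocalization.AtPrime.to_map_mem_maximal_iff R Q₀ a₀).2 ha₀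
  haveI hD : IsRegularLocalRing (R ⧸ Ideal.span {x}) := (CAlg1.regular_quotient_singleton hxm ha₀2).1
  haveI := CAlg1.isDomain_regular (R ⧸ Ideal.span {x})
  haveI := CAlg6.isIntegrallyClosed_of_regular (R ⧸ Ideal.span {x})
  have hxp : (Ideal.span {x}).IsPrime := (Ideal.Quotient.isDomain_iff_prime _).1 inferInstance
  have hx0 : x ≠ 0 := fun h => ha₀2 (h ▸ zero_mem _)
  have hxh : (Ideal.span {x}).height = 1 := by
    refine le_antisymm (Ideal.height_le_one_of_isPrincipal_of_mem_minimalPrimes (Ideal.span {x}) _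
      ⟨⟨hxp, le_rfl⟩, fun P hP _ => hP.2⟩) ?_
    rw [ENat.one_le_iff_ne_zero, Ne, Ideal.height_eq_zero_iff,
      IsDomain.minimalPrimes_eq_singleton_bot, Set.mem_singleton_iff, Ideal.span_singleton_eq_bot]
    exact hx0
  let Qx : Ideal A := (Ideal.span {x}).comap (algebraMap A R)
  haveI hQxp : Qx.IsPrime := hxp.comap _
  have hQx1 : Qx.height = 1 := by
    rw [← hxh]; exact IsLocalization.height_under Q₀.primeCompl _
  have ha₀x : a₀ ∈ Qx := Ideal.mem_span_singleton_self x
  have hQxle : Qx ≤ Q₀ := fun y hy => by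
    by_contra hy'
    exact hxp.ne_top (Ideal.eq_top_of_isUnit_mem _ hy
      (IsLocalization.map_units R (⟨y, hy'⟩ : Q₀.primeCompl)))
  have hQxdvd : ∀ q ∈ Qx, ∃ t r, t ∉ Q₀ ∧ t * q = a₀ * r := fun q hq => by
    obtain ⟨c, hc⟩ := Ideal.mem_span_singleton.1 (show algebraMap A R q ∈ Ideal.span {x} from hq)
    obtain ⟨r, t, rfl⟩ := IsLocalization.exists_mk'_eq Q₀.primeCompl c
    refine ⟨t, r, t.2, hinjR ?_⟩
    rw [map_mul, map_mul, hc, mul_comm, mul_assoc, IsLocalization.mk'_spec]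
  have hother : ∀ Q : Ideal A, Q.IsPrime → Q.height = 1 → Q ≤ Q₀ → Q ≠ Qx → a₀ ∉ Q := by
    intro Q hQ hQ1 hle hne hmem
    have hle' : Qx ≤ Q := fun q hq => by
      obtain ⟨t, r, ht, he⟩ := hQxdvd q hq
      exact (hQ.mem_or_mem (show t * q ∈ Q from he ▸ Q.mul_mem_right _ hmem)).resolve_left
        fun h => ht (hle h)
    have hlt : Qx < Q := lt_of_le_of_ne hle' (Ne.symm hne)
    have h0 := (Ideal.height_le_iff (n := 1)).1 hQ1.le Qx hQxp hlt
    rw [hQx1] at h0
    exact absurd h0 (by simp)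
  have ha0ne : a₀ ≠ 0 := fun h => hx0 (by show algebraMap A R a₀ = 0; rw [h, map_zero])
  have hμ0 : μ a₀ ≠ 0 := by
    show algebraMap A L a₀ ≠ 0
    rw [Ne, map_eq_zero_iff _ (IsFractionRing.injective A L)]; exact ha0ne
  -- a power of the parameter is in `J` near `Q₀`
  obtain ⟨N, tN, htN, hN⟩ : ∃ (N : ℕ) (t : A), t ∉ Q₀ ∧ t * a₀ ^ N ∈ J := by
    by_cases hd : Disjoint (J : Set A) (Submonoid.powers a₀ ⊔ Q₀.primeCompl : Submonoid A)
    · exfalso
      obtain ⟨P, hP, hJP, hdis⟩ := Ideal.exists_le_prime_disjoint _ _ hd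
      have hPQ : P ≤ Q₀ := fun y hy => by
        by_contra hyQ
        exact Set.disjoint_left.1 hdis hy ((le_sup_right : Q₀.primeCompl ≤ _) hyQ)
      exact Set.disjoint_left.1 hdis (hQ₀min.2 ⟨hP, hJP⟩ hPQ ha₀)
        ((le_sup_left : Submonoid.powers a₀ ≤ _) (Submonoid.mem_powers a₀))
    · obtain ⟨y, hy1, hy2⟩ := Set.not_disjoint_iff.1 hd
      obtain ⟨_, ⟨N, rfl⟩, s, hs, rfl⟩ := Submonoid.mem_sup.1 hy2
      exact ⟨N, s, hs, by rwa [mul_comm]⟩
  induction N generalizing tN with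
  | zero => exact htN (hJQ₀ (by simpa using hN))
  | succ e ih =>
    obtain ⟨h₁, hh₁⟩ := hN
    set h₀ := h₁ / μ tN / μ a₀ ^ (e + 1) with hh₀
    have hH : ∀ Q : Ideal A, Q.IsPrime → Q.height = 1 → Q ≤ Q₀ →
        InLoc Q (μ a₀ ^ (e + 1) * (g Q - h₀)) := by
      intro Q hQ hQ1 hle
      have htQ : tN ∉ Q := fun h => htN (hle h)
      have hne : μ tN ≠ 0 := map_ne_zero_of_notMem htQ
      have := (hh₁ Q hQ hQ1).div htQ
      convert this using 1
      rw [hh₀]
      simp only [μ, map_mul, map_pow]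
      refine (eq_div_iff hne).2 ?_
      have h1 : h₁ / algebraMap A L tN * algebraMap A L tN = h₁ := div_mul_cancel₀ _ hne
      have h2 : algebraMap A L a₀ ^ (e + 1) *
          (h₁ / algebraMap A L tN / algebraMap A L a₀ ^ (e + 1)) = h₁ / algebraMap A L tN :=
        mul_div_cancel₀ _ (pow_ne_zero _ hμ0)
      linear_combination (-algebraMap A L tN) * h2 - h1
    have hgen : ∀ Q : Ideal A, Q.IsPrime → Q.height = 1 → Q ≤ Q₀ → Q ≠ Qx → InLoc Q (g Q - h₀) :=
      fun Q hQ hQ1 hle hne => by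
        refine inLoc_of_mul (t := a₀ ^ (e + 1))
          (fun h => hother Q hQ hQ1 hle hne (hQ.mem_of_pow_mem _ h)) ?_
        rw [map_pow]
        exact hH Q hQ hQ1 hle
    set f₁ := f + h₀ ^ p - h₀ with hf₁
    have hf₁Q : ∀ Q, f₁ = (f + g Q ^ p - g Q) - (g Q - h₀) ^ p + (g Q - h₀) := fun Q => by
      rw [hf₁, sub_pow_char]; ring
    obtain ⟨m, hm⟩ : ∃ m, p = m + 2 := ⟨p - 2, by omega⟩
    -- the top polar coefficient
    obtain ⟨c, s, hs, hcs⟩ := hH Qx hQxp hQx1 hQxle
    let W : L := μ a₀ ^ (p * (e + 1) - 1) * (f + g Qx ^ p - g Qx) +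
      μ a₀ ^ ((p - 1) * (e + 1) - 1) * (μ a₀ ^ (e + 1) * (g Qx - h₀))
    have hW : InLoc Qx W := (((InLoc.of_map hQxp a₀).pow _).mul (hg Qx hQxp hQx1)).add
      (((InLoc.of_map hQxp a₀).pow _).mul (hH Qx hQxp hQx1 hQxle))
    have heq : μ a₀ ^ (p * (e + 1)) * f₁ =
        μ a₀ * W - (μ a₀ ^ (e + 1) * (g Qx - h₀)) ^ p := by
      have e1 : μ a₀ ^ (p * (e + 1)) = μ a₀ * μ a₀ ^ (p * (e + 1) - 1) := by
        rw [← pow_succ', Nat.sub_add_cancel (by rw [hm]; exact Nat.mul_pos (by omega) (by omega))]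
      have e2 : μ a₀ ^ ((p - 1) * (e + 1)) = μ a₀ * μ a₀ ^ ((p - 1) * (e + 1) - 1) := by
        rw [← pow_succ', Nat.sub_add_cancel (Nat.mul_pos (by omega) (by omega))]
      have e3 : μ a₀ ^ ((p - 1) * (e + 1)) * μ a₀ ^ (e + 1) = μ a₀ ^ (p * (e + 1)) := by
        rw [← pow_add]; congr 1
        conv_rhs => rw [show p = (p - 1) + 1 by omega, add_mul, one_mul]
      rw [mul_pow, ← pow_mul, mul_comm (e + 1) p, hf₁Q Qx]
      show _ = μ a₀ * (_ + _) - _
      linear_combination (f + g Qx ^ p - g Qx) * e1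
        + μ a₀ ^ (e + 1) * (g Qx - h₀) * e2 - (g Qx - h₀) * e3
    obtain ⟨b₀, s₀, hs₀, hb₀⟩ := inLoc_of_forall_height_one Q₀ (μ a₀ ^ (p * (e + 1)) * f₁)
      fun Q hQ hQ1 hle => by
        by_cases hne : Q = Qx
        · subst hne
          rw [heq]
          exact ((InLoc.of_map hQ a₀).mul hW).sub ((hH Qx hQ hQ1 hle).pow p)
        · rw [hf₁Q Q]
          exact ((InLoc.of_map hQ a₀).pow _).mul
            (((hg Q hQ hQ1).sub ((hgen Q hQ hQ1 hle hne).pow p)).add (hgen Q hQ hQ1 hle hne))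
    obtain ⟨c', s', hs', hW'⟩ := hW
    -- reduce modulo the parameter
    have hrel : b₀ * s' * s ^ p + c ^ p * s' * s₀ = a₀ * c' * s₀ * s ^ p := by
      apply IsFractionRing.injective A L
      simp only [map_add, map_mul, map_pow]
      rw [← hb₀, ← hW', ← hcs, heq]
      generalize μ a₀ ^ (e + 1) * (g Qx - h₀) = X
      simp only [μ, mul_pow]
      ring
    let π : A →+* R ⧸ Ideal.span {x} := (Ideal.Quotient.mk _).comp (algebraMap A R)
    have hπ : ∀ y, π y = 0 ↔ y ∈ Qx := fun y => by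
      show Ideal.Quotient.mk _ (algebraMap A R y) = 0 ↔ _
      rw [Ideal.Quotient.eq_zero_iff_mem]; rfl
    have hrel' := congrArg π hrel
    simp only [map_add, map_mul, map_pow, (hπ a₀).2 ha₀x, zero_mul] at hrel'
    have hs'0 : π s' ≠ 0 := fun h => hs' ((hπ _).1 h)
    obtain ⟨d, hd⟩ : π s ∣ π c := by
      have hu₀ : IsUnit (π s₀) :=
        (IsLocalization.map_units R (⟨s₀, hs₀⟩ : Q₀.primeCompl)).map (Ideal.Quotient.mk _)
      refine (IsIntegrallyClosed.pow_dvd_pow_iff hp.out.ne_zero).1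
        ((IsUnit.dvd_mul_right hu₀).1 ⟨-(π b₀), ?_⟩)
      apply mul_left_cancel₀ hs'0
      linear_combination hrel'
    obtain ⟨yR, rfl⟩ := Ideal.Quotient.mk_surjective d
    obtain ⟨a₁, t₁, rfl⟩ := IsLocalization.exists_mk'_eq Q₀.primeCompl yR
    have hmem : c * t₁ - a₁ * s ∈ Qx := (hπ _).1 (by
      rw [map_sub, map_mul, map_mul, hd]
      show π s * Ideal.Quotient.mk _ _ * Ideal.Quotient.mk _ (algebraMap A R t₁) - _ = 0
      rw [mul_assoc, ← map_mul, IsLocalization.mk'_spec, mul_comm (π a₁)]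
      exact sub_self _)
    obtain ⟨t₂, r, ht₂, hr⟩ := hQxdvd _ hmem
    set y₀ : L := μ a₁ / μ t₁ with hy₀
    have ht₁x : (t₁ : A) ∉ Qx := fun h => t₁.2 (hQxle h)
    have ht₂x : t₂ ∉ Qx := fun h => ht₂ (hQxle h)
    obtain ⟨t, ht, htJ⟩ := lift Q₀ hQ₀ (a₀ ^ e) (μ a₀ ^ e * h₀ + y₀ / μ a₀) fun Q hQ hQ1 hle => by
      by_cases hne : Q = Qx
      · subst hne
        refine ⟨r, s * t₁ * t₂, fun h => ?_, ?_⟩
        · rcases hQ.mem_or_mem h with h | h
          · rcases hQ.mem_or_mem h with h | h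
            · exact hs h
            · exact ht₁x h
          · exact ht₂x h
        have hsL : algebraMap A L s ≠ 0 := map_ne_zero_of_notMem hs
        have ht₁L : algebraMap A L (t₁ : A) ≠ 0 := map_ne_zero_of_notMem ht₁x
        have hr' := congrArg (algebraMap A L) hr
        simp only [map_mul, map_sub] at hr'
        simp only [μ] at hcs hμ0 ⊢
        rw [map_pow, map_mul, map_mul, hy₀]
        simp only [μ]
        field_simp
        linear_combination hr' + algebraMap A L t₂ * algebraMap A L (t₁ : A) * hcs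
      · have ha : a₀ ∉ Q := hother Q hQ hQ1 hle hne
        have := (((InLoc.of_map (L := L) hQ a₀).pow e).mul (hgen Q hQ hQ1 hle hne)).sub
          (((InLoc.of_map (L := L) hQ a₁).div (fun h : (t₁ : A) ∈ Q => t₁.2 (hle h))).div ha)
        convert this using 1
        simp only [μ, hy₀, map_pow]
        ring
    exact ih t ht htJ

end Groth.Agent.WildQuot51
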