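import Mathlib
import Groth.Agent.WildQuot51.Purity

/-!
Automorphisms of the invariant ring of an action of order `p`, ramified precisely at the origin,
extend to the complete regular local ring.
-/

set_option autoImplicit false

universe u v w

namespace Groth.Agent.WildQuot51

open IsLocalRing Module

/-- Over a field without cyclic extensions of degree `p`, Artin–Schreier equations have roots. -/
theorem exists_artinSchreier_root (p : ℕ) [hp : Fact p.Prime] (k : Type v) [Field k] [CharP k p]
    (hkp : ∀ (L : Type v) [Field L] [Algebra k L], IsGalois k L → Module.finrank k L ≠ p) (c : k) :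
    ∃ x : k, x ^ p - x = c := by
  classical
  let g : Polynomial k := Polynomial.X ^ p - Polynomial.X - Polynomial.C c
  let M := g.SplittingField
  haveI : CharP M p := charP_of_injective_algebraMap (algebraMap k M).injective p
  have hdeg : g.natDegree = p := by
    have h1 : (Polynomial.X + Polynomial.C c : Polynomial k).natDegree < p := by
      rw [Polynomial.natDegree_X_add_C]; exact hp.out.one_lt
    show (Polynomial.X ^ p - Polynomial.X - Polynomial.C c : Polynomial k).natDegree = p
    rw [sub_sub, Polynomial.natDegree_sub_eq_left_of_natDegree_lt (by rwa [Polynomial.natDegree_X_pow]),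
      Polynomial.natDegree_X_pow]
  have hsep : g.Separable := by
    have h : Polynomial.derivative g = -1 := by
      simp [g, Polynomial.derivative_X_pow, CharP.cast_eq_zero k p]
    rw [Polynomial.separable_def, h]
    exact isCoprime_one_right.neg_right
  haveI : IsGalois k M := IsGalois.of_separable_splitting_field hsep
  obtain ⟨x, hx⟩ := (Polynomial.SplittingField.splits g).exists_eval_eq_zero (f := g.map (algebraMap k M))
    (by
      rw [Polynomial.degree_map]
      exact fun h => by
        have := Polynomial.natDegree_eq_zero_iff_degree_le_zero.2 h.le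
        rw [hdeg] at this
        exact hp.out.ne_zero this)
  rw [Polynomial.eval_map] at hx
  simp [g] at hx
  -- the Galois group embeds into the translations
  have hfix : ∀ y : M, y ^ p = y → ∃ i : ZMod p, (ZMod.castHom dvd_rfl M i) = y := by
    intro y hy
    by_contra hne
    push Not at hne
    let P : Polynomial M := Polynomial.X ^ p - Polynomial.X
    have hP : P.natDegree = p := by
      show (Polynomial.X ^ p - Polynomial.X : Polynomial M).natDegree = p
      rw [Polynomial.natDegree_sub_eq_left_of_natDegree_lt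
        (by rw [Polynomial.natDegree_X_pow, Polynomial.natDegree_X]; exact hp.out.one_lt),
        Polynomial.natDegree_X_pow]
    let s : Finset M := insert y (Finset.univ.image (ZMod.castHom (dvd_refl p) M))
    have hcard : s.card = p + 1 := by
      rw [Finset.card_insert_of_notMem (by simpa using hne),
        Finset.card_image_of_injective _ (ZMod.castHom_injective M), Finset.card_univ, ZMod.card]
    have hP0 : P = 0 := Polynomial.eq_zero_of_natDegree_lt_card_of_eval_eq_zero' P s (fun z hz => by
      simp only [s, Finset.mem_insert, Finset.mem_image, Finset.mem_univ, true_and] at hz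
      rcases hz with rfl | ⟨i, rfl⟩
      · simp [P, hy]
      · simp only [P, Polynomial.eval_sub, Polynomial.eval_pow, Polynomial.eval_X, ← map_pow,
          ZMod.pow_card, sub_self]) (by rw [hP, hcard]; omega)
    rw [hP0, Polynomial.natDegree_zero] at hP
    exact hp.out.ne_zero hP.symm
  have hx' : x ^ p = x + algebraMap k M c := by linear_combination hx
  have hi : ∀ σ : M ≃ₐ[k] M, ∃ i : ZMod p, σ x = x + ZMod.castHom dvd_rfl M i := fun σ => by
    have h := congrArg σ hx'
    rw [map_pow, map_add, AlgEquiv.commutes] at h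
    obtain ⟨i, hi⟩ := hfix (σ x - x) (by rw [sub_pow_char, h, hx']; ring)
    exact ⟨i, by rw [hi]; ring⟩
  choose τ hτ using hi
  have hgen : IntermediateField.adjoin k {x} = ⊤ := by
    rw [eq_top_iff]
    intro y _
    have h := Polynomial.SplittingField.adjoin_rootSet g
    have hy : y ∈ Algebra.adjoin k (g.rootSet M) := h ▸ Algebra.mem_top
    refine (Algebra.adjoin_le (fun z hz => ?_) :
      Algebra.adjoin k (g.rootSet M) ≤ (IntermediateField.adjoin k {x}).toSubalgebra) hy
    rw [Polynomial.mem_rootSet'] at hz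
    have hz2 := hz.2
    simp [g] at hz2
    obtain ⟨i, hi⟩ := hfix (z - x) (by rw [sub_pow_char, hx']; linear_combination hz2)
    have : z = x + ZMod.castHom dvd_rfl M i := by rw [hi]; ring
    rw [this]
    refine add_mem (IntermediateField.mem_adjoin_simple_self k x) ?_
    rw [← ZMod.natCast_zmod_val i, map_natCast]
    exact natCast_mem _ _
  have hinj : Function.Injective τ := fun σ σ' h => by
    refine AlgEquiv.ext fun y => ?_
    have hy : y ∈ IntermediateField.adjoin k {x} := hgen ▸ IntermediateField.mem_top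
    induction hy using IntermediateField.adjoin_induction with
    | mem z hz => rw [Set.mem_singleton_iff] at hz; rw [hz, hτ, hτ, h]
    | algebraMap z => rw [AlgEquiv.commutes, AlgEquiv.commutes]
    | add a b _ _ ha hb => rw [map_add, map_add, ha, hb]
    | inv a _ ha => rw [map_inv₀, map_inv₀, ha]
    | mul a b _ _ ha hb => rw [map_mul, map_mul, ha, hb]
  by_cases h1 : ∀ σ : M ≃ₐ[k] M, σ x = x
  · obtain ⟨y, hy⟩ := IsGalois.mem_bot_iff_fixed x |>.2 h1
    refine ⟨y, (algebraMap k M).injective ?_⟩
    rw [map_sub, map_pow]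
    change Algebra.ofId k M y = x at hy
    change (Algebra.ofId k M y) ^ p - Algebra.ofId k M y = _
    rw [hy, hx']
    ring
  · exfalso
    push Not at h1
    obtain ⟨σ, hσ⟩ := h1
    have h0 : τ 1 = 0 := by
      have := hτ 1
      rw [AlgEquiv.one_apply, left_eq_add, map_eq_zero_iff _ (ZMod.castHom_injective M)] at this
      exact this
    have hadd : ∀ a b, τ (a * b) = τ a + τ b := fun a b => by
      refine ZMod.castHom_injective M ?_
      have h := hτ (a * b)
      rw [AlgEquiv.mul_apply, hτ b, map_add, hτ a, ← ZMod.natCast_zmod_val (τ b), map_natCast,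
        map_natCast] at h
      rw [map_add, ← ZMod.natCast_zmod_val (τ b), map_natCast]
      linear_combination -h
    let T : (M ≃ₐ[k] M) →* Multiplicative (ZMod p) :=
      { toFun := fun σ => Multiplicative.ofAdd (τ σ)
        map_one' := by rw [h0]; rfl
        map_mul' := fun a b => by rw [hadd]; rfl }
    have hTinj : Function.Injective T := fun a b h => hinj (Multiplicative.ofAdd.injective h)
    have hdvd : Nat.card (M ≃ₐ[k] M) ∣ p := by
      have := Subgroup.card_dvd_of_injective T hTinj
      rwa [Nat.card_congr Multiplicative.toAdd, Nat.card_zmod] at this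
    rw [IsGalois.card_aut_eq_finrank] at hdvd
    rcases (Nat.dvd_prime hp.out).1 hdvd with h | h
    · rw [← IsGalois.card_aut_eq_finrank] at h
      haveI := (Nat.card_eq_one_iff_unique.1 h).1
      exact hσ (by rw [Subsingleton.elim σ 1, AlgEquiv.one_apply])
    · exact hkp M inferInstance h

/-- Artin–Schreier equations with coefficient in the maximal ideal have solutions. -/
theorem exists_root_complete (p : ℕ) [hp : Fact p.Prime] (A : Type u) [CommRing A] [IsLocalRing A]
    [CharP A p] [IsAdicComplete (maximalIdeal A) A] (a : A) (ha : a ∈ maximalIdeal A) :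
    ∃ w : A, w ^ p - w = a := by
  let S : ℕ → A := fun n => -∑ i ∈ Finset.range n, a ^ p ^ i
  have hS : ∀ n, S n ^ p - S n = a - a ^ p ^ n := by
    intro n
    induction n with
    | zero => simp [S, hp.out.ne_zero]
    | succ n ih =>
      have : S (n + 1) = S n - a ^ p ^ n := by simp [S, Finset.sum_range_succ]; ring
      rw [this, sub_pow_char, ← pow_mul, ← pow_succ]
      linear_combination ih
  have hmem : ∀ i, a ^ p ^ i ∈ maximalIdeal A ^ i := fun i =>
    Ideal.pow_le_pow_right (Nat.lt_pow_self hp.out.one_lt).le (Ideal.pow_mem_pow ha _)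
  obtain ⟨w, hw⟩ := IsPrecomplete.prec (I := maximalIdeal A) (M := A) inferInstance (f := S)
    fun {m n} hmn => by
      rw [SModEq.sub_mem, smul_eq_mul, Ideal.mul_top]
      have : S m - S n = ∑ i ∈ Finset.Ico m n, a ^ p ^ i := by
        rw [Finset.sum_Ico_eq_sub _ hmn]; simp [S]; ring
      rw [this]
      exact Ideal.sum_mem _ fun i hi => Ideal.pow_le_pow_right (Finset.mem_Ico.1 hi).1 (hmem i)
  refine ⟨w, sub_eq_zero.1 (IsHausdorff.haus (I := maximalIdeal A) inferInstance _ fun n => ?_)⟩
  have h := hw n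
  rw [SModEq.sub_mem, smul_eq_mul, Ideal.mul_top] at h ⊢
  rw [sub_zero]
  have e : w ^ p - w - a = -(S n - w) ^ p + (S n - w) - a ^ p ^ n := by
    rw [sub_pow_char]
    linear_combination hS n
  rw [e]
  exact sub_mem (add_mem (neg_mem (Ideal.pow_mem_of_mem _ h p hp.out.pos)) h) (hmem n)

variable (p : ℕ) [hp : Fact p.Prime] {A : Type u} [CommRing A] [IsDomain A]
  {G : Type w} [Group G] [Finite G] [MulSemiringAction G A]

/-- Distinct group elements stay distinct modulo a prime without inertia, so some trace survives. -/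
theorem exists_trace_notMem [Fintype G] (Q : Ideal A) [Q.IsPrime] (hI : Q.inertia G = ⊥) :
    ∃ a : A, ∑ g : G, g • a ∉ Q := by
  let ev : G → (A →* A ⧸ Q) := fun g =>
    ((Ideal.Quotient.mk Q).comp (MulSemiringAction.toRingHom G A g)).toMonoidHom
  have hev : Function.Injective ev := fun g g' h => by
    have hmem : g * g'⁻¹ ∈ Q.inertia G := AddSubgroup.mem_inertia.2 fun x => by
      have hx := DFunLike.congr_fun h (g'⁻¹ • x)
      change Ideal.Quotient.mk Q (g • g'⁻¹ • x) = Ideal.Quotient.mk Q (g' • g'⁻¹ • x) at hx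
      rw [smul_inv_smul, smul_smul, Ideal.Quotient.mk_eq_mk_iff_sub_mem] at hx
      exact hx
    rw [hI, Subgroup.mem_bot, mul_inv_eq_one] at hmem
    exact hmem
  have hli := (linearIndependent_monoidHom A (A ⧸ Q)).comp ev hev
  by_contra hc
  push Not at hc
  have h0 : (∑ g : G, (1 : A ⧸ Q) • ((fun f : A →* A ⧸ Q => (f : A → A ⧸ Q)) ∘ ev) g) = 0 := by
    funext a
    simp only [Finset.sum_apply, one_smul, Function.comp_apply, Pi.zero_apply]
    exact (map_sum (Ideal.Quotient.mk Q) (fun g => g • a) _).symm.trans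
      (Ideal.Quotient.eq_zero_iff_mem.2 (hc a))
  exact one_ne_zero (Fintype.linearIndependent_iff.1 hli (fun _ => 1) h0 1)

/-- Artin–Schreier data: near every prime without inertia over `P` there is `w` moved by translations
of a unit `t`, and `w ^ p - t ^ (p - 1) * w` is invariant. -/
theorem exists_as_data [CharP A p] (hcard : Nat.card G = p) :
    ∃ χ : G → A, (∃ g, χ g = 1) ∧ (∀ g, χ g ^ p = χ g) ∧ (∀ g (h : G), h • χ g = χ g) ∧
      ∀ (Q : Ideal A) [Q.IsPrime], Q.inertia G = ⊥ →
        ∃ w t : A, t ∉ Q ∧ (∀ g : G, g • t = t) ∧ ∀ g : G, g • w = w - χ g * t := by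
  classical
  haveI := Fintype.ofFinite G
  haveI : IsCyclic G := isCyclic_of_prime_card hcard
  let e : Multiplicative (ZMod p) ≃* G := hcard ▸ zmodCyclicMulEquiv ‹IsCyclic G›
  let ρ : ZMod p →+* A := ZMod.castHom dvd_rfl A
  let χ : G → A := fun g => ρ (Multiplicative.toAdd (e.symm g))
  have hadd : ∀ g h, χ (g * h) = χ g + χ h := fun g h => by
    simp only [χ, map_mul, toAdd_mul, map_add]
  have hfix : ∀ g (h : G), h • χ g = χ g := fun g h => by
    show MulSemiringAction.toRingHom G A h (ρ _) = ρ _
    exact RingHom.congr_fun (RingHom.ext_zmod ((MulSemiringAction.toRingHom G A h).comp ρ) ρ) _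
  refine ⟨χ, ⟨e (Multiplicative.ofAdd 1), by simp [χ]⟩,
    fun g => by simp only [χ]; rw [← map_pow, ZMod.pow_card], hfix, fun Q _ hQ => ?_⟩
  obtain ⟨a, ha⟩ := exists_trace_notMem Q hQ
  refine ⟨∑ g : G, χ g * g • a, ∑ g : G, g • a, ha, fun h => ?_, fun h => ?_⟩
  · rw [Finset.smul_sum]
    exact Fintype.sum_equiv (Equiv.mulLeft h) _ _ fun g => smul_smul h g a
  · rw [Finset.smul_sum, Finset.mul_sum, ← Finset.sum_sub_distrib]
    refine Fintype.sum_equiv (Equiv.mulLeft h) _ _ fun g => ?_
    rw [smul_mul', hfix, smul_smul, Equiv.coe_mulLeft, hadd]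
    ring

section Main

variable (p : ℕ) [hp : Fact p.Prime] (A : Type u) [CommRing A] [IsRegularLocalRing A] [CharP A p]
  [IsAdicComplete (maximalIdeal A) A] (hdim : 2 ≤ ringKrullDim A)
  (k : Type v) [Field k] [Algebra k A] (hk : Function.Surjective (residue A ∘ algebraMap k A))
  (hkp : ∀ (L : Type v) [Field L] [Algebra k L], IsGalois k L → Module.finrank k L ≠ p)
  (G : Type w) [Group G] [Finite G] [MulSemiringAction G A] (hcard : Nat.card G = p)
  [SMulCommClass G k A]
  (hram : ∀ P : Ideal A, P.IsPrime → P ≠ maximalIdeal A → P.inertia G = ⊥)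

lemma as_identity {F : Type*} [Field F] {p : ℕ} (hp : 0 < p) {n d a b m : F} (ha : a ≠ 0)
    (hb : b ≠ 0) (h : n * a ^ p + d ^ p - d * (a * b) ^ (p - 1) = m * b ^ p) :
    (n / b ^ p + (d / (a * b)) ^ p - d / (a * b)) * a ^ p = m := by
  obtain ⟨q, rfl⟩ : ∃ q, p = q + 1 := ⟨p - 1, by omega⟩
  simp only [Nat.add_sub_cancel, mul_pow] at h
  rw [div_pow, mul_pow]
  field_simp
  linear_combination (a * b) * h

/-- Extend an automorphism of `K` to an Artin–Schreier extension of degree `p`. -/
theorem exists_semilinear_equiv (p : ℕ) [hp : Fact p.Prime] {K L : Type*} [Field K] [Field L]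
    [Algebra K L] [FiniteDimensional K L] (hKL : finrank K L = p) (z : L)
    (hzK : z ∉ (⊥ : IntermediateField K L)) (f : K) (hf : algebraMap K L f = z ^ p - z)
    (φK : K ≃+* K) (z' : L) (hz' : algebraMap K L (φK f) = z' ^ p - z') :
    ∃ Ψ : L ≃+* L, ∀ x : K, Ψ (algebraMap K L x) = algebraMap K L (φK x) := by
  let P : Polynomial K := Polynomial.X ^ p - (Polynomial.X + Polynomial.C f)
  have hPm : P.Monic := Polynomial.monic_X_pow_sub
    (by rw [Polynomial.degree_X_add_C]; exact_mod_cast hp.out.one_lt)
  have hPd : P.natDegree = p := by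
    show (Polynomial.X ^ p - (Polynomial.X + Polynomial.C f) : Polynomial K).natDegree = p
    rw [Polynomial.natDegree_sub_eq_left_of_natDegree_lt (by
      rw [Polynomial.natDegree_X_pow, Polynomial.natDegree_X_add_C]; exact hp.out.one_lt),
      Polynomial.natDegree_X_pow]
  have hPz : Polynomial.aeval z P = 0 := by simp [P, hf]
  have hint : IsIntegral K z := ⟨P, hPm, hPz⟩
  have hmin : minpoly K z = P := by
    have h1 := IntermediateField.adjoin.finrank hint
    have hle : finrank K (IntermediateField.adjoin K {z}) ∣ p := by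
      rw [← hKL]
      exact ⟨_, (Module.finrank_mul_finrank K (IntermediateField.adjoin K {z}) L).symm⟩
    refine Polynomial.eq_of_monic_of_dvd_of_natDegree_le (minpoly.monic hint) hPm
      (minpoly.dvd K z hPz) ?_ |>.symm
    rw [hPd, ← h1]
    rcases (Nat.dvd_prime hp.out).1 hle with h | h
    · rw [IntermediateField.finrank_adjoin_simple_eq_one_iff] at h
      exact absurd h hzK
    · exact h.ge
  haveI : Fact (Irreducible P) := ⟨hmin ▸ minpoly.irreducible hint⟩
  let e : AdjoinRoot P →ₐ[K] L := AdjoinRoot.liftAlgHom P (Algebra.ofId K L) z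
    (by rw [← hPz]; rfl)
  haveI : FiniteDimensional K (AdjoinRoot P) := (AdjoinRoot.powerBasis hPm.ne_zero).finite
  have hbij : Function.Bijective e := by
    have hi : Function.Injective e := e.toRingHom.injective
    refine ⟨hi, (LinearMap.injective_iff_surjective_of_finrank_eq_finrank ?_ (f := e.toLinearMap)).1 hi⟩
    rw [(AdjoinRoot.powerBasis hPm.ne_zero).finrank, AdjoinRoot.powerBasis_dim, hPd, hKL]
  let E : AdjoinRoot P ≃ₐ[K] L := AlgEquiv.ofBijective e hbij
  let η : AdjoinRoot P →+* L := AdjoinRoot.lift ((algebraMap K L).comp φK.toRingHom) z' (by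
    simp only [P, Polynomial.eval₂_sub, Polynomial.eval₂_pow, Polynomial.eval₂_X, Polynomial.eval₂_add,
      Polynomial.eval₂_C, RingHom.coe_comp, Function.comp_apply]
    show z' ^ p - (z' + algebraMap K L (φK f)) = 0
    rw [hz']; ring)
  let Ψ : L →+* L := η.comp E.symm.toRingEquiv.toRingHom
  have hΨK : ∀ x : K, Ψ (algebraMap K L x) = algebraMap K L (φK x) := fun x => by
    show η (E.symm (algebraMap K L x)) = _
    rw [AlgEquiv.commutes]
    exact AdjoinRoot.lift_of _
  have hΨsurj : Function.Surjective Ψ := by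
    let bL := Module.finBasisOfFinrankEq K L hKL
    have hli : LinearIndependent K fun i => Ψ (bL i) := by
      rw [Fintype.linearIndependent_iff]
      intro c hc
      have h : Ψ (∑ i, φK.symm (c i) • bL i) = 0 := by
        rw [map_sum, ← hc]
        refine Finset.sum_congr rfl fun i _ => ?_
        rw [Algebra.smul_def, map_mul, hΨK, RingEquiv.apply_symm_apply, Algebra.smul_def]
      intro i
      have h0 := Fintype.linearIndependent_iff.1 bL.linearIndependent _
        (Ψ.injective (h.trans (map_zero Ψ).symm)) i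
      simpa using h0
    have hspan := hli.span_eq_top_of_card_eq_finrank' (by rw [Fintype.card_fin, hKL])
    intro y
    obtain ⟨c, hc⟩ := (Submodule.mem_span_range_iff_exists_fun K).1 (hspan ▸ Submodule.mem_top :
      y ∈ Submodule.span K (Set.range fun i => Ψ (bL i)))
    refine ⟨∑ i, φK.symm (c i) • bL i, ?_⟩
    rw [map_sum, ← hc]
    refine Finset.sum_congr rfl fun i _ => ?_
    rw [Algebra.smul_def, map_mul, hΨK, RingEquiv.apply_symm_apply, Algebra.smul_def]
  let ΨE : L ≃+* L := RingEquiv.ofBijective Ψ ⟨Ψ.injective, hΨsurj⟩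
  exact ⟨ΨE, hΨK⟩

set_option maxHeartbeats 800000 in
include hdim hk hkp hcard hram in
/-- Automorphisms of the invariant ring extend. -/
theorem exists_extend_aux (L : Type u) [Field L] [Algebra A L] [IsFractionRing A L]
    (φ : FixedPoints.subalgebra k A G ≃ₐ[k] FixedPoints.subalgebra k A G) :
    ∃ ψ : A ≃ₐ[k] A, ∀ x : FixedPoints.subalgebra k A G, ψ x = φ x := by
  classical
  haveI := CAlg1.isDomain_regular A
  haveI := CAlg6.isIntegrallyClosed_of_regular A
  let B := FixedPoints.subalgebra k A G
  haveI : Fintype G := Fintype.ofFinite G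
  haveI : SMulCommClass G B A := ⟨fun g b a => by
    show g • ((b : A) * a) = (b : A) * g • a
    rw [smul_mul', b.2 g]⟩
  haveI : Algebra.IsInvariant B A G := ⟨fun a ha => ⟨⟨a, ha⟩, rfl⟩⟩
  haveI : Algebra.IsIntegral B A := Algebra.IsInvariant.isIntegral B A G
  haveI : FaithfulSMul B A := (faithfulSMul_iff_algebraMap_injective B A).2 Subtype.val_injective
  have hm1 : ∀ Q : Ideal A, Q.IsPrime → Q.height = 1 → Q ≠ maximalIdeal A := fun Q _ hQ h => by
    subst h
    have h' := IsLocalRing.maximalIdeal_height_eq_ringKrullDim (R := A)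
    rw [hQ] at h'
    rw [← h'] at hdim
    exact absurd hdim (by decide)
  have hbot : (⊥ : Ideal A) ≠ maximalIdeal A := fun h => by
    have h' := IsLocalRing.maximalIdeal_height_eq_ringKrullDim (R := A)
    rw [← h, Ideal.height_bot] at h'
    rw [← h'] at hdim
    exact absurd hdim (by decide)
  haveI : FaithfulSMul G A := ⟨fun {g g'} h => by
    have hmem : g * g'⁻¹ ∈ (⊥ : Ideal A).inertia G := AddSubgroup.mem_inertia.2 fun x => by
      rw [mul_smul, h, smul_inv_smul, sub_self]; exact zero_mem _
    rwa [hram ⊥ Ideal.isPrime_bot hbot, Subgroup.mem_bot, mul_inv_eq_one] at hmem⟩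
  obtain ⟨χ, ⟨g₁, hg₁⟩, hχp, hχfix, hdata⟩ := exists_as_data p (A := A) hcard
  obtain ⟨w₀, t₀, ht₀, ht₀fix, hw₀⟩ := hdata ⊥ (hram ⊥ Ideal.isPrime_bot hbot)
  have ht₀0 : t₀ ≠ 0 := fun h => ht₀ (h ▸ Submodule.zero_mem _)
  have hN : ∀ w t : A, (∀ g : G, g • t = t) → (∀ g : G, g • w = w - χ g * t) →
      ∀ g : G, g • (w ^ p - t ^ (p - 1) * w) = w ^ p - t ^ (p - 1) * w := fun w t ht hw g => by
    rw [smul_sub, smul_mul', smul_pow', smul_pow', ht, hw, sub_pow_char, mul_pow, hχp]
    have : t ^ p = t ^ (p - 1) * t := by rw [← pow_succ, Nat.sub_add_cancel hp.out.pos]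
    rw [this]; ring
  haveI : CharP L p := charP_of_injective_algebraMap (IsFractionRing.injective A L) p
  let μ := algebraMap A L
  have hμinj : Function.Injective μ := IsFractionRing.injective A L
  let N₀ : B := ⟨_, hN w₀ t₀ ht₀fix hw₀⟩
  let T₀ : B := ⟨t₀, ht₀fix⟩
  have hT₀ : μ (φ T₀ : A) ≠ 0 := by
    rw [Ne, map_eq_zero_iff _ hμinj, ZeroMemClass.coe_eq_zero, map_eq_zero_iff _ φ.injective]
    exact fun h => ht₀0 (congrArg Subtype.val h)
  -- purity
  obtain ⟨g₂, a, ha⟩ := artinSchreier_purity (A := A) p (μ (φ N₀ : A) / μ (φ T₀ : A) ^ p)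
    fun Q hQ hQ1 => by
      haveI := hQ
      let P₀ : Ideal B := (Q.comap (algebraMap B A)).comap φ.toRingEquiv.toRingHom
      haveI : P₀.IsPrime := Ideal.IsPrime.comap _
      obtain ⟨Q₁, -, hQ₁, hQ₁P⟩ := Ideal.exists_ideal_over_prime_of_isIntegral (S := A) P₀ ⊥ (by
        rw [← RingHom.ker_eq_comap_bot,
          (RingHom.injective_iff_ker_eq_bot (algebraMap B A)).1 Subtype.val_injective]
        exact bot_le)
      have hQ₁m : Q₁ ≠ maximalIdeal A := fun h => by
        subst h
        have hmax : P₀.IsMaximal := hQ₁P ▸ Ideal.isMaximal_comap_of_isIntegral_of_isMaximal _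
        have hQm : (Q.comap (algebraMap B A)).IsMaximal := by
          have := Ideal.map_isMaximal_of_equiv φ.toRingEquiv (p := P₀)
          convert this using 1
          exact (Ideal.map_comap_of_surjective φ.toRingEquiv φ.surjective _).symm
        exact hm1 Q hQ hQ1 (IsLocalRing.eq_maximalIdeal
          (Ideal.isMaximal_of_isIntegral_of_isMaximal_comap Q hQm))
      obtain ⟨w, t, htQ, htfix, hw⟩ := hdata Q₁ (hram Q₁ hQ₁ hQ₁m)
      let T : B := ⟨t, htfix⟩
      let Nw : B := ⟨_, hN w t htfix hw⟩
      let D : B := ⟨w * t₀ - w₀ * t, fun g => by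
        show g • (w * t₀ - w₀ * t) = _
        rw [smul_sub, smul_mul', smul_mul', hw, hw₀, htfix, ht₀fix]; ring⟩
      have hTQ : (φ T : A) ∉ Q := fun h => htQ (by
        have : T ∈ P₀ := h
        rw [← hQ₁P] at this
        exact this)
      have hid : N₀ * T ^ p + D ^ p - D * (T * T₀) ^ (p - 1) = Nw * T₀ ^ p := by
        apply Subtype.ext
        push_cast
        show (w₀ ^ p - t₀ ^ (p - 1) * w₀) * t ^ p + (w * t₀ - w₀ * t) ^ p -
          (w * t₀ - w₀ * t) * (t * t₀) ^ (p - 1) = (w ^ p - t ^ (p - 1) * w) * t₀ ^ p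
        have h1 : t ^ p = t ^ (p - 1) * t := by rw [← pow_succ, Nat.sub_add_cancel hp.out.pos]
        have h2 : t₀ ^ p = t₀ ^ (p - 1) * t₀ := by rw [← pow_succ, Nat.sub_add_cancel hp.out.pos]
        rw [sub_pow_char, mul_pow, mul_pow, mul_pow, h1, h2]; ring
      have hid' := congrArg (fun x : B => μ (φ x : A)) hid
      simp only [map_add, map_sub, map_mul, map_pow, Subalgebra.coe_add, Subalgebra.coe_sub,
        Subalgebra.coe_mul, Subalgebra.coe_pow] at hid'
      refine ⟨μ (φ D : A) / (μ (φ T : A) * μ (φ T₀ : A)), (φ Nw : A), (φ T : A) ^ p,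
        fun h => hTQ (hQ.mem_of_pow_mem p h), ?_⟩
      have hTne : μ (φ T : A) ≠ 0 := map_ne_zero_of_notMem hTQ
      rw [map_pow]
      change (μ (φ N₀ : A) / μ (φ T₀ : A) ^ p + _ - _) * μ (φ T : A) ^ p = μ (φ Nw : A)
      exact as_identity hp.out.pos hTne hT₀ hid'
  -- a root
  obtain ⟨c, hc⟩ := hk (residue A a)
  haveI : CharP k p := (RingHom.charP_iff (algebraMap k A) (algebraMap k A).injective p).2 inferInstance
  obtain ⟨x₀, hx₀⟩ := exists_artinSchreier_root p k hkp c
  have hmem : a - (algebraMap k A x₀ ^ p - algebraMap k A x₀) ∈ maximalIdeal A := by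
    rw [← map_pow, ← map_sub, hx₀, ← residue_eq_zero_iff, map_sub, sub_eq_zero]
    exact hc.symm
  obtain ⟨y₀, hy₀⟩ := exists_root_complete p A _ hmem
  let z' : L := μ (algebraMap k A x₀ + y₀) - g₂
  have hz' : z' ^ p - z' = μ (φ N₀ : A) / μ (φ T₀ : A) ^ p := by
    have h1 : (algebraMap k A x₀ + y₀) ^ p - (algebraMap k A x₀ + y₀) = a := by
      rw [add_pow_char]; linear_combination hy₀
    have h2 := congrArg μ h1
    rw [map_sub, map_pow] at h2
    simp only [z']
    rw [sub_pow_char]
    linear_combination h2 - ha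
  -- the fraction field of the invariant ring
  let K := FractionRing B
  haveI : FaithfulSMul B L := (faithfulSMul_iff_algebraMap_injective B L).2
    ((IsFractionRing.injective A L).comp Subtype.val_injective)
  letI := FractionRing.liftAlgebra B L
  letI := IsFractionRing.mulSemiringAction G A L
  haveI : IsGaloisGroup G B A :=
    { faithful := inferInstance, commutes := inferInstance, isInvariant := inferInstance }
  haveI : IsGaloisGroup G K L := IsGaloisGroup.to_isFractionRing_of_isIntegral G B A K L
  have hKL : finrank K L = p := by rw [← IsGaloisGroup.card_eq_finrank G K L, hcard]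
  haveI : FiniteDimensional K L := IsGaloisGroup.finiteDimensional G K L
  let φK : K ≃+* K := IsFractionRing.ringEquivOfRingEquiv φ.toRingEquiv
  have hφK : ∀ b : B, φK (algebraMap B K b) = algebraMap B K (φ b) := fun b =>
    IsFractionRing.ringEquivOfRingEquiv_algebraMap _ b
  have hBL : ∀ b : B, algebraMap K L (algebraMap B K b) = μ (b : A) := fun b => by
    rw [← IsScalarTower.algebraMap_apply B K L, IsScalarTower.algebraMap_apply B A L]; rfl
  let z : L := μ w₀ / μ t₀
  have hμt₀ : μ t₀ ≠ 0 := by rw [Ne, map_eq_zero_iff _ hμinj]; exact ht₀0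
  let f : K := algebraMap B K N₀ / algebraMap B K T₀ ^ p
  have hf : algebraMap K L f = z ^ p - z := by
    simp only [f, z, map_div₀, map_pow, hBL, N₀, T₀, map_sub, map_mul]
    have h : μ t₀ ^ p = μ t₀ ^ (p - 1) * μ t₀ := by rw [← pow_succ, Nat.sub_add_cancel hp.out.pos]
    rw [div_pow, h]
    field_simp
  have hzK : z ∉ (⊥ : IntermediateField K L) := by
    rintro ⟨x, hx⟩
    obtain ⟨u, v, hv, rfl⟩ := IsFractionRing.div_surjective B x
    change algebraMap K L (algebraMap B K u / algebraMap B K v) = z at hx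
    rw [map_div₀, hBL, hBL] at hx
    have hv0 : μ (v : A) ≠ 0 := by
      rw [Ne, map_eq_zero_iff _ hμinj, ZeroMemClass.coe_eq_zero]; exact nonZeroDivisors.ne_zero hv
    rw [div_eq_div_iff hv0 hμt₀, ← map_mul, ← map_mul] at hx
    have h := congrArg (fun a => g₁ • a) (hμinj hx)
    simp only [smul_mul', ht₀fix, hw₀, hg₁, one_mul, show g₁ • (u : A) = u from u.2 g₁,
      show g₁ • (v : A) = v from v.2 g₁, sub_mul] at h
    exact mul_ne_zero ht₀0 (fun h0 => nonZeroDivisors.ne_zero hv (Subtype.ext h0))
      (by linear_combination h - hμinj hx : t₀ * (v : A) = 0)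
  have hz'K : algebraMap K L (φK f) = z' ^ p - z' := by
    rw [hz', map_div₀, map_pow, hφK, hφK, map_div₀, map_pow, hBL, hBL]
  obtain ⟨ΨE, hΨK⟩ := exists_semilinear_equiv p hKL z hzK f hf φK z' hz'K
  let Ψ : L →+* L := ΨE.toRingHom
  have hΨB : ∀ b : B, Ψ (μ (b : A)) = μ (φ b : A) := fun b => by
    rw [← hBL, ← hBL, ← hφK]; exact hΨK _
  -- integral elements go to integral elements
  have hA : ∀ (Φ : L →+* L) (θ : B ≃ₐ[k] B), (∀ b : B, Φ (μ (b : A)) = μ (θ b : A)) →
      ∀ x : A, ∃ y : A, μ y = Φ (μ x) := by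
    intro Φ θ hΦ x
    obtain ⟨Q, hQm, hQx⟩ := Algebra.IsIntegral.isIntegral (R := B) x
    have hroot : Polynomial.aeval (Φ (μ x)) (Q.map θ.toRingEquiv.toRingHom) = 0 := by
      rw [Polynomial.aeval_def, Polynomial.eval₂_map,
        show (algebraMap B L).comp θ.toRingEquiv.toRingHom = Φ.comp (algebraMap B L) from
          RingHom.ext fun b => (hΦ b).symm,
        ← Polynomial.hom_eval₂, show Polynomial.eval₂ (algebraMap B L) (μ x) Q =
          μ (Polynomial.eval₂ (algebraMap B A) x Q) by
            rw [Polynomial.hom_eval₂]; rfl, hQx, map_zero, map_zero]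
    exact IsIntegrallyClosed.isIntegral_iff.1
      (IsIntegral.tower_top (R := B) (A := A) ⟨_, hQm.map _, hroot⟩)
  choose F hF using hA Ψ φ hΨB
  have hΨB' : ∀ b : B, ΨE.symm.toRingHom (μ (b : A)) = μ (φ.symm b : A) := fun b => by
    show ΨE.symm (μ (b : A)) = _
    rw [RingEquiv.symm_apply_eq]
    show _ = Ψ _
    rw [hΨB, AlgEquiv.apply_symm_apply]
  choose F' hF' using hA ΨE.symm.toRingHom φ.symm hΨB'
  refine ⟨AlgEquiv.ofRingEquiv (f := {
    toFun := F, invFun := F'
    left_inv := fun x => hμinj (by rw [hF', hF]; exact ΨE.symm_apply_apply _)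
    right_inv := fun x => hμinj (by rw [hF, hF']; exact ΨE.apply_symm_apply _)
    map_mul' := fun x y => hμinj (by rw [hF, map_mul μ, map_mul μ, map_mul Ψ, hF, hF])
    map_add' := fun x y => hμinj (by rw [hF, map_add μ, map_add μ, map_add Ψ, hF, hF]) }) ?_, ?_⟩
  · intro c
    refine hμinj ?_
    show μ (F (algebraMap k A c)) = _
    rw [hF]
    have h := hΨB (algebraMap k B c)
    rw [AlgEquiv.commutes] at h
    exact h
  · intro b
    refine hμinj ?_
    show μ (F (b : A)) = _
    rw [hF, hΨB]

include hdim hk hkp hcard hram in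
/-- Automorphisms of the invariant ring extend. -/
theorem exists_extend_wild (φ : FixedPoints.subalgebra k A G ≃ₐ[k] FixedPoints.subalgebra k A G) :
    ∃ ψ : A ≃ₐ[k] A, ∀ x : FixedPoints.subalgebra k A G, ψ x = φ x :=
  haveI := CAlg1.isDomain_regular A
  exists_extend_aux p A hdim k hk hkp G hcard hram (FractionRing A) φ

include hdim hk hkp hcard hram in
/-- Galois over the invariants and the invariants Galois over `R`: Galois over `R`. -/
theorem card_algEquiv_eq (R : Type v) [CommRing R] [Algebra k R] [Algebra R A] [IsScalarTower k R A]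
    [Module.Finite R A] (hRinj : Function.Injective (algebraMap R A))
    (hRG : ∀ (σ : G) (r : R), σ • algebraMap R A r = algebraMap R A r)
    (hgal : p * Nat.card {φ : FixedPoints.subalgebra k A G ≃ₐ[k] FixedPoints.subalgebra k A G //
        ∀ b : FixedPoints.subalgebra k A G, (b : A) ∈ Set.range (algebraMap R A) → (φ b : A) = b} =
      Module.finrank R A) :
    Nat.card (A ≃ₐ[R] A) = Module.finrank R A := by
  classical
  haveI := CAlg1.isDomain_regular A
  haveI : IsDomain R := hRinj.isDomain
  haveI : FaithfulSMul R A := (faithfulSMul_iff_algebraMap_injective R A).2 hRinj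
  let B := FixedPoints.subalgebra k A G
  let S := {φ : B ≃ₐ[k] B // ∀ b : B, (b : A) ∈ Set.range (algebraMap R A) → (φ b : A) = b}
  choose ψ hψ using fun φ : S => exists_extend_wild p A hdim k hk hkp G hcard hram φ.1
  have hbot : (⊥ : Ideal A) ≠ maximalIdeal A := fun h => by
    have h' := IsLocalRing.maximalIdeal_height_eq_ringKrullDim (R := A)
    rw [← h, Ideal.height_bot] at h'
    rw [← h'] at hdim
    exact absurd hdim (by decide)
  have hfaith : ∀ g g' : G, (∀ x : A, g • x = g' • x) → g = g' := fun g g' h => by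
    have hmem : g * g'⁻¹ ∈ (⊥ : Ideal A).inertia G := AddSubgroup.mem_inertia.2 fun x => by
      rw [mul_smul, h, smul_inv_smul, sub_self]; exact zero_mem _
    rwa [hram ⊥ Ideal.isPrime_bot hbot, Subgroup.mem_bot, mul_inv_eq_one] at hmem
  have hψR : ∀ (φ : S) (r : R), ψ φ (algebraMap R A r) = algebraMap R A r := fun φ r => by
    rw [hψ φ ⟨algebraMap R A r, fun σ => hRG σ r⟩]
    exact φ.2 _ ⟨r, rfl⟩
  let Θ : G × S → (A ≃ₐ[R] A) := fun gs =>
    AlgEquiv.ofRingEquiv (f := (MulSemiringAction.toRingEquiv G A gs.1).trans (ψ gs.2).toRingEquiv)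
      (fun r => by
        show ψ gs.2 (gs.1 • algebraMap R A r) = _
        rw [hRG, hψR])
  have hΘ : Function.Injective Θ := by
    rintro ⟨g, s⟩ ⟨g', s'⟩ h
    have he : ∀ x : A, ψ s (g • x) = ψ s' (g' • x) := fun x => AlgEquiv.congr_fun h x
    obtain rfl : s = s' := Subtype.ext (AlgEquiv.ext fun b => Subtype.ext (by
      have := he b
      rw [show g • (b : A) = b from b.2 g, show g' • (b : A) = b from b.2 g', hψ, hψ] at this
      exact this))
    exact Prod.ext (hfaith g g' fun x => (ψ s).injective (he x)) rfl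
  let K := FractionRing R
  let L := FractionRing A
  letI := FractionRing.liftAlgebra R L
  haveI : Algebra.IsIntegral R A := Algebra.IsIntegral.of_finite R A
  haveI : FiniteDimensional K L := Module.Finite.of_isLocalization R A (nonZeroDivisors R)
  let Ext : (A ≃ₐ[R] A) → (L ≃ₐ[K] L) := fun σ => IsFractionRing.fieldEquivOfAlgEquiv K L L σ
  have hExt : Function.Injective Ext := fun σ τ h => AlgEquiv.ext fun x =>
    IsFractionRing.injective A L (by
      rw [← IsFractionRing.fieldEquivOfAlgEquiv_algebraMap K L L σ x,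
        ← IsFractionRing.fieldEquivOfAlgEquiv_algebraMap K L L τ x]
      exact AlgEquiv.congr_fun h _)
  haveI : Finite (L ≃ₐ[K] L) := inferInstance
  haveI : Finite (A ≃ₐ[R] A) := Finite.of_injective Ext hExt
  refine le_antisymm ?_ ?_
  · rw [← IsFractionRing.finrank_eq R K A L]
    refine le_trans (Nat.card_le_card_of_injective Ext hExt) ?_
    rw [Nat.card_eq_fintype_card]
    exact AlgEquiv.card_le
  · rw [← hgal, ← hcard, ← Nat.card_prod]
    exact Nat.card_le_card_of_injective Θ hΘ

end Main

end Groth.Agent.WildQuot51
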