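import Mathlib
import Groth.Agent.WildQuot51.Extend
import Groth.Agent.WildQuot51.Ramified
import Groth.Agent.WildQuot51.Admissible

/-!
The invariants are not purely inseparable over a norm subring.
-/

set_option autoImplicit false

universe u v w

namespace Groth.Agent.WildQuot51

open IsLocalRing Module

/-- Freshman telescope. -/
theorem as_telescope {F : Type*} [CommRing F] (p : ℕ) [Fact p.Prime] [CharP F p] (x : F) (d : ℕ) :
    (∑ i ∈ Finset.range d, x ^ p ^ i) ^ p - ∑ i ∈ Finset.range d, x ^ p ^ i = x ^ p ^ d - x := by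
  rw [sum_pow_char, ← Finset.sum_sub_distrib]
  simp_rw [← pow_mul, ← pow_succ]
  exact (Finset.sum_range_sub (fun i => x ^ p ^ i) d).trans (by rw [pow_zero, pow_one])

theorem as_id1 {F : Type*} [Field F] {w t : F} (ht : t ≠ 0) (q : ℕ) :
    (w / t) ^ (q + 1) - w / t = (w ^ (q + 1) - t ^ q * w) / t ^ (q + 1) := by
  rw [div_pow]
  field_simp
  ring

theorem as_id2 {F : Type*} [Field F] {w t s r : F} (ht : t ≠ 0) (hr : r ≠ 0) :
    (w / t + s / r) * (t * r) = w * r + s * t := by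
  field_simp

theorem as_id3 {F : Type*} [Field F] {N T T₁ N₁ D : F} (hT : T ≠ 0) (hT₁ : T₁ ≠ 0) (q : ℕ)
    (h : N * T₁ ^ (q + 1) - N₁ * T ^ (q + 1) = D ^ (q + 1) - D * (T * T₁) ^ q) :
    (N / T ^ (q + 1) - (D / (T * T₁)) ^ (q + 1) + D / (T * T₁)) * T₁ ^ (q + 1) = N₁ := by
  rw [div_pow, mul_pow] at *
  field_simp
  linear_combination (T * T₁) * h

/-- Some invariant has no iterated `p`-th power in the norm subring. -/
theorem exists_not_pow_mem (p : ℕ) [hp : Fact p.Prime] (A : Type u) [CommRing A] [IsRegularLocalRing A]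
    [CharP A p] [IsAdicComplete (maximalIdeal A) A] (n : ℕ) (hn : ringKrullDim A = n) (h2 : 2 ≤ n)
    (k : Type v) [Field k] [Algebra k A]
    (hk : Function.Surjective (IsLocalRing.residue A ∘ algebraMap k A))
    (G : Type w) [Group G] [Finite G] [MulSemiringAction G A] (hcard : Nat.card G = p)
    (hGk : ∀ (σ : G) (c : k), σ • algebraMap k A c = algebraMap k A c)
    (hram : ∀ P : Ideal A, P.IsPrime → P ≠ maximalIdeal A → P.inertia G = ⊥)
    (φ : MvPowerSeries (Fin n) k →ₐ[k] A) (x : Fin n → A)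
    (hx : (Ideal.span (Set.range x)).radical = maximalIdeal A)
    (hφ : ∀ i, φ (MvPowerSeries.X i) = x i) (hxG : ∀ (σ : G) i, σ • x i = x i) :
    ∃ y : A, (∀ σ : G, σ • y = y) ∧ ∀ e : ℕ, y ^ p ^ e ∉ Set.range φ := by
  classical
  by_contra hc
  push Not at hc
  haveI := CAlg1.isDomain_regular A
  haveI := CAlg6.isIntegrallyClosed_of_regular A
  obtain ⟨hfin, hinj⟩ := finite_injective hk hn x hx φ hφ
  let R := MvPowerSeries (Fin n) k
  haveI : IsRegularLocalRing R := CAlg6.isRegularLocalRing_mvPowerSeries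
  haveI := CAlg1.isDomain_regular R
  haveI : CharP R p := φ.toRingHom.charP hinj p
  letI : Algebra R A := φ.toRingHom.toAlgebra
  haveI : Module.Finite R A := hfin
  haveI : Algebra.IsIntegral R A := Algebra.IsIntegral.of_finite R A
  have hφG : ∀ (σ : G) (r : R), σ • φ r = φ r := fun σ => smul_powerSeries' σ (hGk σ) φ
    (fun i => by rw [hφ]; exact hx.le (Ideal.le_radical (Ideal.subset_span ⟨i, rfl⟩)))
    (fun i => by rw [hφ]; exact hxG σ i)
  obtain ⟨χ, ⟨g₁, hg₁⟩, hχp, hχfix, hdata⟩ := exists_as_data p (A := A) (G := G) hcard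
  have hroot : ∀ y : A, (∀ σ : G, σ • y = y) → ∃ e, ∀ e' ≥ e, ∃ r : R, φ r = y ^ p ^ e' := by
    intro y hy
    obtain ⟨e, r, hr⟩ := hc y hy
    refine ⟨e, fun e' he => ⟨r ^ p ^ (e' - e), ?_⟩⟩
    rw [map_pow, hr, ← pow_mul, ← pow_add, Nat.add_sub_cancel' he]
  have hASinv : ∀ w t : A, (∀ g : G, g • t = t) → (∀ g : G, g • w = w - χ g * t) →
      ∀ g : G, g • (w ^ p - t ^ (p - 1) * w) = w ^ p - t ^ (p - 1) * w := by
    intro w t ht hw g
    rw [smul_sub, smul_mul', smul_pow', smul_pow', hw, ht, sub_pow_char, mul_pow, hχp]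
    have : t ^ p = t ^ (p - 1) * t := by rw [← pow_succ, Nat.sub_add_cancel hp.out.pos]
    rw [this]; ring
  have hbot : (⊥ : Ideal A) ≠ maximalIdeal A := fun h => by
    have h' := IsLocalRing.maximalIdeal_height_eq_ringKrullDim (R := A)
    rw [← h, Ideal.height_bot, hn] at h'
    have : (0 : ℕ) = n := by exact_mod_cast h'
    omega
  obtain ⟨w, t, ht0, ht, hw⟩ := hdata ⊥ (hram ⊥ Ideal.isPrime_bot hbot)
  rw [Ideal.mem_bot] at ht0
  let N := w ^ p - t ^ (p - 1) * w
  obtain ⟨eN, heN⟩ := hroot N (hASinv w t ht hw)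
  obtain ⟨eT, heT⟩ := hroot t ht
  obtain ⟨Nr, hNr⟩ := heN (eN + eT) (Nat.le_add_right _ _)
  obtain ⟨Tr, hTr⟩ := heT (eN + eT) (Nat.le_add_left _ _)
  have hTr0 : Tr ≠ 0 := fun h => ht0 (eq_zero_of_pow_eq_zero (by rw [← hTr, h, map_zero]))
  let K := FractionRing R
  haveI : CharP K p := charP_of_injective_algebraMap (IsFractionRing.injective R K) p
  let ν := algebraMap R K
  have hνinj : Function.Injective ν := IsFractionRing.injective R K
  let F : K := ν Nr / ν Tr ^ p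
  -- unramified at height one primes of the norm subring
  have hloc : ∀ Q : Ideal R, Q.IsPrime → Q.height = 1 → ∃ g, InLoc Q (F + g ^ p - g) := by
    intro Q hQ hQ1
    obtain ⟨Q₁, -, hQ₁, hQ₁Q⟩ := Ideal.exists_ideal_over_prime_of_isIntegral (S := A) Q ⊥
      (by rw [← RingHom.ker_eq_comap_bot, (RingHom.injective_iff_ker_eq_bot (algebraMap R A)).mp hinj]; exact bot_le)
    have hne : Q₁ ≠ maximalIdeal A := fun e => by
      subst e
      have hmax : Q.IsMaximal := hQ₁Q ▸ Ideal.isMaximal_comap_of_isIntegral_of_isMaximal _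
      have h' := IsLocalRing.maximalIdeal_height_eq_ringKrullDim (R := R)
      rw [← IsLocalRing.eq_maximalIdeal hmax, hQ1, CAlg6.ringKrullDim_mvPowerSeries] at h'
      have : (1 : ℕ) = n := by exact_mod_cast h'
      omega
    obtain ⟨w₁, t₁, ht₁, ht₁G, hw₁⟩ := hdata Q₁ (hram Q₁ hQ₁ hne)
    let N₁ := w₁ ^ p - t₁ ^ (p - 1) * w₁
    let D := w * t₁ - w₁ * t
    have hD : ∀ g : G, g • D = D := fun g => by
      simp only [D, smul_sub, smul_mul', hw, hw₁, ht, ht₁G]; ring
    obtain ⟨eD, heD⟩ := hroot D hD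
    obtain ⟨e₁, he₁⟩ := hroot N₁ (hASinv w₁ t₁ ht₁G hw₁)
    obtain ⟨e₂, he₂⟩ := hroot t₁ ht₁G
    set e := eN + eT + (eD + e₁ + e₂) with he
    obtain ⟨Dr, hDr⟩ := heD e (by omega)
    obtain ⟨N₁r, hN₁r⟩ := he₁ e (by omega)
    obtain ⟨T₁r, hT₁r⟩ := he₂ e (by omega)
    set d := eD + e₁ + e₂ with hd
    have hT₁Q : T₁r ∉ Q := fun h => ht₁ (hQ₁.mem_of_pow_mem (p ^ e) (by
      rw [← hT₁r]
      exact (hQ₁Q.symm ▸ h : T₁r ∈ Q₁.comap (algebraMap R A))))
    have hkey : N * t₁ ^ p - N₁ * t ^ p = D ^ p - D * (t * t₁) ^ (p - 1) := by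
      have h1 : t₁ ^ p = t₁ ^ (p - 1) * t₁ := by rw [← pow_succ, Nat.sub_add_cancel hp.out.pos]
      have h2 : t ^ p = t ^ (p - 1) * t := by rw [← pow_succ, Nat.sub_add_cancel hp.out.pos]
      simp only [N, N₁, D]
      rw [sub_pow_char, mul_pow, mul_pow, mul_pow]
      linear_combination (t ^ (p - 1) * w₁ * t₁ ^ (p - 1) * t) * 0 - t ^ (p - 1) * w * h1 +
        t₁ ^ (p - 1) * w₁ * h2
    have hkeyR : Nr ^ p ^ d * T₁r ^ p - N₁r * (Tr ^ p ^ d) ^ p =
        Dr ^ p - Dr * (Tr ^ p ^ d * T₁r) ^ (p - 1) := hinj (by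
      have hq : ∀ z : A, (z ^ p ^ (eN + eT)) ^ p ^ d = z ^ p ^ e := fun z => by
        rw [← pow_mul, ← pow_add]
      have h := congrArg (fun z => z ^ p ^ e) hkey
      simp only [sub_pow_char_pow, mul_pow, pow_right_comm _ p (p ^ e),
        pow_right_comm _ (p - 1) (p ^ e)] at h
      simp only [map_sub, map_mul, map_pow, hNr, hTr, hDr, hN₁r, hT₁r, hq, mul_pow]
      exact h)
    let G' := ∑ i ∈ Finset.range d, F ^ p ^ i
    let H := ν Dr / (ν (Tr ^ p ^ d) * ν T₁r)
    refine ⟨G' - H, N₁r, T₁r ^ p, fun h => hT₁Q (hQ.mem_of_pow_mem p h), ?_⟩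
    have hG' : F + G' ^ p - G' = F ^ p ^ d := by
      rw [add_sub_assoc, as_telescope]; ring
    have h1 : ν T₁r ≠ 0 := (map_ne_zero_iff _ hνinj).2 fun h => hT₁Q (h ▸ zero_mem Q)
    have h2 : ν (Tr ^ p ^ d) ≠ 0 := (map_ne_zero_iff _ hνinj).2 (pow_ne_zero _ hTr0)
    have hFd : F ^ p ^ d = ν (Nr ^ p ^ d) / ν (Tr ^ p ^ d) ^ p := by
      simp only [F, div_pow, map_pow]; rw [pow_right_comm]
    have hR := congrArg ν hkeyR
    simp only [map_sub, map_mul, map_pow] at hR
    rw [sub_pow_char, show F + (G' ^ p - H ^ p) - (G' - H) = (F + G' ^ p - G') - H ^ p + H by ring,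
      hG', hFd]
    show _ * ν (T₁r ^ p) = ν N₁r
    obtain ⟨q, rfl⟩ : ∃ q, p = q + 1 := ⟨p - 1, (Nat.sub_add_cancel hp.out.pos).symm⟩
    simp only [Nat.add_sub_cancel] at hR
    simp only [H, map_pow] at h2 ⊢
    exact as_id3 h2 h1 q hR
  obtain ⟨g, a, hga⟩ := artinSchreier_purity p F hloc
  -- lift to the fraction field of the ring
  let L := FractionRing A
  let μ := algebraMap A L
  have hμinj : Function.Injective μ := IsFractionRing.injective A L
  haveI : CharP L p := charP_of_injective_algebraMap hμinj p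
  let B := FixedPoints.subring A G
  let ψ : B →+* L := μ.comp B.subtype
  have hψ : Function.Injective ψ := hμinj.comp Subtype.val_injective
  let Ψ : FractionRing B →+* L := IsFractionRing.lift hψ
  let IL := Ψ.fieldRange
  have hBIL : ∀ y : A, (∀ σ : G, σ • y = y) → μ y ∈ IL := fun y hy =>
    ⟨algebraMap B _ ⟨y, hy⟩, IsFractionRing.lift_algebraMap hψ _⟩
  let ι : K →+* L := IsFractionRing.lift (g := μ.comp φ.toRingHom) (hμinj.comp hinj)
  have hι : ∀ r : R, ι (ν r) = μ (φ r) := IsFractionRing.lift_algebraMap (g := μ.comp φ.toRingHom) _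
  have hgIL : ι g ∈ IL := by
    obtain ⟨r, s, -, rfl⟩ := IsFractionRing.div_surjective R g
    rw [map_div₀, hι, hι]
    exact div_mem (hBIL _ (hφG · r)) (hBIL _ (hφG · s))
  have hμt : μ t ≠ 0 := (map_ne_zero_iff _ hμinj).2 ht0
  let Z := μ w / μ t
  let f := μ N / μ t ^ p
  have hZ : Z ^ p - Z = f := by
    obtain ⟨q, rfl⟩ : ∃ q, p = q + 1 := ⟨p - 1, (Nat.sub_add_cancel hp.out.pos).symm⟩
    simp only [Z, f, N, map_sub, map_mul, map_pow, Nat.add_sub_cancel]
    exact as_id1 hμt q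
  let S := ∑ i ∈ Finset.range (eN + eT), f ^ p ^ i
  have hιF : ι F = f ^ p ^ (eN + eT) := by
    simp only [F, f, map_div₀, map_pow, hι, hNr, hTr, div_pow]
    rw [pow_right_comm]
  let Y := Z + S + ι g
  have hY : Y ^ p - Y = μ (φ a) := by
    have h := congrArg ι hga
    rw [map_sub, map_add, map_pow, hι, hιF] at h
    simp only [Y, add_pow_char]
    linear_combination h + hZ + as_telescope p f (eN + eT)
  have hint : IsIntegral A Y := by
    refine ⟨Polynomial.X ^ p - (Polynomial.X + Polynomial.C (φ a)),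
      Polynomial.monic_X_pow_sub (by rw [Polynomial.degree_X_add_C]; exact_mod_cast hp.out.one_lt), ?_⟩
    rw [Polynomial.eval₂_sub, Polynomial.eval₂_pow, Polynomial.eval₂_X, Polynomial.eval₂_add,
      Polynomial.eval₂_X, Polynomial.eval₂_C, ← sub_sub, hY, sub_self]
  obtain ⟨y, hy⟩ := IsIntegrallyClosed.isIntegral_iff.1 hint
  have hSg : S + ι g ∈ IL := add_mem
    (sum_mem fun i _ => pow_mem (div_mem (hBIL _ (hASinv w t ht hw)) (pow_mem (hBIL _ ht) _)) _) hgIL
  obtain ⟨z, hz⟩ := hSg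
  obtain ⟨s, r, hr, rfl⟩ := IsFractionRing.div_surjective B z
  rw [map_div₀, IsFractionRing.lift_algebraMap hψ, IsFractionRing.lift_algebraMap hψ] at hz
  have hr0 : μ (r : A) ≠ 0 := (map_ne_zero_iff _ hμinj).2 (by simpa using nonZeroDivisors.ne_zero hr)
  have hyw : y * (t * r) = w * r + s * t := hμinj (by
    simp only [map_mul, map_add]
    rw [show μ y = Z + (S + ι g) by rw [← add_assoc]; exact hy, ← hz]
    exact as_id2 hμt hr0)
  have h := congrArg (g₁ • ·) hyw
  simp only [smul_add, smul_mul', hw, hg₁, one_mul, ht, r.2 g₁, s.2 g₁] at h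
  have hunit : (g₁ • y - y + 1) * (t * r) = 0 := by linear_combination h - hyw
  have hy1 : g₁ • y - y = -1 := by
    rcases mul_eq_zero.1 hunit with h | h
    · linear_combination h
    · exact absurd h (mul_ne_zero ht0 (by simpa using nonZeroDivisors.ne_zero hr))
  obtain ⟨c, hc'⟩ := hk (residue A y)
  have hm : y - algebraMap k A c ∈ maximalIdeal A := by
    rw [← residue_eq_zero_iff, map_sub, sub_eq_zero]; exact hc'.symm
  have hm' : g₁ • y - y ∈ maximalIdeal A := by
    rw [show g₁ • y - y = g₁ • (y - algebraMap k A c) - (y - algebraMap k A c) by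
      rw [smul_sub, hGk]; ring]
    exact sub_mem (smul_mem_maximalIdeal g₁ hm) hm
  rw [hy1, neg_mem_iff] at hm'
  exact (maximalIdeal.isMaximal A).ne_top ((Ideal.eq_top_iff_one _).2 hm')

end Groth.Agent.WildQuot51
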