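import Groth.Agent.WildQuot51.Galois
import Groth.Agent.Pure83.BranchRegular

/-!
The group of a Galois cover of a regular local ring with trivial residue extension is generated by
the inertia subgroups in codimension one.
-/

set_option autoImplicit false

universe u v w

namespace Groth.Agent.WildQuot51

open IsLocalRing Module Pointwise

/-- A derivation over `R` is killed by the square of a separating element. -/
theorem sq_smul_derivation_eq_zero {R B M ι : Type*} [CommRing R] [CommRing B] [Algebra R B]
    [AddCommGroup M] [Module B M] [Module R M] [IsScalarTower R B M] (D : Derivation R B M)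
    (S : Finset ι) (x y : ι → B) (s : B) (T : B → B) (hT : ∀ b, T b ∈ Set.range (algebraMap R B))
    (hsum : ∀ b, ∑ i ∈ S, x i * T (y i * b) = s * b) (hs : ∑ i ∈ S, x i * y i = s) (b : B) :
    (s * s) • D b = 0 := by
  have hDT : ∀ b, D (T b) = 0 := fun b => by
    obtain ⟨r, hr⟩ := hT b
    rw [← hr, D.map_algebraMap]
  set A' := ∑ i ∈ S, x i • D (y i)
  set C' := ∑ i ∈ S, y i • D (x i)
  have hDs : D s = A' + C' := by
    rw [← hs, map_sum, ← Finset.sum_add_distrib]
    exact Finset.sum_congr rfl fun i _ => D.leibniz _ _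
  have key : ∀ b, ∑ i ∈ S, x i • D (s * (y i * b)) = (s * b) • C' := by
    intro b
    have h : ∀ i, D (s * (y i * b)) = ∑ k ∈ S, T (y k * (y i * b)) • D (x k) := fun i => by
      rw [← hsum, map_sum]
      exact Finset.sum_congr rfl fun k _ => by rw [D.leibniz, hDT, smul_zero, zero_add]
    simp only [h, Finset.smul_sum, smul_smul]
    rw [Finset.sum_comm, Finset.smul_sum]
    refine Finset.sum_congr rfl fun k _ => ?_
    rw [← Finset.sum_smul, smul_smul, mul_assoc, mul_comm b, ← hsum]
    congr 1
    exact Finset.sum_congr rfl fun i _ => by rw [mul_left_comm]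
  have h1 : ∀ b, (s * s) • D b + (s * b) • (A' + A') = 0 := by
    intro b
    have h := key b
    have e : ∀ i, x i • D (s * (y i * b)) =
        (x i * y i) • ((s • D b) + b • D s) + (s * b) • (x i • D (y i)) := fun i => by
      rw [D.leibniz, D.leibniz]
      module
    rw [Finset.sum_congr rfl fun i _ => e i, Finset.sum_add_distrib, ← Finset.sum_smul, hs,
      ← Finset.smul_sum, hDs] at h
    linear_combination (norm := module) h
  have h0 := h1 1
  rw [D.map_one_eq_zero, smul_zero, zero_add, mul_one] at h0
  have h2 := h1 b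
  rwa [mul_comm s b, mul_smul b, h0, smul_zero, add_zero] at h2

/-- A prime separating the group is unramified over the invariants. -/
theorem unramifiedAt_of_separated (R : Type u) {B : Type v} [CommRing R] [CommRing B] [Algebra R B]
    (G : Type w) [Group G] [Finite G] [MulSemiringAction G B] [Algebra.IsInvariant R B G]
    (Q : Ideal B) [Q.IsPrime] (h : ∀ g : G, g ≠ 1 → ∃ y : B, y - g • y ∉ Q) :
    Algebra.IsUnramifiedAt R Q := by
  classical
  haveI := Fintype.ofFinite G
  choose y₀ hy₀ using h
  let φ : B → G → B := fun b g => g • b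
  let M := Submodule.span B (Set.range φ)
  have hmul : ∀ b, ∀ F ∈ M, φ b * F ∈ M := by
    intro b F hF
    refine Submodule.span_induction (p := fun F _ => φ b * F ∈ M) ?_ ?_ ?_ ?_ hF
    · rintro _ ⟨c, rfl⟩
      exact Submodule.subset_span ⟨b * c, funext fun g => smul_mul' g b c⟩
    · simp
    · exact fun _ _ _ _ h₁ h₂ => by rw [mul_add]; exact add_mem h₁ h₂
    · exact fun c F _ h => by rw [mul_smul_comm]; exact M.smul_mem c h
  have hex : ∀ S : Finset G, (∀ g ∈ S, g ≠ 1) → ∃ F ∈ M, F 1 ∉ Q ∧ ∀ g ∈ S, F g = 0 := by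
    intro S
    induction S using Finset.induction_on with
    | empty =>
      refine fun _ => ⟨φ 1, Submodule.subset_span ⟨1, rfl⟩, ?_, by simp⟩
      show (1 : G) • (1 : B) ∉ Q
      rw [one_smul]
      exact (Ideal.ne_top_iff_one Q).1 ‹Q.IsPrime›.ne_top
    | insert a S ha ih =>
      intro hne
      obtain ⟨F, hF, hF1, hFS⟩ := ih fun g hg => hne g (Finset.mem_insert_of_mem hg)
      have ha1 := hne a (Finset.mem_insert_self a S)
      refine ⟨φ (y₀ a ha1) * F - (a • y₀ a ha1) • F,
        sub_mem (hmul _ _ hF) (M.smul_mem _ hF), ?_, fun g hg => ?_⟩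
      · show (1 : G) • y₀ a ha1 * F 1 - a • y₀ a ha1 * F 1 ∉ Q
        rw [one_smul, ← sub_mul]
        exact fun hm => (‹Q.IsPrime›.mem_or_mem hm).elim (hy₀ a ha1) hF1
      · show g • y₀ a ha1 * F g - a • y₀ a ha1 * F g = 0
        rcases Finset.mem_insert.1 hg with rfl | hg
        · rw [sub_self]
        · rw [hFS g hg, mul_zero, mul_zero, sub_self]
  obtain ⟨F, hF, hF1, hF0⟩ := hex (Finset.univ.erase 1) fun g hg => Finset.ne_of_mem_erase hg
  obtain ⟨c, hc⟩ := Finsupp.mem_span_range_iff_exists_finsupp.1 hF
  have hFg : ∀ g, ∑ i ∈ c.support, c i * g • i = F g := fun g => by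
    have := congrFun hc g
    rw [Finsupp.sum, Finset.sum_apply] at this
    exact this
  have hD : ∀ b, (F 1 * F 1) • ((KaehlerDifferential.D R
      (Localization.AtPrime Q)).compAlgebraMap B) b = 0 := by
    refine sq_smul_derivation_eq_zero _ c.support c id (F 1) (fun b => ∑ g : G, g • b) ?_ ?_ ?_
    · intro b
      obtain ⟨a, ha⟩ := Algebra.IsInvariant.isInvariant (A := R) (G := G) (∑ g : G, g • b) fun g => by
        rw [Finset.smul_sum]
        exact Fintype.sum_equiv (Equiv.mulLeft g) _ _ fun k => smul_smul g k b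
      exact ⟨a, ha⟩
    · intro b
      simp only [id, Finset.mul_sum, smul_mul']
      rw [Finset.sum_comm, Finset.sum_eq_single (1 : G)]
      · simp only [one_smul, ← mul_assoc, ← Finset.sum_mul]
        rw [← hFg 1]
        simp only [one_smul]
      · intro g _ hg
        simp only [← mul_assoc, ← Finset.sum_mul, hFg, hF0 g (by simp [hg]), zero_mul]
      · simp
    · simpa using hFg 1
  have hu : IsUnit (algebraMap B (Localization.AtPrime Q) (F 1 * F 1)) :=
    IsLocalization.map_units _ (⟨_, Q.primeCompl.mul_mem hF1 hF1⟩ : Q.primeCompl)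
  have hDB : ∀ b : B, KaehlerDifferential.D R (Localization.AtPrime Q)
      (algebraMap B (Localization.AtPrime Q) b) = 0 := fun b => by
    have h := hD b
    rw [← algebraMap_smul (Localization.AtPrime Q) (F 1 * F 1)] at h
    exact (IsUnit.smul_eq_zero hu).1 h
  rw [Algebra.IsUnramifiedAt, Algebra.formallyUnramified_iff]
  refine subsingleton_of_forall_eq 0 fun m => ?_
  have hm : m ∈ Submodule.span (Localization.AtPrime Q)
      (Set.range (KaehlerDifferential.D R (Localization.AtPrime Q))) := by
    rw [KaehlerDifferential.span_range_derivation]; trivial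
  refine Submodule.span_induction (p := fun m _ => m = 0) ?_ rfl
    (fun _ _ _ _ h₁ h₂ => by rw [h₁, h₂, add_zero]) (fun r _ _ h => by rw [h, smul_zero]) hm
  rintro _ ⟨z, rfl⟩
  obtain ⟨b, t, rfl⟩ := IsLocalization.exists_mk'_eq Q.primeCompl z
  have h := congrArg (KaehlerDifferential.D R (Localization.AtPrime Q))
    (IsLocalization.mk'_spec (Localization.AtPrime Q) b t)
  rw [Derivation.leibniz, hDB, hDB, smul_zero, zero_add] at h
  exact (IsUnit.smul_eq_zero (IsLocalization.map_units _ t)).1 h

section

variable {R : Type u} [CommRing R] {A : Type v} [CommRing A] [IsDomain A] [Algebra R A]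
  {H : Type w} [Group H] [Finite H] [MulSemiringAction H A] [SMulCommClass H R A]

/-- An element acting trivially on the residue of the invariants of a normal subgroup lies in that
subgroup, if it contains the inertia. -/
theorem mem_of_trivial_mod_normal (N : Subgroup H) [hN : N.Normal] (h : H) (Q : Ideal A) [Q.IsPrime]
    (htriv : ∀ y : FixedPoints.subalgebra R A N, h • (y : A) - (y : A) ∈ Q)
    (hI : Q.inertia H ≤ N) : h ∈ N := by
  let B := FixedPoints.subalgebra R A N
  haveI : Algebra.IsInvariant B A N := ⟨fun b hb => ⟨⟨b, hb⟩, rfl⟩⟩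
  haveI : SMulCommClass N B A := ⟨fun m y a => by
    show m • ((y : A) * a) = (y : A) * m • a
    rw [smul_mul', y.2 m]⟩
  have hstab : ∀ y : B, h⁻¹ • (y : A) ∈ B := fun y m => by
    show m.1 • h⁻¹ • (y : A) = _
    have hm : h * m.1 * h⁻¹ ∈ N := hN.conj_mem _ m.2 h
    conv_rhs => rw [← show (h * m.1 * h⁻¹) • (y : A) = y from y.2 ⟨_, hm⟩]
    simp only [smul_smul]
    congr 1
    group
  have h2 : ∀ y : B, (y : A) - h⁻¹ • (y : A) ∈ Q := fun y => by
    simpa [smul_inv_smul] using htriv ⟨_, hstab y⟩
  obtain ⟨m, hm⟩ := Algebra.IsInvariant.exists_smul_of_under_eq B A N (h • Q) Q (by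
    ext y
    show (y : A) ∈ h • Q ↔ (y : A) ∈ Q
    rw [Ideal.mem_pointwise_smul_iff_inv_smul_mem]
    exact ⟨fun h1 => by simpa using add_mem (h2 y) h1,
      fun h1 => by simpa using sub_mem h1 (h2 y)⟩)
  set τ : H := (m : H) * h with hτ
  have hτQ : τ • Q = Q := by
    rw [hτ, mul_smul]; exact hm.symm
  let P : Ideal B := Q.comap (algebraMap B A)
  haveI : Q.LiesOver P := ⟨rfl⟩
  let f₀ : A ⧸ Q ≃+* A ⧸ Q := Ideal.quotientEquiv Q Q (MulSemiringAction.toRingEquiv H A τ) (by
    conv_lhs => rw [← hτQ]
    rfl)
  let f : (A ⧸ Q) ≃ₐ[B ⧸ P] (A ⧸ Q) := AlgEquiv.ofRingEquiv (f := f₀) (by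
    intro x
    obtain ⟨y, rfl⟩ := Ideal.Quotient.mk_surjective x
    show f₀ (Ideal.Quotient.mk Q (y : A)) = Ideal.Quotient.mk Q (y : A)
    rw [Ideal.quotientEquiv_mk, Ideal.Quotient.mk_eq_mk_iff_sub_mem]
    show τ • (y : A) - y ∈ Q
    have h1 : (m : H) • (h • (y : A) - y) ∈ (m : H) • h • Q := by
      refine Ideal.smul_mem_pointwise_smul _ _ _ ?_
      rw [Ideal.mem_pointwise_smul_iff_inv_smul_mem, smul_sub, inv_smul_smul]
      exact h2 y
    rw [show (m : H) • h • Q = Q by rw [← mul_smul]; exact hτQ, smul_sub, ← mul_smul, ← hτ,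
      show (m : H) • (y : A) = y from y.2 m] at h1
    exact h1)
  obtain ⟨g, hg⟩ := Ideal.Quotient.stabilizerHom_surjective N P Q f
  have hin : ((g.1 : N) : H)⁻¹ * τ ∈ Q.inertia H := by
    refine AddSubgroup.mem_inertia.2 fun x => ?_
    have hx := DFunLike.congr_fun hg (Ideal.Quotient.mk Q x)
    change Ideal.Quotient.mk Q ((g.1 : N).1 • x) = Ideal.Quotient.mk Q (τ • x) at hx
    rw [Ideal.Quotient.mk_eq_mk_iff_sub_mem] at hx
    have hgQ : ((g.1 : N) : H) • Q = Q := g.2
    have h4 := Ideal.smul_mem_pointwise_smul ((g.1 : N) : H)⁻¹ _ Q hx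
    rw [show ((g.1 : N) : H)⁻¹ • Q = Q by rw [inv_smul_eq_iff, hgQ], smul_sub, inv_smul_smul,
      smul_smul] at h4
    simpa using neg_mem h4
  have hmem : τ ∈ N := by
    have := N.mul_mem (g.1 : N).2 (hI hin)
    rwa [mul_inv_cancel_left] at this
  exact (Subgroup.mul_mem_cancel_left N m.2).1 hmem

end

/-- A normal subgroup containing all inertia in codimension one is everything (same universe). -/
theorem eq_top_of_inertia_le_aux {R : Type u} [CommRing R] [IsRegularLocalRing R]
    {A : Type u} [CommRing A] [IsDomain A] [IsIntegrallyClosed A] [IsLocalRing A]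
    [Algebra R A] [Module.Finite R A] (hinj : Function.Injective (algebraMap R A))
    (hres : Function.Surjective (IsLocalRing.residue A ∘ algebraMap R A))
    {H : Type w} [Group H] [Finite H] [MulSemiringAction H A] [SMulCommClass H R A] [FaithfulSMul H A]
    (hfix : ∀ a : A, (∀ h : H, h • a = a) → a ∈ Set.range (algebraMap R A))
    (N : Subgroup H) [N.Normal] (hN : ∀ P : Ideal A, P.IsPrime → P.height = 1 → P.inertia H ≤ N) :
    N = ⊤ := by
  classical
  haveI : Algebra.IsInvariant R A H := ⟨fun b hb => hfix b hb⟩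
  haveI : Algebra.IsIntegral R A := Algebra.IsIntegral.of_finite R A
  haveI : FaithfulSMul R A := (faithfulSMul_iff_algebraMap_injective R A).2 hinj
  haveI : IsDomain R := hinj.isDomain
  let B := FixedPoints.subalgebra R A N
  suffices hB : ∀ y : B, (y : A) ∈ Set.range (algebraMap R A) by
    haveI : IsGaloisGroup H R A :=
      { faithful := inferInstance, commutes := inferInstance, isInvariant := inferInstance }
    haveI : IsGaloisGroup N R A :=
      { faithful := inferInstance, commutes := inferInstance
        isInvariant := ⟨fun b hb => hB ⟨b, hb⟩⟩ }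
    refine Subgroup.eq_top_of_card_eq N ?_
    rw [IsGaloisGroup.card_eq_finrank' N R A, IsGaloisGroup.card_eq_finrank' H R A]
  by_cases hdim : (1 : WithBot ℕ∞) ≤ ringKrullDim R
  swap
  · haveI : Ring.KrullDimLE 0 R := by
      rw [Ring.krullDimLE_iff]
      rw [not_le] at hdim
      revert hdim
      generalize ringKrullDim R = d
      induction d with
      | bot => simp
      | coe d =>
        intro h
        have h' : d < 1 := WithBot.coe_lt_coe.1 h
        rw [ENat.lt_one_iff_eq_zero.1 h']
        simp
    letI : Field R := (Ring.KrullDimLE.isField_of_isDomain (R := R)).toField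
    have hA := isField_of_isIntegral_of_isField' (S := A) (Field.toIsField R)
    intro y
    obtain ⟨r, hr⟩ := hres (IsLocalRing.residue A (y : A))
    refine ⟨r, ?_⟩
    have h : IsLocalRing.residue A (algebraMap R A r - (y : A)) = 0 := by
      rw [map_sub]; exact sub_eq_zero.2 hr
    rw [IsLocalRing.residue_eq_zero_iff, IsLocalRing.isField_iff_maximalIdeal_eq.1 hA,
      Ideal.mem_bot, sub_eq_zero] at h
    exact h
  haveI : Algebra.IsIntegral R B := Algebra.IsIntegral.of_injective B.val Subtype.val_injective
  haveI : Algebra.IsIntegral B A := Algebra.IsIntegral.tower_top (R := R)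
  haveI : IsNoetherianRing A := isNoetherian_of_tower R inferInstance
  haveI : Module.Finite R B :=
    Module.Finite.iff_fg.2 (IsNoetherian.noetherian (Subalgebra.toSubmodule B))
  have hBA : Function.Injective (algebraMap B A) := Subtype.val_injective
  haveI : IsLocalHom (algebraMap B A) :=
    RingHom.IsIntegral.isLocalHom (algebraMap_isIntegral_iff.2 inferInstance) hBA
  haveI : IsLocalRing B := RingHom.domain_isLocalRing (algebraMap B A)
  haveI : Algebra.IsInvariant B A N := ⟨fun b hb => ⟨⟨b, hb⟩, rfl⟩⟩
  haveI : IsIntegrallyClosed B := by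
    haveI : FaithfulSMul B A := (faithfulSMul_iff_algebraMap_injective B A).2 hBA
    haveI : FaithfulSMul B (FractionRing A) := (faithfulSMul_iff_algebraMap_injective _ _).2
      ((IsFractionRing.injective A (FractionRing A)).comp hBA)
    letI : Algebra (FractionRing B) (FractionRing A) := FractionRing.liftAlgebra B (FractionRing A)
    rw [isIntegrallyClosed_iff (FractionRing B)]
    intro x hx
    obtain ⟨z, hz⟩ := (isIntegrallyClosed_iff (R := A) (FractionRing A)).1 inferInstance
      (x := algebraMap (FractionRing B) (FractionRing A) x)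
      ((hx.map (IsScalarTower.toAlgHom B (FractionRing B) (FractionRing A))).tower_top)
    obtain ⟨b, d, hd, rfl⟩ := IsFractionRing.div_surjective (A := B) x
    have hd0 : (d : A) ≠ 0 := fun h => nonZeroDivisors.ne_zero hd (hBA (by simpa using h))
    have hbd : z * (d : A) = b := by
      apply IsFractionRing.injective A (FractionRing A)
      rw [map_mul, hz, map_div₀, ← IsScalarTower.algebraMap_apply B (FractionRing B),
        ← IsScalarTower.algebraMap_apply B (FractionRing B),
        IsScalarTower.algebraMap_apply B A (FractionRing A),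
        IsScalarTower.algebraMap_apply B A (FractionRing A)]
      exact div_mul_cancel₀ _ (by simpa using hd0)
    have hzN : z ∈ B := fun m => by
      refine mul_right_cancel₀ hd0 ?_
      conv_lhs => rw [← show m • (d : A) = d from d.2 m]
      rw [← smul_mul', hbd]
      exact b.2 m
    refine ⟨⟨z, hzN⟩, ?_⟩
    rw [eq_div_iff (IsFractionRing.to_map_ne_zero_of_mem_nonZeroDivisors hd), ← map_mul]
    exact congrArg _ (Subtype.ext hbd)
  haveI : Algebra.IsInvariant R B (H ⧸ N) := inferInstance
  have hunr : ∀ (Q : Ideal B) (_ : Q.IsPrime), Q.height = 1 → Algebra.IsUnramifiedAt R Q := by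
    intro Q _ hQ
    refine unramifiedAt_of_separated R (H ⧸ N) Q fun g hg => ?_
    induction g using QuotientGroup.induction_on with | _ h => ?_
    by_contra hc
    push Not at hc
    obtain ⟨P, -, hP, hPQ⟩ := Ideal.exists_ideal_over_prime_of_isIntegral (S := A) Q ⊥ (by
      rw [← RingHom.ker_eq_comap_bot, (RingHom.injective_iff_ker_eq_bot _).1 hBA]
      exact bot_le)
    refine hg ((QuotientGroup.eq_one_iff h).2 (mem_of_trivial_mod_normal (R := R) N h P (fun y => ?_)
      (hN P hP (height_eq_one_of_under hBA P (hPQ.symm ▸ hQ)))))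
    have h1 : y - (h : H ⧸ N) • y ∈ P.comap (algebraMap B A) := hPQ.symm ▸ hc y
    have h2 : (y : A) - h • (y : A) ∈ P := h1
    simpa using neg_mem h2
  have hRB : Function.Injective (algebraMap R B) := fun a b h => hinj (congrArg Subtype.val h)
  haveI := Pure83.etale_of_regular_codim_one hdim hRB hunr
  haveI : IsLocalHom (algebraMap R B) :=
    RingHom.IsIntegral.isLocalHom (algebraMap_isIntegral_iff.2 inferInstance) hRB
  have hmap := Algebra.FormallyUnramified.map_maximalIdeal (R := R) (S := B)
  have htop : (⊤ : Submodule R B) ≤ LinearMap.range (Algebra.linearMap R B) := by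
    refine Submodule.le_of_le_smul_of_le_jacobson_bot Module.Finite.fg_top
      (IsLocalRing.maximalIdeal_le_jacobson ⊥) fun b _ => ?_
    obtain ⟨r, hr⟩ := hres (IsLocalRing.residue A (b : A))
    have h : IsLocalRing.residue A ((b - algebraMap R B r : B) : A) = 0 := by
      show IsLocalRing.residue A ((b : A) - algebraMap R A r) = 0
      rw [map_sub]; exact sub_eq_zero.2 hr.symm
    have hmem : b - algebraMap R B r ∈ (maximalIdeal R).map (algebraMap R B) := by
      rw [hmap, IsLocalRing.mem_maximalIdeal]
      exact fun hu => (IsLocalRing.mem_maximalIdeal _).1 ((IsLocalRing.residue_eq_zero_iff _).1 h)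
        (hu.map (algebraMap B A))
    refine Submodule.mem_sup.2 ⟨algebraMap R B r, ⟨r, rfl⟩, b - algebraMap R B r, ?_, by abel⟩
    rwa [Ideal.smul_top_eq_map, Submodule.restrictScalars_mem]
  intro y
  obtain ⟨r, hr⟩ := htop (show y ∈ ⊤ from trivial)
  exact ⟨r, congrArg Subtype.val hr⟩

/-- A normal subgroup containing all inertia in codimension one is everything. -/
theorem eq_top_of_inertia_le {R : Type u} [CommRing R] [IsRegularLocalRing R]
    {A : Type v} [CommRing A] [IsDomain A] [IsIntegrallyClosed A] [IsLocalRing A]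
    [Algebra R A] [Module.Finite R A] (hinj : Function.Injective (algebraMap R A))
    (hres : Function.Surjective (IsLocalRing.residue A ∘ algebraMap R A))
    {H : Type w} [Group H] [Finite H] [MulSemiringAction H A] [SMulCommClass H R A] [FaithfulSMul H A]
    (hfix : ∀ a : A, (∀ h : H, h • a = a) → a ∈ Set.range (algebraMap R A))
    (N : Subgroup H) [N.Normal] (hN : ∀ P : Ideal A, P.IsPrime → P.height = 1 → P.inertia H ≤ N) :
    N = ⊤ := by
  let R' := ULift.{v} R
  let A' := ULift.{u} A
  let e : A' ≃+* A := ULift.ringEquiv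
  letI : Algebra R' A' := Algebra.ofModule
    (fun r x y => ULift.ext _ _ (smul_mul_assoc r.down x.down y.down))
    (fun r x y => ULift.ext _ _ (mul_smul_comm r.down x.down y.down))
  have hmap : ∀ r : R', (algebraMap R' A' r).down = algebraMap R A r.down := fun r =>
    (Algebra.algebraMap_eq_smul_one r.down).symm
  haveI : IsRegularLocalRing R' := IsRegularLocalRing.of_ringEquiv ULift.ringEquiv.symm
  haveI : IsLocalRing A' := e.symm.isLocalRing
  haveI : IsDomain A' := e.toMulEquiv.isDomain A
  haveI : IsIntegrallyClosed A' := IsIntegrallyClosed.of_equiv e.symm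
  haveI : IsScalarTower R R' A' := ⟨fun r x y => ULift.ext _ _ (smul_assoc r x.down y.down)⟩
  haveI : Module.Finite R A' := Module.Finite.equiv ULift.moduleEquiv.symm
  haveI : Module.Finite R' A' := Module.Finite.of_restrictScalars_finite R R' A'
  letI : MulSemiringAction H A' :=
    { smul := fun h a => ⟨h • a.down⟩
      one_smul := fun a => ULift.ext _ _ (one_smul H a.down)
      mul_smul := fun g h a => ULift.ext _ _ (mul_smul g h a.down)
      smul_zero := fun g => ULift.ext _ _ (smul_zero g)
      smul_add := fun g a b => ULift.ext _ _ (smul_add g a.down b.down)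
      smul_one := fun g => ULift.ext _ _ (smul_one g)
      smul_mul := fun g a b => ULift.ext _ _ (smul_mul' g a.down b.down) }
  haveI : SMulCommClass H R' A' := ⟨fun g r a => ULift.ext _ _ (smul_comm g r.down a.down)⟩
  haveI : FaithfulSMul H A' :=
    ⟨fun h => eq_of_smul_eq_smul fun a : A => congrArg ULift.down (h ⟨a⟩)⟩
  refine eq_top_of_inertia_le_aux (R := R') (A := A') (fun a b h => ULift.ext _ _ (hinj ?_))
    (fun x => ?_) (fun a ha => ?_) N fun P hP hP1 => ?_
  · rw [← hmap, ← hmap, h]
  · obtain ⟨a, rfl⟩ := IsLocalRing.residue_surjective x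
    obtain ⟨r, hr⟩ := hres (IsLocalRing.residue A a.down)
    refine ⟨⟨r⟩, Ideal.Quotient.eq.2 ?_⟩
    rw [IsLocalRing.mem_maximalIdeal]
    refine fun hu => (IsLocalRing.mem_maximalIdeal _).1 (Ideal.Quotient.eq.1 hr) ?_
    have := hu.map e
    rwa [map_sub, show e (algebraMap R' A' ⟨r⟩) = algebraMap R A r from hmap ⟨r⟩] at this
  · obtain ⟨r, hr⟩ := hfix a.down fun h => congrArg ULift.down (ha h)
    exact ⟨⟨r⟩, ULift.ext _ _ ((hmap ⟨r⟩).trans hr)⟩
  · haveI := hP
    refine le_trans (fun σ hσ => ?_) (hN (P.comap e.symm.toRingHom) (Ideal.IsPrime.comap _) ?_)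
    · exact AddSubgroup.mem_inertia.2 fun a => hσ (⟨a⟩ : A')
    · exact (RingEquiv.height_comap e.symm P).trans hP1

/-- The inertia subgroups in codimension one generate. -/
theorem iSup_inertia_eq_top {R : Type u} [CommRing R] [IsRegularLocalRing R]
    {A : Type v} [CommRing A] [IsDomain A] [IsIntegrallyClosed A] [IsLocalRing A]
    [Algebra R A] [Module.Finite R A] (hinj : Function.Injective (algebraMap R A))
    (hres : Function.Surjective (IsLocalRing.residue A ∘ algebraMap R A))
    {H : Type w} [Group H] [Finite H] [MulSemiringAction H A] [SMulCommClass H R A] [FaithfulSMul H A]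
    (hfix : ∀ a : A, (∀ h : H, h • a = a) → a ∈ Set.range (algebraMap R A)) :
    (⨆ P : {P : Ideal A // P.IsPrime ∧ P.height = 1}, P.1.inertia H) = ⊤ := by
  set N := ⨆ P : {P : Ideal A // P.IsPrime ∧ P.height = 1}, P.1.inertia H with hNdef
  have hnormal : N.Normal := by
    refine ⟨fun n hn g => ?_⟩
    suffices h : N ≤ N.comap (MulAut.conj g).toMonoidHom from h hn
    refine iSup_le fun P σ hσ => ?_
    have hP' : (g • P.1).IsPrime ∧ (g • P.1).height = 1 := by
      haveI := P.2.1
      refine ⟨Ideal.map_isPrime_of_equiv (MulSemiringAction.toRingEquiv H A g), ?_⟩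
      exact (RingEquiv.height_map (MulSemiringAction.toRingEquiv H A g) P.1).trans P.2.2
    refine Subgroup.mem_iSup_of_mem ⟨g • P.1, hP'⟩ (AddSubgroup.mem_inertia.2 fun x => ?_)
    show (g * σ * g⁻¹) • x - x ∈ g • P.1
    rw [Ideal.mem_pointwise_smul_iff_inv_smul_mem, smul_sub, ← mul_smul, ← mul_assoc,
      ← mul_assoc, inv_mul_cancel, one_mul, mul_smul]
    exact hσ (g⁻¹ • x)
  exact eq_top_of_inertia_le hinj hres hfix N fun P hP hP1 =>
    le_iSup_of_le ⟨P, hP, hP1⟩ le_rfl

end Groth.Agent.WildQuot51
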