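import Mathlib
import Groth.Agent.WildQuot51.Ramified
import Groth.Agent.CAlg1.SerreNormal

/-!
Normal two-dimensional rings are free over regular subrings; a free Galois extension with trivial
residue extension and no inertia in codimension one is trivial.
-/

set_option autoImplicit false

universe u v w

namespace Groth.Agent.WildQuot51

open IsLocalRing Module

/-- Miracle flatness for a normal local domain of dimension two. -/
theorem free_of_normal_two (R : Type u) [CommRing R] [IsRegularLocalRing R] (A : Type v) [CommRing A]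
    [IsDomain A] [IsIntegrallyClosed A] [IsLocalRing A] [Algebra R A] [Module.Finite R A]
    (hinj : Function.Injective (algebraMap R A)) (hdim : ringKrullDim A = 2) : Module.Free R A := by
  have hNA : IsNoetherianRing A := isNoetherian_of_tower R inferInstance
  let R' := ULift.{v} R
  let A' := ULift.{u} A
  letI : Algebra R' A' := Algebra.ofModule
    (fun r x y => ULift.ext _ _ (smul_mul_assoc r.down x.down y.down))
    (fun r x y => ULift.ext _ _ (mul_smul_comm r.down x.down y.down))
  have : IsRegularLocalRing R' := IsRegularLocalRing.of_ringEquiv ULift.ringEquiv.symm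
  have : IsNoetherianRing A' := isNoetherianRing_of_ringEquiv A ULift.ringEquiv.symm
  have : IsLocalRing A' := ULift.ringEquiv.symm.isLocalRing
  have : IsDomain A' := (ULift.ringEquiv : A' ≃+* A).toMulEquiv.isDomain A
  have : IsIntegrallyClosed A' := IsIntegrallyClosed.of_equiv (ULift.ringEquiv.symm : A ≃+* A')
  have hdim' : ringKrullDim A' = 2 := by
    rw [← hdim]; exact ringKrullDim_eq_of_ringEquiv ULift.ringEquiv
  have : LocCoh.IsCohenMacaulayLocalRing A' := CAlg1.cmLocal_iff.2 (by
    rw [hdim']
    exact WithBot.coe_le_coe.2 (CAlg1.two_le_depth_of_isIntegrallyClosed A' hdim'.ge))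
  have hmap : ∀ r : R', (algebraMap R' A' r).down = algebraMap R A r.down := fun r =>
    (Algebra.algebraMap_eq_smul_one r.down).symm
  have hinj' : Function.Injective (algebraMap R' A') := fun x y h =>
    ULift.ext _ _ (hinj (by rw [← hmap, ← hmap, h]))
  have : IsScalarTower R R' A' := ⟨fun r x y => ULift.ext _ _ (smul_assoc r x.down y.down)⟩
  have : Module.Finite R A' := Module.Finite.equiv ULift.moduleEquiv.symm
  have hfin : Module.Finite R' A' := Module.Finite.of_restrictScalars_finite R R' A'
  let J := (maximalIdeal R').map (algebraMap R' A')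
  have hJ : J ≤ maximalIdeal A' := by
    haveI : Algebra.IsIntegral R' A' := Algebra.IsIntegral.of_finite R' A'
    haveI hmax : ((maximalIdeal A').comap (algebraMap R' A')).IsMaximal :=
      Ideal.isMaximal_comap_of_isIntegral_of_isMaximal _
    exact Ideal.map_le_iff_le_comap.2 (IsLocalRing.eq_maximalIdeal hmax).ge
  have : IsLocalHom (algebraMap R' A') := ⟨fun x hx => by
    by_contra h
    exact (maximalIdeal.isMaximal A').ne_top (Ideal.eq_top_of_isUnit_mem _
      (hJ (Ideal.mem_map_of_mem _ ((mem_maximalIdeal x).2 h))) hx)⟩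
  have : Nontrivial (A' ⧸ J) := Ideal.Quotient.nontrivial_iff.2 fun h =>
    (maximalIdeal.isMaximal A').ne_top (top_le_iff.1 (h ▸ hJ))
  have : Module.Finite (R' ⧸ maximalIdeal R') (A' ⧸ J) :=
    Module.Finite.of_restrictScalars_finite R' _ _
  letI : Field (R' ⧸ maximalIdeal R') := Ideal.Quotient.field _
  have : IsArtinianRing (A' ⧸ J) := IsArtinianRing.of_finite (R' ⧸ maximalIdeal R') (A' ⧸ J)
  have : Ring.KrullDimLE 0 (A' ⧸ J) := inferInstance
  have h0 : ringKrullDim (A' ⧸ J) = 0 := ringKrullDimZero_iff_ringKrullDim_eq_zero.1 this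
  have hd : ringKrullDim A' = ringKrullDim R' + ringKrullDim (A' ⧸ J) := by
    rw [h0, add_zero, EGA4Alg4.ringKrullDim_eq_of_integral R' A' hinj']
  have hflat := CAlg1.miracle_flatness _ R' A' rfl hd
  have hfree : Module.Free R' A' := Module.free_of_flat_of_isLocalRing
  let bR := (Module.Free.chooseBasis R' A').mapCoeffs (ULift.ringEquiv : R' ≃+* R)
    (fun c x => ULift.ext _ _ rfl)
  have : Module.Free R A' := Module.Free.of_basis bR
  exact Module.Free.of_equiv ULift.moduleEquiv

/-- A free extension which is Galois with trivial residue extension has inertia in codimension one. -/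
theorem exists_inertia_ne_bot (R : Type u) [CommRing R] [IsDomain R] [IsLocalRing R] (A : Type v)
    [CommRing A] [IsDomain A] [IsLocalRing A] [IsNoetherianRing A] [Algebra R A] [Module.Finite R A]
    [Module.Free R A] (hinj : Function.Injective (algebraMap R A))
    (G : Type w) [Group G] [Finite G] [MulSemiringAction G A] [SMulCommClass G R A] [FaithfulSMul G A]
    (hfix : ∀ a : A, (∀ g : G, g • a = a) → a ∈ Set.range (algebraMap R A))
    (hres : ∀ (g : G) (a : A), g • a - a ∈ maximalIdeal A)
    (hG : 2 ≤ Nat.card G) (hdim : 2 ≤ ringKrullDim A) :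
    ∃ P : Ideal A, P.IsPrime ∧ P.height = 1 ∧ P.inertia G ≠ ⊥ := by
  classical
  by_contra hcon
  push Not at hcon
  have := Fintype.ofFinite G
  let e := Module.finBasis R A
  set r := Module.finrank R A
  have hram : ∀ Q : Ideal A, Q.IsPrime → Q.height ≤ 1 → Q.inertia G = ⊥ := by
    intro Q hQ hQ1
    rcases hQ1.eq_or_lt with h | h
    · exact hcon Q hQ h
    · have h0 : Q = ⊥ := by
        have := Ideal.height_eq_zero_iff.1 (ENat.lt_one_iff_eq_zero.1 h)
        rwa [IsDomain.minimalPrimes_eq_singleton_bot, Set.mem_singleton_iff] at this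
      subst h0
      refine eq_bot_iff.2 fun g hg => Subgroup.mem_bot.2 (eq_of_smul_eq_smul fun a : A => ?_)
      rw [one_smul]
      exact sub_eq_zero.1 (Ideal.mem_bot.1 (hg a))
  have hind : ∀ (Q : Ideal A) [Q.IsPrime], Q.height ≤ 1 → ∀ c : G → A,
      (∀ i, ∑ g, c g * g • e i ∈ Q) → ∀ g, c g ∈ Q := by
    intro Q hQ hQ1 c hc
    let χ : G → A →* (A ⧸ Q) := fun g =>
      ((Ideal.Quotient.mk Q).comp (MulSemiringAction.toRingHom G A g)).toMonoidHom
    have hχ : Function.Injective χ := fun g h hgh => by
      by_contra hne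
      let Q' := Q.comap (MulSemiringAction.toRingEquiv G A h)
      have hQ' : Q'.IsPrime := Ideal.IsPrime.comap _
      have hh : Q'.height ≤ 1 := by rw [RingEquiv.height_comap]; exact hQ1
      have hI : h⁻¹ * g ∉ Q'.inertia G := by
        rw [hram Q' hQ' hh, Subgroup.mem_bot, inv_mul_eq_one]
        exact Ne.symm hne
      refine hI fun a => ?_
      show h • ((h⁻¹ * g) • a - a) ∈ Q
      rw [smul_sub, smul_smul, mul_inv_cancel_left]
      exact Ideal.Quotient.eq.1 (DFunLike.congr_fun hgh a)
    have hli := (linearIndependent_monoidHom A (A ⧸ Q)).comp χ hχ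
    have hzero : ∀ a : A, ∑ g, c g * g • a ∈ Q := fun a => by
      rw [← e.sum_repr a]
      simp only [Finset.smul_sum, Finset.mul_sum]
      rw [Finset.sum_comm]
      refine Submodule.sum_mem _ fun i _ => ?_
      have h : ∀ g : G, c g * g • (e.repr a i • e i) =
          algebraMap R A (e.repr a i) * (c g * g • e i) := fun g => by
        rw [smul_comm, Algebra.smul_def]; ring
      simp only [h, ← Finset.mul_sum]
      exact Ideal.mul_mem_left _ _ (hc i)
    have h0 : ∑ g, Ideal.Quotient.mk Q (c g) • ((χ g : A → A ⧸ Q)) = 0 := funext fun a => by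
      have h := Ideal.Quotient.eq_zero_iff_mem.2 (hzero a)
      rw [map_sum] at h
      rw [Finset.sum_apply, Pi.zero_apply, ← h]
      exact Finset.sum_congr rfl fun g _ => by rw [map_mul]; rfl
    exact fun g => Ideal.Quotient.eq_zero_iff_mem.1 (Fintype.linearIndependent_iff.1 hli _ h0 g)
  have hbot : (⊥ : Ideal A).height ≤ 1 := by rw [Ideal.height_bot]; exact zero_le
  have hle : Fintype.card G ≤ r := by
    let M : (G → A) →ₗ[A] (Fin r → A) :=
      { toFun := fun c i => ∑ g, c g * g • e i
        map_add' := fun c d => funext fun i => by simp [add_mul, Finset.sum_add_distrib]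
        map_smul' := fun t c => funext fun i => by simp [Finset.mul_sum, mul_assoc] }
    have hM : Function.Injective M := by
      rw [injective_iff_map_eq_zero]
      exact fun c hc => funext fun g => Ideal.mem_bot.1
        (hind ⊥ hbot c (fun i => Ideal.mem_bot.2 (congrFun hc i)) g)
    simpa using LinearMap.finrank_le_finrank_of_injective hM
  have hge : r ≤ Fintype.card G := by
    by_contra hlt
    rw [not_le] at hlt
    let M : (Fin r → A) →ₗ[A] (G → A) :=
      { toFun := fun c g => ∑ i, c i * g • e i
        map_add' := fun c d => funext fun g => by simp [add_mul, Finset.sum_add_distrib]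
        map_smul' := fun t c => funext fun g => by simp [Finset.mul_sum, mul_assoc] }
    have hM : ¬ Function.Injective M := fun hM => by
      have := LinearMap.finrank_le_finrank_of_injective hM
      rw [Module.finrank_fin_fun, Module.finrank_fintype_fun_eq_card] at this
      omega
    rw [injective_iff_map_eq_zero] at hM
    push Not at hM
    obtain ⟨c, hc, hc0⟩ := hM
    obtain ⟨i₀, hi₀⟩ := Function.ne_iff.1 hc0
    have hzero : ∀ a : A, ∑ g : G, g • (a * c i₀) = 0 := by
      intro a
      have htr : ∀ i, ∃ b : R, algebraMap R A b = ∑ g : G, g • (a * c i) := fun i => hfix _ fun h => by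
        rw [Finset.smul_sum]
        exact Fintype.sum_equiv (Equiv.mulLeft h) _ _ fun g => by simp [mul_smul]
      choose b hb' using htr
      have hb : ∑ i, b i • e i = 0 := by
        simp only [Algebra.smul_def, hb', Finset.sum_mul]
        rw [Finset.sum_comm]
        refine Finset.sum_eq_zero fun g _ => ?_
        have h := congrArg (g • ·) (congrFun hc g⁻¹)
        simp only [M, LinearMap.coe_mk, AddHom.coe_mk, Pi.zero_apply, smul_zero, Finset.smul_sum,
          smul_mul', smul_inv_smul] at h
        simp only [smul_mul', mul_assoc, ← Finset.mul_sum, h, mul_zero]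
      rw [← hb' i₀, Fintype.linearIndependent_iff.1 e.linearIndependent b hb i₀, map_zero]
    have h := hind ⊥ hbot (fun g => g • c i₀) (fun i => Ideal.mem_bot.2 ((Finset.sum_congr rfl
      fun g _ => by rw [smul_mul', mul_comm]).trans (hzero (e i)))) 1
    exact hi₀ (by simpa using h)
  let eσ : G ≃ Fin r := (Fintype.equivFin G).trans (finCongr (le_antisymm hle hge))
  let D : Matrix (Fin r) (Fin r) A := fun j i => eσ.symm j • e i
  have hD : ∀ (Q : Ideal A) [Q.IsPrime], Q.height ≤ 1 → D.det ∉ Q := by
    intro Q _ hQm hdet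
    have h0 : (D.map (Ideal.Quotient.mk Q)).det = 0 := by
      show ((Ideal.Quotient.mk Q).mapMatrix D).det = 0
      rw [← RingHom.map_det]
      exact Ideal.Quotient.eq_zero_iff_mem.2 hdet
    obtain ⟨v, hv0, hv⟩ := Matrix.exists_vecMul_eq_zero_iff.2 h0
    choose c hc using fun j => Ideal.Quotient.mk_surjective (v j)
    refine hv0 (funext fun j => ?_)
    have h := hind Q hQm (fun g => c (eσ g)) (fun i => by
      rw [← Ideal.Quotient.eq_zero_iff_mem, map_sum]
      refine (Fintype.sum_equiv eσ _ (fun j => v j * D.map (Ideal.Quotient.mk Q) j i) fun g => ?_).trans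
        (congrFun hv i)
      simp [D, ← hc, Matrix.map]) (eσ.symm j)
    rw [← hc j, Pi.zero_apply, Ideal.Quotient.eq_zero_iff_mem]
    simpa using h
  have hDm : D.det ∈ maximalIdeal A := by
    rw [← residue_eq_zero_iff, RingHom.map_det]
    rw [Nat.card_eq_fintype_card] at hG
    refine Matrix.det_zero_of_row_eq (i := (⟨0, by omega⟩ : Fin r)) (j := ⟨1, by omega⟩) (by simp)
      (funext fun i => ?_)
    simp only [RingHom.mapMatrix_apply, Matrix.map_apply, D]
    exact (Ideal.Quotient.eq.2 (hres _ (e i))).trans (Ideal.Quotient.eq.2 (hres _ (e i))).symm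
  obtain ⟨P, hP, hPle⟩ := Ideal.exists_minimalPrimes_le
    ((Ideal.span_singleton_le_iff_mem (maximalIdeal A)).2 hDm)
  haveI := hP.1.1
  exact hD P (Ideal.height_le_one_of_isPrincipal_of_mem_minimalPrimes (Ideal.span {D.det}) P hP)
    (hP.1.2 (Ideal.mem_span_singleton_self _))

end Groth.Agent.WildQuot51
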