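import Mathlib
import Groth.Agent.WildQuot51.Family

/-!
A translation invariant perfect pairing on the family: the coefficient of the top monomial.
-/

set_option autoImplicit false

universe u v w

namespace Groth.Agent.WildQuot51

open MvPolynomial IsLocalRing Module

variable (p : ℕ) {R : Type u} [CommRing R] {n : ℕ} (β c : Fin n → R)

/-- The values of the linear form on powers of one generator. -/
noncomputable def topCoeff (i : Fin n) (s : ℕ) : R :=
  (if s = p - 1 then 1 else 0) + if s = 2 * p - 2 then β i else 0

theorem fam_smul_def (r : R) (x : Fam p β c) : r • x = algebraMap R (Fam p β c) r * x :=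
  Algebra.smul_def r x

theorem exists_trace_form [Nontrivial R] (hp : 2 ≤ p) : ∃ L : Fam p β c →ₗ[R] R,
    (∀ (σ : Fam p β c ≃ₐ[R] Fam p β c) (a : Fin n → R),
      (∀ i, σ (famU p β c i) = famU p β c i + algebraMap R _ (a i)) → ∀ x, L (σ x) = L x) ∧
    ∀ ψ : Fam p β c →ₗ[R] R, ∃! b : Fam p β c, ∀ x, ψ x = L (x * b) := by
  classical
  obtain ⟨hfree, hfin, hrk⟩ := fam_finite_free p β c hp
  obtain ⟨B, hB⟩ := exists_famBasis p β c hp
  let top : Fin n → Fin p := fun _ => ⟨p - 1, by omega⟩
  let L : Fam p β c →ₗ[R] R := B.coord top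
  have hδ : ∀ (i : Fin n) (s : ℕ), s < p → topCoeff p β i s = if s = p - 1 then 1 else 0 := by
    intro i s hs
    rw [topCoeff, if_neg (show ¬ s = 2 * p - 2 by omega), add_zero]
  -- the values on monomials
  have key : ∀ (T : Finset (Fin n)) (s : Fin n → ℕ), (∀ i, s i ≤ 2 * p - 2) → (∀ i ∉ T, s i < p) →
      L (∏ i, famU p β c i ^ s i) = ∏ i, topCoeff p β i (s i) := by
    intro T
    induction T using Finset.induction_on with
    | empty =>
      intro s _ hs
      let e : Fin n → Fin p := fun i => ⟨s i, hs i (Finset.notMem_empty i)⟩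
      rw [show (∏ i, famU p β c i ^ s i) = B e from (hB e).symm]
      simp only [L, Basis.coord_apply, Basis.repr_self, Finsupp.single_apply]
      rw [Finset.prod_congr rfl fun i _ => hδ i (s i) (hs i (Finset.notMem_empty i))]
      by_cases h : e = top
      · rw [if_pos h, Finset.prod_eq_one fun i _ => if_pos (congrArg Fin.val (congrFun h i))]
      · obtain ⟨i, hi⟩ := Function.ne_iff.1 h
        rw [if_neg h, Finset.prod_eq_zero (Finset.mem_univ i) (if_neg fun h' => hi (Fin.ext h'))]
    | insert j T hj ih =>
      intro s hs2 hsT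
      by_cases hlt : s j < p
      · exact ih s hs2 fun i hi => if h : i = j then h ▸ hlt else hsT i (by simp [h, hi])
      obtain ⟨d, hd⟩ := Nat.exists_eq_add_of_le (not_lt.1 hlt)
      have hd2 : d + 1 < p := by have := hs2 j; omega
      let s₁ := Function.update s j (d + 1)
      let s₀ := Function.update s j d
      have hupd : ∀ m, (∏ i, famU p β c i ^ Function.update s j m i) =
          famU p β c j ^ m * ∏ i ∈ Finset.univ.erase j, famU p β c i ^ s i := fun m => by
        rw [← Finset.mul_prod_erase _ _ (Finset.mem_univ j), Function.update_self]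
        exact congrArg _ (Finset.prod_congr rfl fun i hi => by
          rw [Function.update_of_ne (Finset.ne_of_mem_erase hi)])
      have hupd' : ∀ m, (∏ i, topCoeff p β i (Function.update s j m i)) =
          topCoeff p β j m * ∏ i ∈ Finset.univ.erase j, topCoeff p β i (s i) := fun m => by
        rw [← Finset.mul_prod_erase _ _ (Finset.mem_univ j), Function.update_self]
        exact congrArg _ (Finset.prod_congr rfl fun i hi => by
          rw [Function.update_of_ne (Finset.ne_of_mem_erase hi)])
      have hih : ∀ m, m < p → L (∏ i, famU p β c i ^ Function.update s j m i) =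
          ∏ i, topCoeff p β i (Function.update s j m i) := fun m hm => by
        refine ih _ (fun i => ?_) fun i hi => ?_
        · by_cases h : i = j
          · subst h; rw [Function.update_self]; omega
          · rw [Function.update_of_ne h]; exact hs2 i
        · by_cases h : i = j
          · subst h; rw [Function.update_self]; exact hm
          · rw [Function.update_of_ne h]; exact hsT i (by simp [h, hi])
      have hexp : (∏ i, famU p β c i ^ s i) = β j • (∏ i, famU p β c i ^ s₁ i) +
          c j • ∏ i, famU p β c i ^ s₀ i := by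
        rw [← Finset.mul_prod_erase _ _ (Finset.mem_univ j), hupd, hupd, hd, pow_add, famU_pow,
          fam_smul_def, fam_smul_def, pow_succ]
        ring
      rw [hexp, map_add, map_smul, map_smul, smul_eq_mul, smul_eq_mul, hih _ hd2, hih _ (by omega),
        hupd', hupd', ← Finset.mul_prod_erase _ _ (Finset.mem_univ j)]
      have h1 : topCoeff p β j d = 0 := by
        rw [hδ j d (by omega), if_neg (by omega)]
      have h2 : topCoeff p β j (s j) = β j * topCoeff p β j (d + 1) := by
        rw [hδ j (d + 1) hd2, topCoeff, if_neg (show ¬ s j = p - 1 by omega), zero_add]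
        by_cases h : d + 1 = p - 1
        · rw [if_pos h, if_pos (show s j = 2 * p - 2 by omega), mul_one]
        · rw [if_neg h, if_neg (show ¬ s j = 2 * p - 2 by omega), mul_zero]
      rw [h1, h2]
      ring
  -- products of linear combinations of powers
  have hsum : ∀ (T : Fin n → Finset ℕ) (r : Fin n → ℕ → R), (∀ i, ∀ s ∈ T i, s ≤ 2 * p - 2) →
      L (∏ i, ∑ s ∈ T i, r i s • famU p β c i ^ s) = ∏ i, ∑ s ∈ T i, r i s * topCoeff p β i s := by
    intro T r hT
    rw [Finset.prod_univ_sum, Finset.prod_univ_sum, map_sum]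
    refine Finset.sum_congr rfl fun s hs => ?_
    simp only [fam_smul_def, Finset.prod_mul_distrib, ← map_prod]
    rw [← fam_smul_def, map_smul, key Finset.univ s (fun i => hT i _ (Fintype.mem_piFinset.1 hs i))
      (fun i hi => absurd (Finset.mem_univ i) hi), smul_eq_mul]
  refine ⟨L, fun σ a hσ x => ?_, ?_⟩
  · -- invariance
    suffices h : L ∘ₗ σ.toLinearMap = L from LinearMap.congr_fun h x
    refine B.ext fun e => ?_
    show L (σ (B e)) = L (B e)
    rw [hB, famMono, map_prod]
    simp only [map_pow, hσ]
    have h1 : ∀ i, (famU p β c i + algebraMap R _ (a i)) ^ (e i : ℕ) =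
        ∑ s ∈ Finset.range ((e i : ℕ) + 1), (((e i : ℕ).choose s : R) * a i ^ ((e i : ℕ) - s)) •
          famU p β c i ^ s := fun i => by
      rw [add_pow]
      refine Finset.sum_congr rfl fun s _ => ?_
      rw [fam_smul_def, map_mul, map_natCast, map_pow]
      ring
    simp only [h1]
    rw [hsum _ _ fun i s hs => by have := Finset.mem_range.1 hs; have := (e i).2; omega,
      key Finset.univ (fun i => (e i : ℕ)) (fun i => by have := (e i).2; omega)
        (fun i hi => absurd (Finset.mem_univ i) hi)]
    refine Finset.prod_congr rfl fun i _ => ?_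
    rw [Finset.sum_eq_single (e i : ℕ)]
    · simp
    · intro s hs hne
      have hs' := Finset.mem_range.1 hs
      have := (e i).2
      rw [hδ i s (by omega), if_neg (by omega), mul_zero]
    · simp
  · intro ψ
    let W : (Fin n → Fin p) → Fam p β c := fun f => ∏ i, (famU p β c i ^ (p - 1 - (f i : ℕ)) -
      algebraMap R _ (if (f i : ℕ) = 0 then β i else 0))
    have hW : ∀ e f, L (B e * W f) = if e = f then 1 else 0 := by
      intro e f
      rw [hB, famMono, ← Finset.prod_mul_distrib]
      have hf : ∀ i, (f i : ℕ) = 0 → (e i : ℕ) + (p - 1) ≠ (e i : ℕ) := fun i _ => by omega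
      have h2 : ∀ i, famU p β c i ^ (e i : ℕ) * (famU p β c i ^ (p - 1 - (f i : ℕ)) -
          algebraMap R _ (if (f i : ℕ) = 0 then β i else 0)) =
          ∑ s ∈ ({(e i : ℕ) + (p - 1 - (f i : ℕ))} ∪ if (f i : ℕ) = 0 then {(e i : ℕ)} else ∅),
            (if s = (e i : ℕ) + (p - 1 - (f i : ℕ)) then 1 else -β i) • famU p β c i ^ s := fun i => by
        by_cases h0 : (f i : ℕ) = 0
        · rw [if_pos h0, if_pos h0, h0, Nat.sub_zero, Finset.sum_union (by simpa using Ne.symm (hf i h0)),
            Finset.sum_singleton, Finset.sum_singleton, if_pos rfl, if_neg (Ne.symm (hf i h0)), one_smul,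
            fam_smul_def, map_neg, pow_add]
          ring
        · rw [if_neg h0, if_neg h0, map_zero, sub_zero, Finset.union_empty, Finset.sum_singleton,
            if_pos rfl, one_smul, pow_add]
      simp only [h2]
      rw [hsum _ _ fun i s hs => by
        have := (e i).2
        have := (f i).2
        split_ifs at hs <;> simp at hs <;> omega]
      rw [show (if e = f then (1 : R) else 0) = ∏ i, if e i = f i then 1 else 0 by
        by_cases h : e = f
        · rw [if_pos h, Finset.prod_eq_one fun i _ => if_pos (congrFun h i)]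
        · obtain ⟨i, hi⟩ := Function.ne_iff.1 h
          rw [if_neg h, Finset.prod_eq_zero (Finset.mem_univ i) (if_neg hi)]]
      refine Finset.prod_congr rfl fun i _ => ?_
      have he := (e i).2
      have hf' := (f i).2
      by_cases h0 : (f i : ℕ) = 0
      · have hne := hf i h0
        rw [if_pos h0, h0, Nat.sub_zero, Finset.sum_union (by simpa using Ne.symm hne),
          Finset.sum_singleton, Finset.sum_singleton, if_pos rfl, if_neg (Ne.symm hne), one_mul,
          hδ i (e i) he, topCoeff]
        by_cases hz : (e i : ℕ) = 0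
        · rw [if_pos (show e i = f i from Fin.ext (by omega)), if_pos (show (e i : ℕ) + (p - 1) = p - 1 by omega),
            if_neg (show ¬ (e i : ℕ) + (p - 1) = 2 * p - 2 by omega),
            if_neg (show ¬ (e i : ℕ) = p - 1 by omega)]
          ring
        · rw [if_neg (show ¬ e i = f i from fun h => hz (by rw [h, h0])),
            if_neg (show ¬ (e i : ℕ) + (p - 1) = p - 1 by omega)]
          by_cases ht : (e i : ℕ) = p - 1
          · rw [if_pos (show (e i : ℕ) + (p - 1) = 2 * p - 2 by omega), if_pos ht]; ring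
          · rw [if_neg (show ¬ (e i : ℕ) + (p - 1) = 2 * p - 2 by omega), if_neg ht]; ring
      · rw [if_neg h0, Finset.union_empty, Finset.sum_singleton, if_pos rfl, one_mul, topCoeff,
          if_neg (show ¬ (e i : ℕ) + (p - 1 - (f i : ℕ)) = 2 * p - 2 by omega), add_zero]
        exact if_congr ⟨fun h => Fin.ext (by omega), fun h => by rw [h]; omega⟩ rfl rfl
    have hex : ∀ ψ : Fam p β c →ₗ[R] R, ∃ b, ∀ x, ψ x = L (x * b) := fun ψ => by
      refine ⟨∑ f, ψ (B f) • W f, fun x => ?_⟩
      suffices h : ψ = L ∘ₗ LinearMap.mulRight R (∑ f, ψ (B f) • W f) from LinearMap.congr_fun h x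
      refine B.ext fun e => ?_
      show ψ (B e) = L (B e * _)
      rw [Finset.mul_sum, map_sum]
      simp only [fam_smul_def, mul_left_comm _ (algebraMap R (Fam p β c) _)]
      simp [← fam_smul_def, hW]
    let P : Fam p β c →ₗ[R] (Fam p β c →ₗ[R] R) :=
      LinearMap.compRight R L ∘ₗ (LinearMap.mul R (Fam p β c)).flip
    have hP : ∀ b x, P b x = L (x * b) := fun b x => rfl
    have hPs : Function.Surjective P := fun ψ => by
      obtain ⟨b, hb⟩ := hex ψ
      exact ⟨b, LinearMap.ext fun x => (hb x).symm⟩
    have hPi : Function.Injective P := by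
      have := OrzechProperty.injective_of_surjective_endomorphism
        (B.toDualEquiv.symm.toLinearMap ∘ₗ P) (B.toDualEquiv.symm.surjective.comp hPs)
      exact fun x y h => this (congrArg B.toDualEquiv.symm h)
    obtain ⟨b, hb⟩ := hex ψ
    exact ⟨b, hb, fun b' hb' => hPi (LinearMap.ext fun x => (hb' x).symm.trans (hb x))⟩

/-- A group invariant perfect pairing makes the skew group ring symmetric. -/
theorem skew_symmetric {R : Type u} [CommRing R] {A : Type v} [CommRing A] [Algebra R A]
    {G : Type w} [Group G] [Finite G] [MulSemiringAction G A] [SMulCommClass G R A]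
    (L : A →ₗ[R] R) (hL : ∀ (h : G) (x : A), L (h • x) = L x)
    (hLperf : ∀ ψ : A →ₗ[R] R, ∃! b : A, ∀ x, ψ x = L (x * b)) :
    ∃ φ : SkewMonoidAlgebra A G →ₗ[R] R,
      (∀ x y : SkewMonoidAlgebra A G, φ (x * y) = φ (y * x)) ∧
      Function.Injective (fun y : SkewMonoidAlgebra A G => fun x : SkewMonoidAlgebra A G => φ (x * y)) ∧
      ∀ ψ : SkewMonoidAlgebra A G →ₗ[R] R, ∃ y : SkewMonoidAlgebra A G, ∀ x, ψ x = φ (x * y) := by
  classical
  have := Fintype.ofFinite G
  let φ : SkewMonoidAlgebra A G →ₗ[R] R :=
    L ∘ₗ (Finsupp.lapply 1) ∘ₗ (SkewMonoidAlgebra.coeffLinearEquiv (S := R)).toLinearMap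
  have hφ : ∀ x : SkewMonoidAlgebra A G, φ x = L (x.coeff 1) := fun x => rfl
  have hsingle : ∀ (h : G) (b : A) (y : SkewMonoidAlgebra A G),
      φ (SkewMonoidAlgebra.single h b * y) = L (b * h • y.coeff h⁻¹) := fun h b y => by
    rw [hφ, SkewMonoidAlgebra.coeff_single_mul, mul_one]
  refine ⟨φ, fun x y => ?_, fun y y' hyy => ?_, fun ψ => ?_⟩
  · induction x using SkewMonoidAlgebra.induction_on with
    | zero => rw [zero_mul, mul_zero]
    | add x x' hx hx' => rw [add_mul, mul_add, map_add, map_add, hx, hx']
    | single h b =>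
      induction y using SkewMonoidAlgebra.induction_on with
      | zero => rw [mul_zero, zero_mul]
      | add y y' hy hy' => rw [mul_add, add_mul, map_add, map_add, hy, hy']
      | single h' b' =>
        rw [hsingle, hsingle, SkewMonoidAlgebra.coeff_single_apply, SkewMonoidAlgebra.coeff_single_apply]
        by_cases he : h' = h⁻¹
        · subst he
          rw [if_pos rfl, if_pos (inv_inv h).symm, ← hL h⁻¹ (b * h • b'), smul_mul', inv_smul_smul,
            mul_comm]
        · rw [if_neg he, if_neg (fun e => he (by rw [e, inv_inv])), smul_zero, smul_zero, mul_zero, mul_zero]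
  · refine SkewMonoidAlgebra.ext_iff.2 fun h => ?_
    have key : ∀ b : A, L (b * h⁻¹ • y.coeff h) = L (b * h⁻¹ • y'.coeff h) := fun b => by
      have e := congrFun hyy (SkewMonoidAlgebra.single h⁻¹ b)
      simpa [hsingle] using e
    obtain ⟨c, -, huniq⟩ := hLperf (L ∘ₗ LinearMap.mulRight R (h⁻¹ • y.coeff h))
    exact smul_left_cancel h⁻¹ ((huniq _ fun b => rfl).trans (huniq _ fun b => key b).symm)
  · choose c hc using fun h : G => (hLperf (ψ ∘ₗ
      ((SkewMonoidAlgebra.coeffLinearEquiv (S := R)).symm.toLinearMap ∘ₗ Finsupp.lsingle h))).exists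
    let y : SkewMonoidAlgebra A G := ∑ h : G, SkewMonoidAlgebra.single h⁻¹ (h⁻¹ • c h)
    refine ⟨y, fun x => ?_⟩
    have hy : ∀ h : G, y.coeff h⁻¹ = h⁻¹ • c h := fun h => by
      show (∑ h' : G, SkewMonoidAlgebra.single h'⁻¹ (h'⁻¹ • c h')).coeff h⁻¹ = _
      rw [show (∑ h' : G, SkewMonoidAlgebra.single h'⁻¹ (h'⁻¹ • c h')).coeff h⁻¹ = ∑ h' : G, (SkewMonoidAlgebra.single h'⁻¹ (h'⁻¹ • c h')).coeff h⁻¹ from
        map_sum ((Finsupp.lapply (R := A) h⁻¹) ∘ₗ (SkewMonoidAlgebra.coeffLinearEquiv (S := A)).toLinearMap) _ _,
        Finset.sum_eq_single h]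
      · rw [SkewMonoidAlgebra.coeff_single_apply, if_pos rfl]
      · intro h' _ hne
        rw [SkewMonoidAlgebra.coeff_single_apply, if_neg (fun e => hne (inv_injective e))]
      · simp
    induction x using SkewMonoidAlgebra.induction_on with
    | zero => rw [zero_mul, map_zero, map_zero]
    | add x x' hx hx' => rw [add_mul, map_add, map_add, hx, hx']
    | single h b =>
      rw [hsingle, hy, smul_inv_smul, ← hc h b]
      rfl

end Groth.Agent.WildQuot51
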