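import Mathlib
import Groth.Agent.WildQuot51.Family

/-!
The minor elements of the family: `Fam` is, up to inverting one coefficient, free over the family
of the minor elements with basis the powers of one generator.
-/

set_option autoImplicit false

universe u v w

namespace Groth.Agent.WildQuot51

open MvPolynomial IsLocalRing Module

section Abstract

/-- A linear map between free modules of the same rank whose cokernel is killed by powers of a
nonzero element is injective. -/
theorem injective_of_pow_smul_mem_range {R : Type u} [CommRing R] [IsDomain R] [IsNoetherianRing R] {M : Type v} {N : Type w}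
    [AddCommGroup M] [Module R M] [AddCommGroup N] [Module R N] [Module.Free R M] [Module.Finite R M]
    [Module.Free R N] [Module.Finite R N] (hrk : Module.finrank R M = Module.finrank R N)
    (f : M →ₗ[R] N) {r : R} (hr : r ≠ 0) (hf : ∀ y : N, ∃ k : ℕ, r ^ k • y ∈ LinearMap.range f) :
    Function.Injective f := by
  classical
  let b := Module.Free.chooseBasis R N
  choose k hk using fun i => hf (b i)
  choose x hx using hk
  let g : N →ₗ[R] M := b.constr R x
  have hfg : Function.Injective (f ∘ₗ g) := by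
    rw [← LinearMap.ker_eq_bot, LinearMap.ker_eq_bot']
    intro y hy
    rw [← b.sum_repr y, map_sum] at hy
    simp only [map_smul, LinearMap.comp_apply, g, Basis.constr_basis, hx, smul_smul] at hy
    rw [← b.sum_repr y]
    refine Finset.sum_eq_zero fun i _ => ?_
    have := (Fintype.linearIndependent_iff.1 b.linearIndependent) _ hy i
    rw [(mul_eq_zero.1 this).resolve_right (pow_ne_zero _ hr), zero_smul]
  have hle : Module.finrank R N ≤ Module.finrank R (LinearMap.range f) := by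
    rw [← LinearMap.finrank_range_of_inj hfg]
    exact Submodule.finrank_mono (LinearMap.range_comp_le_range g f)
  have hker : Module.finrank R (LinearMap.ker f) = 0 := by
    have h := Submodule.finrank_quotient_add_finrank (LinearMap.ker f)
    rw [f.quotKerEquivRange.finrank_eq] at h
    omega
  rw [← LinearMap.ker_eq_bot]
  exact Submodule.finrank_eq_zero.1 hker

end Abstract

variable (p : ℕ) [hp : Fact p.Prime] {R : Type u} [CommRing R] [IsDomain R] [IsNoetherianRing R] [CharP R p] {m : ℕ}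
  (a : Fin (m + 1) → R) (μ : R) (x : Fin (m + 1) → R) (i₀ : Fin (m + 1))

/-- The coefficients of the family. -/
abbrev bigBeta : Fin (m + 1) → R := fun i => (μ * a i) ^ (p - 1)

/-- The coefficients of the minor family. -/
abbrev minorBeta : Fin m → R := fun l => (μ * a i₀ * a (i₀.succAbove l)) ^ (p - 1)

/-- The constants of the minor family. -/
abbrev minorC : Fin m → R := fun l =>
  a i₀ ^ p * x (i₀.succAbove l) - a (i₀.succAbove l) ^ p * x i₀

local notation "𝔸" => Fam p (bigBeta p a μ) x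
local notation "𝔹" => Fam p (minorBeta p a μ i₀) (minorC p a x i₀)

/-- The minor elements. -/
noncomputable def minorElt (l : Fin m) : 𝔸 :=
  algebraMap R 𝔸 (a i₀) * famU p _ x (i₀.succAbove l) -
    algebraMap R 𝔸 (a (i₀.succAbove l)) * famU p _ x i₀

theorem minorElt_pow (l : Fin m) : minorElt p a μ x i₀ l ^ p =
    algebraMap R 𝔸 (minorBeta p a μ i₀ l) * minorElt p a μ x i₀ l +
      algebraMap R 𝔸 (minorC p a x i₀ l) := by
  haveI : Nontrivial 𝔸 := by
    obtain ⟨hfree, -, hrk⟩ := fam_finite_free p (bigBeta p a μ) x hp.out.two_le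
    exact Module.nontrivial_of_finrank_pos (R := R) (by rw [hrk]; exact pow_pos hp.out.pos _)
  haveI : CharP 𝔸 p := (CharP.charP_iff_prime_eq_zero hp.out).2 (by
    rw [← map_natCast (algebraMap R 𝔸), CharP.cast_eq_zero, map_zero])
  rw [minorElt, sub_pow_char, mul_pow, mul_pow, famU_pow, famU_pow]
  simp only [bigBeta, minorBeta, minorC, map_mul, map_pow, map_sub]
  have h : ∀ y : 𝔸, y ^ p = y ^ (p - 1) * y := fun y => by
    rw [← pow_succ, Nat.sub_add_cancel hp.out.pos]
  rw [h (algebraMap R 𝔸 (a i₀)), h (algebraMap R 𝔸 (a (i₀.succAbove l)))]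
  ring

/-- The structure of the family over the minor family. -/
theorem exists_minor_structure (ha : a i₀ ≠ 0) : ∃ Φ : 𝔹 →ₐ[R] 𝔸,
    (∀ l, Φ (famU p _ _ l) = minorElt p a μ x i₀ l) ∧ Φ.range = Algebra.adjoin R (Set.range (minorElt p a μ x i₀)) ∧
    Function.Injective Φ ∧
    (∀ t : 𝔸, ∃ (k : ℕ) (b : Fin p → 𝔹),
      algebraMap R 𝔸 (a i₀) ^ k * t = ∑ i, Φ (b i) * famU p _ x i₀ ^ (i : ℕ)) ∧
    ∀ b : Fin p → 𝔹, ∑ i, Φ (b i) * famU p _ x i₀ ^ (i : ℕ) = 0 → ∀ i, b i = 0 := by
  classical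
  have hp2 := hp.out.two_le
  obtain ⟨hAfree, hAfin, hArk⟩ := fam_finite_free p (bigBeta p a μ) x hp2
  obtain ⟨hBfree, hBfin, hBrk⟩ := fam_finite_free p (minorBeta p a μ i₀) (minorC p a x i₀) hp2
  obtain ⟨Φ, hΦ⟩ := exists_famHom p (minorBeta p a μ i₀) (minorC p a x i₀) (minorElt p a μ x i₀)
    (minorElt_pow p a μ x i₀)
  let u₀ := famU p (bigBeta p a μ) x i₀
  let Θ : (Fin p → 𝔹) →ₗ[R] 𝔸 := ∑ i : Fin p,
    (LinearMap.mulRight R (u₀ ^ (i : ℕ))) ∘ₗ Φ.toLinearMap ∘ₗ LinearMap.proj i
  have hΘ : ∀ b, Θ b = ∑ i, Φ (b i) * u₀ ^ (i : ℕ) := fun b => by simp [Θ]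
  set S := LinearMap.range Θ
  have hmem : ∀ (b : 𝔹) (i : ℕ), i < p → Φ b * u₀ ^ i ∈ S := fun b i hi =>
    ⟨Pi.single ⟨i, hi⟩ b, by
      rw [hΘ, Finset.sum_eq_single ⟨i, hi⟩ (fun j _ hj => by rw [Pi.single_eq_of_ne hj, map_zero, zero_mul])
        (fun h => absurd (Finset.mem_univ _) h), Pi.single_eq_same]⟩
  have hu₀ : ∀ s ∈ S, s * u₀ ∈ S := by
    rintro _ ⟨b, rfl⟩
    rw [hΘ, Finset.sum_mul]
    refine Submodule.sum_mem _ fun i _ => ?_
    rw [mul_assoc, ← pow_succ]
    by_cases hi : (i : ℕ) + 1 < p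
    · exact hmem _ _ hi
    · rw [show (i : ℕ) + 1 = p by have := i.2; omega, famU_pow, mul_add, ← mul_assoc,
        ← AlgHom.commutes Φ, ← AlgHom.commutes Φ, ← map_mul, ← map_mul]
      exact add_mem (by simpa using hmem (b i * algebraMap R 𝔹 (bigBeta p a μ i₀)) 1 (by omega))
        (by simpa using hmem (b i * algebraMap R 𝔹 (x i₀)) 0 (by omega))
  have hz : ∀ (l : Fin m), ∀ s ∈ S, s * minorElt p a μ x i₀ l ∈ S := by
    rintro l _ ⟨b, rfl⟩
    rw [hΘ, Finset.sum_mul]
    refine Submodule.sum_mem _ fun i _ => ?_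
    rw [mul_right_comm, ← hΦ, ← map_mul]
    exact hmem _ _ i.2
  have hone : (1 : 𝔸) ∈ S := by simpa using hmem 1 0 (by omega)
  have hsurj : ∀ t : 𝔸, ∃ k : ℕ, a i₀ ^ k • t ∈ S := by
    intro t
    obtain ⟨f, rfl⟩ := Ideal.Quotient.mk_surjective t
    induction f using MvPolynomial.induction_on with
    | C r =>
      refine ⟨0, ?_⟩
      rw [pow_zero, one_smul, show Ideal.Quotient.mk (famIdeal p (bigBeta p a μ) x) (C r) = r • (1 : 𝔸) from
        (show algebraMap R 𝔸 r = _ from Algebra.algebraMap_eq_smul_one r)]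
      exact S.smul_mem _ hone
    | add f g hf hg =>
      obtain ⟨k, hk⟩ := hf
      obtain ⟨l, hl⟩ := hg
      refine ⟨k + l, ?_⟩
      rw [map_add, smul_add]
      refine add_mem ?_ ?_
      · rw [show a i₀ ^ (k + l) = a i₀ ^ l * a i₀ ^ k by ring, mul_smul]; exact S.smul_mem _ hk
      · rw [show a i₀ ^ (k + l) = a i₀ ^ k * a i₀ ^ l by ring, mul_smul]; exact S.smul_mem _ hl
    | mul_X f i hf =>
      obtain ⟨k, hk⟩ := hf
      refine ⟨k + 1, ?_⟩
      rw [map_mul]
      rcases Fin.eq_self_or_eq_succAbove i₀ i with rfl | ⟨l, rfl⟩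
      · rw [pow_succ', mul_smul]
        refine S.smul_mem _ ?_
        rw [← smul_mul_assoc]
        exact hu₀ _ hk
      · have heq : a i₀ ^ (k + 1) • (Ideal.Quotient.mk (famIdeal p (bigBeta p a μ) x) f *
            famU p (bigBeta p a μ) x (i₀.succAbove l)) =
            (a i₀ ^ k • Ideal.Quotient.mk (famIdeal p (bigBeta p a μ) x) f) * minorElt p a μ x i₀ l +
              a (i₀.succAbove l) • ((a i₀ ^ k • Ideal.Quotient.mk (famIdeal p (bigBeta p a μ) x) f) * u₀) := by
          have hs : ∀ (r : R) (y : 𝔸), r • y = algebraMap R 𝔸 r * y := fun r y => Algebra.smul_def r y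
          simp only [hs, minorElt, map_pow, u₀]
          ring
        rw [show Ideal.Quotient.mk (famIdeal p (bigBeta p a μ) x) (X (i₀.succAbove l)) =
          famU p (bigBeta p a μ) x (i₀.succAbove l) from rfl, heq]
        exact add_mem (hz l _ hk) (S.smul_mem _ (hu₀ _ hk))
  have hinj : Function.Injective Θ := by
    refine injective_of_pow_smul_mem_range ?_ Θ ha hsurj
    rw [Module.finrank_pi_fintype, hArk, Finset.sum_const, Finset.card_univ, Fintype.card_fin, hBrk,
      smul_eq_mul, ← pow_succ']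
  refine ⟨Φ, hΦ, ?_, fun b b' h => ?_, fun t => ?_, fun b hb i => ?_⟩
  · refine le_antisymm ?_ (Algebra.adjoin_le ?_)
    · rintro _ ⟨b, rfl⟩
      obtain ⟨f, rfl⟩ := Ideal.Quotient.mk_surjective b
      show Φ (Ideal.Quotient.mk _ f) ∈ _
      induction f using MvPolynomial.induction_on with
      | C r =>
        rw [show Ideal.Quotient.mk (famIdeal p _ _) (C r) = algebraMap R 𝔹 r from rfl, AlgHom.commutes]
        exact Subalgebra.algebraMap_mem _ r
      | add f g hf hg => rw [map_add, map_add]; exact add_mem hf hg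
      | mul_X f l hf =>
        rw [map_mul, map_mul, show Ideal.Quotient.mk (famIdeal p _ _) (X l) = famU p _ _ l from rfl, hΦ]
        exact mul_mem hf (Algebra.subset_adjoin ⟨l, rfl⟩)
    · rintro _ ⟨l, rfl⟩
      exact ⟨_, hΦ l⟩
  · have h0 : (⟨0, by omega⟩ : Fin p) ∈ (Finset.univ : Finset (Fin p)) := Finset.mem_univ _
    have := hinj (a₁ := Pi.single (⟨0, by omega⟩ : Fin p) b) (a₂ := Pi.single ⟨0, by omega⟩ b') (by
      rw [hΘ, hΘ]
      refine Finset.sum_congr rfl fun j _ => ?_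
      by_cases hj : j = ⟨0, by omega⟩
      · subst hj; rw [Pi.single_eq_same, Pi.single_eq_same, h]
      · rw [Pi.single_eq_of_ne hj, Pi.single_eq_of_ne hj])
    simpa using congrFun this ⟨0, by omega⟩
  · obtain ⟨k, b, hb⟩ := hsurj t
    refine ⟨k, b, ?_⟩
    rw [← map_pow, ← hΘ, hb]
    exact (Algebra.smul_def (a i₀ ^ k) t).symm
  · have := hinj (a₁ := b) (a₂ := 0) (by rw [hΘ, map_zero]; exact hb)
    exact congrFun this i

/-- Elements fixed by the diagonal translation lie in the minor family, up to the coefficient. -/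
theorem exists_pow_mul_mem_of_fixed (ha : a i₀ ≠ 0) (hμ : μ ≠ 0) (σ : 𝔸 ≃ₐ[R] 𝔸)
    (hσ : ∀ i, σ (famU p _ x i) = famU p _ x i + algebraMap R 𝔸 (μ * a i)) (t : 𝔸) (ht : σ t = t) :
    ∃ k : ℕ, algebraMap R 𝔸 (μ * a i₀) ^ k * t ∈ Algebra.adjoin R (Set.range (minorElt p a μ x i₀)) := by
  classical
  obtain ⟨Φ, hΦ, hrange, hinj, hgen, hind⟩ := exists_minor_structure p a μ x i₀ ha
  obtain ⟨k, b, hb⟩ := hgen t
  refine ⟨k, ?_⟩
  have hfix : ∀ y : 𝔹, σ (Φ y) = Φ y := by
    have : (σ.toAlgHom.comp Φ) = Φ := famHom_ext p _ _ fun l => by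
      show σ (Φ (famU p _ _ l)) = _
      rw [hΦ, minorElt, map_sub, map_mul, map_mul, AlgEquiv.commutes, AlgEquiv.commutes, hσ, hσ]
      simp only [map_mul]
      ring
    exact fun y => AlgHom.congr_fun this y
  let e := algebraMap R 𝔹 (μ * a i₀)
  -- the expansion of the translate
  let d : Fin p → 𝔹 := fun i => ∑ j : Fin p,
    if (i : ℕ) < (j : ℕ) then b j * (((j : ℕ).choose (i : ℕ) : 𝔹) * e ^ ((j : ℕ) - (i : ℕ))) else 0
  have hd : ∀ i, d i = 0 := by
    refine hind d ?_
    have h1 := congrArg σ hb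
    rw [map_mul, map_pow, AlgEquiv.commutes, ht, hb, map_sum] at h1
    simp only [map_mul, map_pow, hfix, hσ] at h1
    rw [eq_comm, ← sub_eq_zero, ← Finset.sum_sub_distrib] at h1
    rw [← h1]
    simp only [d, map_sum, Finset.sum_mul]
    rw [Finset.sum_comm]
    refine Finset.sum_congr rfl fun j _ => ?_
    rw [← map_mul (algebraMap R 𝔸), ← mul_sub, add_pow]
    have hr : ∑ i ∈ Finset.range ((j : ℕ) + 1), famU p (bigBeta p a μ) x i₀ ^ i *
        algebraMap R 𝔸 (μ * a i₀) ^ ((j : ℕ) - i) * ((j : ℕ).choose i : 𝔸) -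
          famU p (bigBeta p a μ) x i₀ ^ (j : ℕ) =
        ∑ i ∈ Finset.range (j : ℕ), famU p (bigBeta p a μ) x i₀ ^ i *
          algebraMap R 𝔸 (μ * a i₀) ^ ((j : ℕ) - i) * ((j : ℕ).choose i : 𝔸) := by
      rw [Finset.sum_range_succ, Nat.sub_self, pow_zero, Nat.choose_self, Nat.cast_one, mul_one, mul_one,
        add_sub_cancel_right]
    rw [hr, Finset.mul_sum]
    have himg : Finset.range (j : ℕ) = (Finset.univ.filter fun i : Fin p => (i : ℕ) < (j : ℕ)).image Fin.val := by
      ext i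
      simp only [Finset.mem_range, Finset.mem_image, Finset.mem_filter, Finset.mem_univ, true_and]
      exact ⟨fun h => ⟨⟨i, h.trans j.2⟩, h, rfl⟩, fun ⟨l, hl, h⟩ => h ▸ hl⟩
    rw [himg, Finset.sum_image (fun i _ l _ h => Fin.val_injective h), Finset.sum_filter]
    refine Finset.sum_congr rfl fun i _ => ?_
    split_ifs
    · simp only [map_mul, map_pow, map_natCast, e, AlgHom.commutes]
      ring
    · rw [map_zero, zero_mul]
  have he : e ≠ 0 := by
    obtain ⟨hBfree, -, hBrk⟩ := fam_finite_free p (minorBeta p a μ i₀) (minorC p a x i₀) hp.out.two_le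
    haveI : Nontrivial 𝔹 := Module.nontrivial_of_finrank_pos (R := R)
      (by rw [hBrk]; exact pow_pos hp.out.pos _)
    exact (map_ne_zero_iff _ ((faithfulSMul_iff_algebraMap_injective R _).1 inferInstance)).2
      (mul_ne_zero hμ ha)
  have hsmul : ∀ (y : 𝔹) (r : R), algebraMap R 𝔹 r * y = 0 → r ≠ 0 → y = 0 := fun y r h hr => by
    haveI := (fam_finite_free p (minorBeta p a μ i₀) (minorC p a x i₀) hp.out.two_le).1
    rw [← Algebra.smul_def] at h
    exact (smul_eq_zero.1 h).resolve_left hr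
  -- the positive components vanish
  have hpos : ∀ (l : ℕ) (hl : l < p), 0 < l → b ⟨l, hl⟩ = 0 := by
    intro l
    induction l using Nat.strong_decreasing_induction with
    | base => exact ⟨p, fun l hl hlp => absurd hlp (by omega)⟩
    | step l ih =>
      intro hl hl0
      have h := hd ⟨l - 1, by omega⟩
      simp only [d] at h
      rw [Finset.sum_eq_single ⟨l, hl⟩] at h
      · rw [if_pos (show l - 1 < l by omega), show l - (l - 1) = 1 by omega, pow_one,
          Nat.choose_symm_of_eq_add (show l = l - 1 + 1 by omega), Nat.choose_one_right,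
          mul_left_comm, mul_comm (b _), ← map_natCast (algebraMap R 𝔹), ← mul_assoc, ← map_mul] at h
        refine hsmul _ _ h (mul_ne_zero (fun h0 => ?_) (mul_ne_zero hμ ha))
        have := Nat.le_of_dvd hl0 ((CharP.cast_eq_zero_iff R p l).1 h0)
        omega
      · intro j _ hj
        split_ifs with hlt
        · have : l < (j : ℕ) := by
            have : (j : ℕ) ≠ l := fun h => hj (Fin.ext h)
            omega
          rw [ih _ this j.2 (by omega), zero_mul]
        · rfl
      · exact fun h => absurd (Finset.mem_univ _) h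
  rw [map_mul, mul_pow, mul_assoc, hb, Finset.sum_eq_single ⟨0, hp.out.pos⟩]
  · rw [pow_zero, mul_one, ← hrange, ← map_pow]
    exact mul_mem (Subalgebra.algebraMap_mem _ _) ⟨_, rfl⟩
  · intro j _ hj
    rw [show b j = 0 from hpos j j.2 (Nat.pos_of_ne_zero fun h => hj (Fin.ext h)), map_zero, zero_mul]
  · exact fun h => absurd (Finset.mem_univ _) h

/-- The minor family is a domain, normal once the coefficient is inverted. -/
theorem minor_normal [IsDomain (Fam p (bigBeta p a μ) x)] [IsIntegrallyClosed (Fam p (bigBeta p a μ) x)]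
    (ha : a i₀ ≠ 0) (hμ : μ ≠ 0) :
    IsDomain 𝔹 ∧ IsIntegrallyClosed (Localization.Away (algebraMap R 𝔹 (μ * a i₀))) := by
  classical
  obtain ⟨Φ, hΦ, -, hinj, hgen, hind⟩ := exists_minor_structure p a μ x i₀ ha
  haveI hdom : IsDomain 𝔹 := hinj.isDomain
  refine ⟨hdom, ?_⟩
  haveI := (fam_finite_free p (minorBeta p a μ i₀) (minorC p a x i₀) hp.out.two_le).1
  have hmap : Function.Injective (algebraMap R 𝔹) :=
    (faithfulSMul_iff_algebraMap_injective R _).1 inferInstance
  set g := algebraMap R 𝔹 (μ * a i₀) with hg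
  have hg0 : g ≠ 0 := (map_ne_zero_iff _ hmap).2 (mul_ne_zero hμ ha)
  let Bg := Localization.Away g
  have hle : Submonoid.powers g ≤ nonZeroDivisors 𝔹 :=
    powers_le_nonZeroDivisors_of_noZeroDivisors hg0
  haveI : IsDomain Bg := IsLocalization.isDomain_of_le_nonZeroDivisors Bg hle
  let K := FractionRing 𝔹
  letI : Algebra Bg K := IsLocalization.localizationAlgebraOfSubmonoidLe Bg K _ _ hle
  haveI : IsScalarTower 𝔹 Bg K :=
    IsLocalization.localization_isScalarTower_of_submonoid_le Bg K _ _ hle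
  haveI : IsFractionRing Bg K := IsFractionRing.isFractionRing_of_isDomain_of_isLocalization
    (Submonoid.powers g) Bg K
  rw [isIntegrallyClosed_iff K]
  intro z hz
  obtain ⟨⟨s, hs⟩, hy⟩ := IsIntegral.exists_multiple_integral_of_isLocalization (Submonoid.powers g) z hz
  obtain ⟨N, rfl⟩ := hs
  obtain ⟨b, d, hd, hzbd⟩ := IsFractionRing.div_surjective 𝔹 ((g ^ N) • z)
  let L := FractionRing (Fam p (bigBeta p a μ) x)
  let ν : 𝔹 →+* L := (algebraMap 𝔸 L).comp Φ.toRingHom
  have hν : Function.Injective ν := (IsFractionRing.injective 𝔸 L).comp hinj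
  let ΦL : K →+* L := IsFractionRing.lift hν
  have hΦL : ∀ y : 𝔹, ΦL (algebraMap 𝔹 K y) = algebraMap 𝔸 L (Φ y) := fun y =>
    IsFractionRing.lift_algebraMap hν y
  have hint : IsIntegral 𝔸 (ΦL ((g ^ N) • z)) := by
    obtain ⟨f, hfm, hf⟩ := hy
    refine ⟨f.map Φ.toRingHom, hfm.map _, ?_⟩
    rw [Polynomial.eval₂_map, show (algebraMap 𝔸 L).comp Φ.toRingHom = ΦL.comp (algebraMap 𝔹 K) from
      RingHom.ext fun y => (hΦL y).symm, ← Polynomial.hom_eval₂]
    exact (congrArg ΦL hf).trans (map_zero _)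
  obtain ⟨t, ht⟩ := IsIntegrallyClosed.isIntegral_iff.1 hint
  obtain ⟨k, c, hc⟩ := hgen t
  have hd0 : d ≠ 0 := nonZeroDivisors.ne_zero hd
  have htd : t * Φ d = Φ b := IsFractionRing.injective 𝔸 L (by
    rw [map_mul, ht, ← hzbd, map_div₀, hΦL, hΦL, div_mul_cancel₀]
    exact (map_ne_zero_iff _ (IsFractionRing.injective 𝔸 L)).2 ((map_ne_zero_iff _ hinj).2 hd0))
  let i0 : Fin p := ⟨0, hp.out.pos⟩
  have hzero : ∑ i, Φ (d * c i - if i = i0 then algebraMap R 𝔹 (a i₀) ^ k * b else 0) *
      famU p (bigBeta p a μ) x i₀ ^ (i : ℕ) = 0 := by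
    simp only [map_sub, sub_mul, Finset.sum_sub_distrib, map_mul, mul_assoc, ← Finset.mul_sum, ← hc]
    rw [Finset.sum_eq_single i0 (fun j _ hj => by rw [if_neg hj, map_zero, zero_mul])
      (fun h => absurd (Finset.mem_univ _) h), if_pos rfl, map_mul, map_pow, AlgHom.commutes, ← htd]
    simp only [i0, pow_zero, mul_one]
    ring
  have hcomp := hind _ hzero i0
  rw [if_pos rfl, sub_eq_zero] at hcomp
  -- divide
  have hu0 : IsUnit (algebraMap 𝔹 Bg (algebraMap R 𝔹 (a i₀))) := by
    refine isUnit_of_mul_isUnit_right (x := algebraMap 𝔹 Bg (algebraMap R 𝔹 μ)) ?_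
    rw [← map_mul, ← map_mul]
    exact IsLocalization.Away.algebraMap_isUnit g
  have hgu : IsUnit (algebraMap 𝔹 Bg g) := IsLocalization.Away.algebraMap_isUnit g
  obtain ⟨e, he⟩ := ((hgu.pow N).mul (hu0.pow k)).exists_right_inv
  refine ⟨algebraMap 𝔹 Bg (c i0) * e, ?_⟩
  have hKne : algebraMap Bg K ((algebraMap 𝔹 Bg g) ^ N * (algebraMap 𝔹 Bg (algebraMap R 𝔹 (a i₀))) ^ k) ≠ 0 :=
    ((hgu.pow N).mul (hu0.pow k)).map (algebraMap Bg K) |>.ne_zero
  refine mul_left_cancel₀ hKne ?_
  rw [← map_mul, mul_left_comm, he, mul_one]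
  simp only [map_mul, map_pow, ← IsScalarTower.algebraMap_apply 𝔹 Bg K]
  have hdK : algebraMap 𝔹 K d ≠ 0 := IsFractionRing.to_map_ne_zero_of_mem_nonZeroDivisors hd
  have hzb : algebraMap 𝔹 K (g ^ N) * z * algebraMap 𝔹 K d = algebraMap 𝔹 K b := by
    rw [← Algebra.smul_def, ← hzbd, div_mul_cancel₀ _ hdK]
  refine mul_right_cancel₀ hdK ?_
  rw [mul_assoc, mul_assoc, mul_comm (algebraMap 𝔹 K (c i0)), ← map_mul, hcomp, map_mul, map_pow, ← hzb,
    map_pow]
  ring

/-- Renaming the variables of the minor family by the subtype of the other indices. -/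
theorem map_rename_famIdeal (e : Fin m ≃ {j : Fin (m + 1) // j ≠ i₀})
    (he : ∀ l, (e l : Fin (m + 1)) = i₀.succAbove l) :
    (famIdeal p (minorBeta p a μ i₀) (minorC p a x i₀)).map (MvPolynomial.renameEquiv R e).toAlgHom =
      Ideal.span (Set.range fun j : {j : Fin (m + 1) // j ≠ i₀} =>
        MvPolynomial.X j ^ p - MvPolynomial.C ((μ * a i₀ * a j.1) ^ (p - 1)) * MvPolynomial.X j
          - MvPolynomial.C (a i₀ ^ p * x j.1 - a j.1 ^ p * x i₀)) := by
  rw [Ideal.map_span, ← Set.range_comp, ← e.surjective.range_comp (fun j : {j : Fin (m + 1) // j ≠ i₀} =>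
    MvPolynomial.X j ^ p - MvPolynomial.C ((μ * a i₀ * a j.1) ^ (p - 1)) * MvPolynomial.X j
          - MvPolynomial.C (a i₀ ^ p * x j.1 - a j.1 ^ p * x i₀))]
  congr 2
  funext l
  simp [he, minorBeta, minorC]

end Groth.Agent.WildQuot51
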