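import Mathlib

/-!
A morphism between finite flat schemes over a Noetherian base which is an isomorphism on the fibres
over the points of codimension at most one is an isomorphism.
-/

set_option autoImplicit false

universe u

open CategoryTheory Limits AlgebraicGeometry TensorProduct

namespace Groth.Agent.WildQuot51

/-- A linear map of free modules which is bijective at the primes of height at most one is bijective. -/
theorem bijective_free_of_height_le_one {R : Type u} [CommRing R] [IsNoetherianRing R] [IsLocalRing R]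
    {M N : Type u} [AddCommGroup M] [Module R M] [AddCommGroup N] [Module R N]
    [Module.Free R M] [Module.Finite R M] [Module.Free R N] [Module.Finite R N] (l : M →ₗ[R] N)
    (h : ∀ q : Ideal R, q.IsPrime → q.height ≤ 1 → ∃ (K : Type u) (_ : Field K) (_ : Algebra R K),
      RingHom.ker (algebraMap R K) = q ∧ Function.Bijective (l.baseChange K)) :
    Function.Bijective l := by
  classical
  have hrk : Module.finrank R M = Module.finrank R N := by
    obtain ⟨q, hq, -⟩ := Ideal.exists_minimalPrimes_le (bot_le : (⊥ : Ideal R) ≤ IsLocalRing.maximalIdeal R)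
    haveI := hq.1.1
    obtain ⟨K, _, _, -, hb⟩ := h q hq.1.1 (by rw [Ideal.height_eq_zero_iff.2 hq]; exact zero_le_one)
    have := (LinearEquiv.ofBijective _ hb).finrank_eq
    rwa [Module.finrank_baseChange, Module.finrank_baseChange] at this
  obtain ⟨e⟩ := FiniteDimensional.nonempty_linearEquiv_of_finrank_eq hrk.symm
  let g : M →ₗ[R] M := e.toLinearMap ∘ₗ l
  suffices hu : IsUnit (LinearMap.det g) by
    have hb : Function.Bijective g := (Module.End.isUnit_iff g).1 ((LinearMap.isUnit_iff_isUnit_det g).2 hu)
    have h2 : (l : M → N) = e.symm ∘ g := funext fun x => (e.symm_apply_apply (l x)).symm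
    rw [h2]
    exact e.symm.bijective.comp hb
  by_contra hu
  obtain ⟨q, hq, hqle⟩ := Ideal.exists_minimalPrimes_le
    ((Ideal.span_singleton_le_iff_mem (IsLocalRing.maximalIdeal R)).2 hu)
  haveI := hq.1.1
  obtain ⟨K, _, _, hker, hb⟩ := h q hq.1.1 (Ideal.height_le_one_of_isPrincipal_of_mem_minimalPrimes _ q hq)
  have hz : algebraMap R K (LinearMap.det g) = 0 := by
    rw [← RingHom.mem_ker, hker]
    exact hq.1.2 (Ideal.mem_span_singleton_self _)
  rw [← LinearMap.det_baseChange] at hz
  have hgb : Function.Bijective (g.baseChange K) := by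
    have hcomp : g.baseChange K = (e.toLinearMap.baseChange K) ∘ₗ (l.baseChange K) :=
      LinearMap.baseChange_comp _ _
    rw [hcomp, LinearMap.coe_comp]
    exact ((e.baseChange R K N M).bijective).comp hb
  exact not_isUnit_zero (hz ▸ (LinearMap.isUnit_iff_isUnit_det _).1 ((Module.End.isUnit_iff _).2 hgb))

/-- A linear map of finite projective modules which is bijective at the primes of height at most one
is bijective. -/
theorem bijective_of_height_le_one {A : Type u} [CommRing A] [IsNoetherianRing A] {M N : Type u}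
    [AddCommGroup M] [Module A M] [AddCommGroup N] [Module A N] [Module.Flat A M] [Module.Finite A M]
    [Module.Flat A N] [Module.Finite A N] (l : M →ₗ[A] N)
    (h : ∀ p : Ideal A, p.IsPrime → p.height ≤ 1 → ∃ (K : Type u) (_ : Field K) (_ : Algebra A K),
      RingHom.ker (algebraMap A K) = p ∧ Function.Bijective (l.baseChange K)) :
    Function.Bijective l := by
  refine bijective_of_localized_maximal l fun m hm => ?_
  haveI := hm.isPrime
  let R := Localization.AtPrime m
  have hb : Function.Bijective (l.baseChange R) := by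
    haveI : Module.Free R (R ⊗[A] M) := Module.free_of_flat_of_isLocalRing
    haveI : Module.Free R (R ⊗[A] N) := Module.free_of_flat_of_isLocalRing
    refine bijective_free_of_height_le_one (l.baseChange R) fun q hq hq1 => ?_
    haveI := hq
    obtain ⟨K, _, _, hker, hbK⟩ := h (q.comap (algebraMap A R)) (hq.comap _)
      (by rwa [← Ideal.under_def, IsLocalization.height_under m.primeCompl])
    have hu : ∀ y : m.primeCompl, IsUnit (algebraMap A K y) := fun y => isUnit_iff_ne_zero.2 fun h0 => by
      have hy : (y : A) ∈ q.comap (algebraMap A R) := hker ▸ h0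
      exact hq.ne_top (q.eq_top_of_isUnit_mem hy (IsLocalization.map_units R y))
    letI : Algebra R K := (IsLocalization.lift (S := R) hu).toAlgebra
    haveI : IsScalarTower A R K := IsScalarTower.of_algebraMap_eq fun a =>
      (IsLocalization.lift_eq hu a).symm
    refine ⟨K, inferInstance, inferInstance, ?_, ?_⟩
    · ext r
      obtain ⟨a, y, rfl⟩ := IsLocalization.exists_mk'_eq m.primeCompl r
      rw [RingHom.mem_ker, IsLocalization.mk'_mem_iff]
      show IsLocalization.lift hu _ = 0 ↔ a ∈ q.comap (algebraMap A R)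
      rw [← hker, RingHom.mem_ker, IsLocalization.lift_mk']
      simp
    · have hc : ∀ x, AlgebraTensorModule.cancelBaseChange A R K K N ((l.baseChange R).baseChange K x) =
          l.baseChange K (AlgebraTensorModule.cancelBaseChange A R K K M x) := by
        intro x
        induction x using TensorProduct.induction_on with
        | zero => simp
        | tmul k y =>
          induction y using TensorProduct.induction_on with
          | zero => simp
          | tmul r z => simp
          | add y z hy hz => simp only [tmul_add, map_add, hy, hz]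
        | add x y hx hy => simp only [map_add, hx, hy]
      have h2 : ((l.baseChange R).baseChange K : K ⊗[R] (R ⊗[A] M) → K ⊗[R] (R ⊗[A] N)) =
          (AlgebraTensorModule.cancelBaseChange A R K K N).symm ∘ l.baseChange K ∘
            AlgebraTensorModule.cancelBaseChange A R K K M := funext fun x => by
        rw [Function.comp_apply, Function.comp_apply, ← hc, LinearEquiv.symm_apply_apply]
      rw [h2]
      exact (LinearEquiv.bijective _).comp (hbK.comp (LinearEquiv.bijective _))
  have hc : ∀ x, LocalizedModule.equivTensorProduct m.primeCompl N (LocalizedModule.map m.primeCompl l x) =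
      l.baseChange R (LocalizedModule.equivTensorProduct m.primeCompl M x) := by
    intro x
    induction x using LocalizedModule.induction_on with
    | h a s => simp
  have h2 : (LocalizedModule.map m.primeCompl l : LocalizedModule m.primeCompl M → _) =
      (LocalizedModule.equivTensorProduct m.primeCompl N).symm ∘ l.baseChange R ∘
        LocalizedModule.equivTensorProduct m.primeCompl M := funext fun x => by
    rw [Function.comp_apply, Function.comp_apply, ← hc, LinearEquiv.symm_apply_apply]
  rw [h2]
  exact (LinearEquiv.bijective _).comp (hb.comp (LinearEquiv.bijective _))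

set_option backward.isDefEq.respectTransparency.types false in
/-- A morphism of finite flat schemes which is an isomorphism on the fibres over the points of
codimension at most one is an isomorphism. -/
theorem isIso_of_fibres_codim_le_one {S Z₁ Z₂ : Scheme.{u}} [IsLocallyNoetherian S] (ψ : Z₁ ⟶ Z₂)
    (f₂ : Z₂ ⟶ S) [IsFinite f₂] [Flat f₂] [IsFinite (ψ ≫ f₂)] [Flat (ψ ≫ f₂)]
    (h : ∀ s : S, ringKrullDim (S.presheaf.stalk s) ≤ 1 → IsIso (pullback.snd ψ (f₂.fiberι s))) :
    IsIso ψ := by
  haveI : IsFinite ψ := IsFinite.of_comp ψ f₂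
  change MorphismProperty.isomorphisms Scheme ψ
  refine IsZariskiLocalAtTarget.of_iSup_eq_top (P := MorphismProperty.isomorphisms Scheme)
    (fun V : S.affineOpens => f₂ ⁻¹ᵁ V.1) (S.isBasis_affineOpens.isOpenCover.comap f₂.base.hom) fun V => ?_
  show IsIso (ψ ∣_ (f₂ ⁻¹ᵁ V.1))
  let W : Z₂.Opens := f₂ ⁻¹ᵁ V.1
  have hV := V.2
  have hW : IsAffineOpen W := hV.preimage f₂
  have hW' : IsAffineOpen (ψ ⁻¹ᵁ W) := hW.preimage ψ
  haveI : IsNoetherianRing Γ(S, V.1) := IsLocallyNoetherian.component_noetherian V
  let A := Γ(S, V.1)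
  let B := Γ(Z₂, W)
  let C := Γ(Z₁, ψ ⁻¹ᵁ W)
  let a : A ⟶ B := f₂.app V.1
  let b : B ⟶ C := ψ.app W
  letI : Algebra A B := a.hom.toAlgebra
  letI : Algebra B C := b.hom.toAlgebra
  letI : Algebra A C := (b.hom.comp a.hom).toAlgebra
  haveI : IsScalarTower A B C := IsScalarTower.of_algebraMap_eq fun _ => rfl
  have hab : a ≫ b = (ψ ≫ f₂).app V.1 := (Scheme.Hom.comp_app ψ f₂ V.1).symm
  haveI : Module.Finite A B := IsFinite.finite_app f₂ V.1 hV
  haveI : Module.Finite A C := by
    have := IsFinite.finite_app (ψ ≫ f₂) V.1 hV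
    rw [← hab] at this
    exact this
  haveI : Module.Flat A B := by
    have := f₂.flat_appLE hV hW le_rfl
    rw [← Scheme.Hom.app_eq_appLE] at this
    exact this
  haveI : Module.Flat A C := by
    have := (ψ ≫ f₂).flat_appLE hV (show IsAffineOpen ((ψ ≫ f₂) ⁻¹ᵁ V.1) from hW') le_rfl
    rw [← Scheme.Hom.app_eq_appLE] at this
    rw [← hab] at this
    exact this
  have key : Function.Bijective (IsScalarTower.toAlgHom A B C).toLinearMap := by
    refine bijective_of_height_le_one _ fun p hp hp1 => ?_
    let s : S := hV.fromSpec ⟨p, hp⟩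
    have hs : s ∈ V.1 := (hV.range_fromSpec).le ⟨_, rfl⟩
    haveI := hV.isLocalization_stalk ⟨s, hs⟩
    have hprime : hV.primeIdealOf ⟨s, hs⟩ = ⟨p, hp⟩ :=
      hV.fromSpec.isOpenEmbedding.injective (hV.fromSpec_primeIdealOf _)
    have hp' : (hV.primeIdealOf ⟨s, hs⟩).asIdeal = p := congrArg PrimeSpectrum.asIdeal hprime
    have hdim : ringKrullDim (S.presheaf.stalk s) ≤ 1 := by
      letI : Algebra Γ(S, V.1) (S.presheaf.stalk s) := (S.presheaf.germ V.1 s hs).hom.toAlgebra
      rw [IsLocalization.AtPrime.ringKrullDim_eq_height (hV.primeIdealOf ⟨s, hs⟩).asIdeal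
        (S.presheaf.stalk s), hp']
      exact_mod_cast hp1
    let ev : A ⟶ S.residueField s := S.presheaf.germ V.1 s hs ≫ S.residue s
    letI : Algebra A (IsLocalRing.ResidueField (S.presheaf.stalk s)) := ev.hom.toAlgebra
    let k := IsLocalRing.ResidueField (S.presheaf.stalk s)
    refine ⟨k, inferInstance, inferInstance, ?_, ?_⟩
    · rw [← hp']
      letI : Algebra Γ(S, V.1) (S.presheaf.stalk s) := (S.presheaf.germ V.1 s hs).hom.toAlgebra
      rw [← IsLocalization.AtPrime.under_maximalIdeal (S.presheaf.stalk s)
        (hV.primeIdealOf ⟨s, hs⟩).asIdeal]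
      ext r
      rw [RingHom.mem_ker, Ideal.under_def, Ideal.mem_comap]
      exact IsLocalRing.residue_eq_zero_iff _
    let BK := CommRingCat.of (B ⊗[A] k)
    let CK := CommRingCat.of (C ⊗[A] k)
    let iB : B ⟶ BK := CommRingCat.ofHom (Algebra.TensorProduct.includeLeftRingHom)
    let iC : C ⟶ CK := CommRingCat.ofHom (Algebra.TensorProduct.includeLeftRingHom)
    let kB : S.residueField s ⟶ BK := CommRingCat.ofHom (Algebra.TensorProduct.includeRight (R := A)).toRingHom
    let kC : S.residueField s ⟶ CK := CommRingCat.ofHom (Algebra.TensorProduct.includeRight (R := A)).toRingHom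
    let L : BK ⟶ CK := CommRingCat.ofHom
      (Algebra.TensorProduct.map (IsScalarTower.toAlgHom A B C) (AlgHom.id A k)).toRingHom
    have hBp : IsPushout a ev iB kB := CommRingCat.isPushout_tensorProduct (A : Type u) (B : Type u) k
    have hCp : IsPushout (a ≫ b) ev iC kC := CommRingCat.isPushout_tensorProduct (A : Type u) (C : Type u) k
    have hL : kB ≫ L = kC := by
      ext (x : k)
      show Algebra.TensorProduct.map (IsScalarTower.toAlgHom A B C) (AlgHom.id A k) (1 ⊗ₜ x) = 1 ⊗ₜ x
      rw [Algebra.TensorProduct.map_tmul, map_one]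
      rfl
    have hsq : b ≫ iC = iB ≫ L := by
      ext x
      simp [iB, iC, L, Algebra.TensorProduct.includeLeftRingHom]
      rfl
    have hright : IsPushout b iB iC L := IsPushout.of_left (hL.symm ▸ hCp) hsq hBp
    -- the square of restrictions
    have h0 : IsPullback hW'.fromSpec (Spec.map b) ψ hW.fromSpec :=
      (isPullback_morphismRestrict ψ W).flip.of_iso hW'.isoSpec (Iso.refl _) hW.isoSpec (Iso.refl _)
        (by rw [IsAffineOpen.isoSpec_hom_fromSpec, Iso.refl_hom, Category.comp_id])
        (by rw [IsAffineOpen.isoSpec_hom, IsAffineOpen.isoSpec_hom,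
          show b = ψ.appLE W (ψ ⁻¹ᵁ W) le_rfl from Scheme.Hom.app_eq_appLE ψ,
          Scheme.Opens.toSpecΓ_SpecMap_appLE, Scheme.Hom.resLE_eq_morphismRestrict])
        (by rw [Iso.refl_hom, Iso.refl_hom, Category.comp_id, Category.id_comp])
        (by rw [IsAffineOpen.isoSpec_hom_fromSpec, Iso.refl_hom, Category.comp_id])
    have hbig : IsPullback (Spec.map iC ≫ hW'.fromSpec) (Spec.map L) ψ (Spec.map iB ≫ hW.fromSpec) :=
      (isPullback_SpecMap_of_isPushout _ _ _ _ hright).paste_horiz h0
    have hfac : (Spec.map iB ≫ hW.fromSpec) ≫ f₂ = Spec.map kB ≫ S.fromSpecResidueField s := by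
      rw [Category.assoc, ← hV.SpecMap_appLE_fromSpec f₂ hW le_rfl, ← Scheme.Hom.app_eq_appLE,
        ← Spec.map_comp_assoc, show f₂.app V.1 ≫ iB = ev ≫ kB from hBp.w, Spec.map_comp_assoc,
        Scheme.fromSpecResidueField, ← hV.fromSpecStalk_eq_fromSpecStalk hs, IsAffineOpen.fromSpecStalk,
        ← Spec.map_comp_assoc]
      simp [ev, Spec.map_comp]
    let c : Spec BK ⟶ f₂.fiber s := pullback.lift (Spec.map iB ≫ hW.fromSpec) (Spec.map kB) hfac
    let d : Spec CK ⟶ pullback ψ (f₂.fiberι s) :=
      pullback.lift (Spec.map iC ≫ hW'.fromSpec) (Spec.map L ≫ c) (by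
        refine hbig.w.trans ((congrArg (Spec.map L ≫ ·) ?_).trans (Category.assoc _ _ _).symm)
        exact (pullback.lift_fst _ _ _).symm)
    have hd : IsPullback d (Spec.map L) (pullback.snd ψ (f₂.fiberι s)) c := by
      refine IsPullback.of_right ?_ (pullback.lift_snd _ _ _) (IsPullback.of_hasPullback ψ (f₂.fiberι s))
      have e1 : d ≫ pullback.fst ψ (f₂.fiberι s) = Spec.map iC ≫ hW'.fromSpec := pullback.lift_fst _ _ _
      have e2 : c ≫ f₂.fiberι s = Spec.map iB ≫ hW.fromSpec := pullback.lift_fst _ _ _
      rw [e1, e2]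
      exact hbig
    haveI := h s hdim
    haveI : IsIso (Spec.map L) := (MorphismProperty.isomorphisms Scheme).of_isPullback hd ‹_›
    have hLb : Function.Bijective L := isIso_SpecMap_iff.1 inferInstance
    have hl : ∀ x, (IsScalarTower.toAlgHom A B C).toLinearMap.baseChange k
        ((TensorProduct.comm A B k) x) = TensorProduct.comm A C k (L x) := by
      intro x
      induction x using TensorProduct.induction_on with
      | zero => simp
      | tmul y z => rfl
      | add x y hx hy => simp only [map_add, hx, hy]
    have h2 : ((IsScalarTower.toAlgHom A B C).toLinearMap.baseChange k : k ⊗[A] B → k ⊗[A] C) =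
        (TensorProduct.comm A C k) ∘ L ∘ (TensorProduct.comm A B k).symm := funext fun x => by
      rw [Function.comp_apply, Function.comp_apply, ← hl, LinearEquiv.apply_symm_apply]
    rw [h2]
    exact (LinearEquiv.bijective _).comp (hLb.comp (LinearEquiv.bijective _))
  haveI : IsIso b := (ConcreteCategory.isIso_iff_bijective b).2 key
  have hr : ψ ∣_ W = hW'.isoSpec.hom ≫ Spec.map b ≫ hW.isoSpec.inv := by
    rw [IsAffineOpen.isoSpec_hom, show b = ψ.appLE W (ψ ⁻¹ᵁ W) le_rfl from Scheme.Hom.app_eq_appLE ψ,
      Scheme.Opens.toSpecΓ_SpecMap_appLE_assoc, ← hW.isoSpec_hom, Iso.hom_inv_id, Category.comp_id,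
      Scheme.Hom.resLE_eq_morphismRestrict]
  rw [hr]
  infer_instance

end Groth.Agent.WildQuot51
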