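import Groth.Agent.WildQuot51.FamilyGalois

/-!
Invariants of the family under the automorphisms fixing a linear form in the generators.
-/

set_option autoImplicit false

universe u v w

namespace Groth.Agent.WildQuot51

open MvPolynomial Module

/-- A family of coefficients without common prime divisor detects divisibility. -/
theorem dvd_of_dvd_mul_pow {R : Type u} [CommRing R] [IsDomain R] [UniqueFactorizationMonoid R]
    {ι : Type v} (S : Finset ι) (w : ι → R)
    (hw : ∀ q, Prime q → ∃ i ∈ S, ¬ q ∣ w i) (d : ℕ) (r : R) :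
    r ≠ 0 → ∀ x, (∀ i ∈ S, r ∣ x * w i ^ d) → r ∣ x := by
  induction r using UniqueFactorizationMonoid.induction_on_prime with
  | h₁ => intro h; exact absurd rfl h
  | h₂ u hu => intro _ x _; exact hu.dvd
  | h₃ r q hr0 hq ih =>
    intro _ x hx
    obtain ⟨y, rfl⟩ := ih hr0 x fun i hi => (dvd_mul_left r q).trans (hx i hi)
    obtain ⟨i, hi, hqi⟩ := hw q hq
    obtain ⟨z, hz⟩ := hx i hi
    have h : q ∣ y * w i ^ d := ⟨z, mul_left_cancel₀ hr0 (by linear_combination hz)⟩
    rw [mul_comm q r]
    exact mul_dvd_mul_left r ((hq.dvd_or_dvd h).resolve_right fun h' => hqi (hq.dvd_of_dvd_pow h'))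

theorem coeff_linear_pow {R : Type u} [CommRing R] {n : ℕ} (w : Fin n → R) (i : Fin n) :
    ∀ j d : ℕ, coeff (Finsupp.single i d) ((∑ l, C (w l) * X l) ^ j) =
      if d = j then w i ^ j else 0 := by
  intro j
  induction j with
  | zero =>
    intro d
    rw [pow_zero, pow_zero, coeff_one]
    exact if_congr (by rw [eq_comm, Finsupp.single_eq_zero]) rfl rfl
  | succ j ih =>
    intro d
    rw [pow_succ, Finset.mul_sum, coeff_sum]
    simp_rw [mul_comm (C (w _)) (X _), ← mul_assoc, mul_comm _ (C (w _)), coeff_C_mul, coeff_mul_X']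
    rw [Finset.sum_eq_single i]
    · cases d with
      | zero => simp
      | succ d =>
        rw [if_pos (by simp), ← Finsupp.single_tsub, Nat.add_sub_cancel,
          ih, mul_ite, mul_zero, ← pow_succ']
        exact if_congr (by omega) rfl rfl
    · intro l _ hl
      rw [if_neg fun h => hl (Finset.mem_singleton.1 (Finsupp.support_single_subset h)), mul_zero]
    · simp

variable (p : ℕ) [hp : Fact p.Prime] {R : Type u} [CommRing R] {n : ℕ}

/-- The linear form in the generators. -/
noncomputable def famLin (β c : Fin n → R) (w : Fin n → R) : Fam p β c :=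
  ∑ l, algebraMap R _ (w l) * famU p β c l

theorem fam_smul (β c : Fin n → R) (r : R) (x : Fam p β c) : r • x = algebraMap R _ r * x :=
  Algebra.smul_def r x

theorem repr_mk (β c : Fin n → R) (B : Basis (Fin n → Fin p) R (Fam p β c))
    (hB : ∀ e, B e = famMono p β c e) (f : MvPolynomial (Fin n) R)
    (hf : ∀ m ∈ f.support, ∀ i, m i < p) (e : Fin n → Fin p) :
    B.repr (Ideal.Quotient.mk (famIdeal p β c) f) e =
      coeff (Finsupp.equivFunOnFinite.symm fun i => (e i : ℕ)) f := by
  classical
  let φ : (Fam p β c) →ₗ[R] R := (Finsupp.lapply e).comp B.repr.toLinearMap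
  show φ (Ideal.Quotient.mk _ f) = _
  conv_lhs => rw [f.as_sum, map_sum, map_sum]
  rw [Finset.sum_eq_single (Finsupp.equivFunOnFinite.symm fun i => (e i : ℕ))]
  · by_cases hm : (Finsupp.equivFunOnFinite.symm fun i => (e i : ℕ)) ∈ f.support
    · rw [monomial_eq, map_mul]
      have h1 : Ideal.Quotient.mk (famIdeal p β c)
          (Finsupp.prod (Finsupp.equivFunOnFinite.symm fun i => (e i : ℕ))
            fun i k => (X i : MvPolynomial (Fin n) R) ^ k) = B e := by
        rw [hB, famMono, Finsupp.prod_fintype _ _ (fun i => pow_zero _), map_prod]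
        exact Finset.prod_congr rfl fun i _ => by rw [map_pow]; rfl
      rw [h1]
      have h2 : ∀ r : R, Ideal.Quotient.mk (famIdeal p β c) (C r) * B e = r • B e := fun r => by
        rw [fam_smul]; rfl
      rw [h2, map_smul]
      simp [φ]
    · rw [notMem_support_iff.1 hm, monomial_zero, map_zero, map_zero]
  · intro m hm hne
    let e' : Fin n → Fin p := fun i => ⟨m i, hf m hm i⟩
    have hem : (Finsupp.equivFunOnFinite.symm fun i => (e' i : ℕ)) = m := Finsupp.ext fun i => rfl
    have hee : e' ≠ e := fun h => hne (by rw [← hem, h])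
    rw [monomial_eq, map_mul]
    have h1 : Ideal.Quotient.mk (famIdeal p β c)
        (Finsupp.prod m fun i k => (X i : MvPolynomial (Fin n) R) ^ k) = B e' := by
      rw [hB, famMono, Finsupp.prod_fintype _ _ (fun i => pow_zero _), map_prod]
      exact Finset.prod_congr rfl fun i _ => map_pow _ _ _
    have h2 : ∀ r : R, Ideal.Quotient.mk (famIdeal p β c) (C r) * B e' = r • B e' := fun r => by
      rw [fam_smul]; rfl
    rw [h1, h2, map_smul]
    simp [φ, hee]
  · intro hm
    rw [notMem_support_iff.1 hm, monomial_zero, map_zero, map_zero]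

theorem repr_lin_pow (β c w : Fin n → R) (B : Basis (Fin n → Fin p) R (Fam p β c))
    (hB : ∀ e, B e = famMono p β c e) (i : Fin n) (d : Fin p) (j : ℕ) (hj : j < p) :
    B.repr (famLin p β c w ^ j) (Function.update (fun _ => ⟨0, hp.out.pos⟩) i d) =
      if (d : ℕ) = j then w i ^ j else 0 := by
  classical
  let f : MvPolynomial (Fin n) R := (∑ l, C (w l) * X l) ^ j
  have hz : famLin p β c w ^ j = Ideal.Quotient.mk (famIdeal p β c) f := by
    rw [map_pow, map_sum]
    exact congrArg (· ^ j) (Finset.sum_congr rfl fun l _ => by rw [map_mul]; rfl)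
  have hdeg : f.totalDegree ≤ j := by
    refine (totalDegree_pow _ _).trans ?_
    refine (Nat.mul_le_mul_left j (totalDegree_finsetSum_le (d := 1) fun l _ => ?_)).trans (mul_one j).le
    refine (totalDegree_mul _ _).trans ?_
    rw [totalDegree_C, zero_add]
    exact (totalDegree_monomial_le _ _).trans (by simp)
  rw [hz, repr_mk p β c B hB f (fun m hm l => ?_), ← coeff_linear_pow w i j d]
  · refine congrArg (fun m => coeff m f) (Finsupp.ext fun l => ?_)
    show ((Function.update (fun _ => (⟨0, hp.out.pos⟩ : Fin p)) i d l : Fin p) : ℕ) = _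
    rw [Finsupp.single_apply]
    by_cases h : i = l
    · subst h; simp
    · rw [if_neg h, Function.update_of_ne (Ne.symm h)]
  · refine lt_of_le_of_lt ?_ hj
    refine le_trans ?_ ((le_totalDegree hm).trans hdeg)
    by_cases hml : m l = 0
    · omega
    · exact Finset.single_le_sum (fun a _ => Nat.zero_le (m a)) (Finsupp.mem_support_iff.2 hml)

section Invariants

variable [IsDomain R] [CharP R p] (a c : Fin n → R)

local notation "𝔸" => Fam p (fun i => a i ^ (p - 1)) c
local notation "β'" => fun i => a i ^ (p - 1)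

variable [IsDomain (Fam p (fun i => a i ^ (p - 1)) c)] (ha : ∀ i, a i ≠ 0)
  (w : Fin n → R) (δ γ : R)

theorem aeval_famLin_eq_zero
    (hf : famLin p β' c w ^ p = algebraMap R 𝔸 δ * famLin p β' c w + algebraMap R 𝔸 γ) :
    Polynomial.aeval (famLin p β' c w)
      (Polynomial.X ^ p - Polynomial.C δ * Polynomial.X - Polynomial.C γ) = 0 := by
  simp [hf]

omit hp in
theorem linPoly_monic (hp2 : 2 ≤ p) :
    (Polynomial.X ^ p - Polynomial.C δ * Polynomial.X - Polynomial.C γ : Polynomial R).Monic ∧
      (Polynomial.X ^ p - Polynomial.C δ * Polynomial.X - Polynomial.C γ : Polynomial R).natDegree = p := by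
  have hdeg : (Polynomial.C δ * Polynomial.X + Polynomial.C γ).natDegree < p :=
    lt_of_le_of_lt Polynomial.natDegree_linear_le hp2
  rw [sub_sub]
  refine ⟨Polynomial.monic_X_pow_sub (lt_of_le_of_lt Polynomial.degree_le_natDegree
    (by exact_mod_cast hdeg)), ?_⟩
  rw [Polynomial.natDegree_sub_eq_left_of_natDegree_lt (by rw [Polynomial.natDegree_X_pow]; exact hdeg),
    Polynomial.natDegree_X_pow]

theorem repr_aeval_lin (B : Basis (Fin n → Fin p) R 𝔸) (hB : ∀ e, B e = famMono p β' c e)
    (g : Polynomial R) (hg : g.natDegree < p) (i : Fin n) (d : Fin p) :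
    B.repr (Polynomial.aeval (famLin p β' c w) g) (Function.update (fun _ => ⟨0, hp.out.pos⟩) i d) =
      g.coeff d * w i ^ (d : ℕ) := by
  rw [Polynomial.aeval_eq_sum_range' hg, map_sum, Finsupp.finsetSum_apply,
    Finset.sum_eq_single (d : ℕ)]
  · rw [map_smul, Finsupp.smul_apply, repr_lin_pow p β' c w B hB i d d d.2, if_pos rfl, smul_eq_mul]
  · intro j hj hne
    rw [map_smul, Finsupp.smul_apply, repr_lin_pow p β' c w B hB i d j (Finset.mem_range.1 hj),
      if_neg (Ne.symm hne), smul_zero]
  · intro h; exact absurd (Finset.mem_range.2 d.2) h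

/-- The kernel of evaluation at the linear form. -/
theorem ker_aeval_lin (i₀ : Fin n) (hi₀ : w i₀ ≠ 0)
    (hf : famLin p β' c w ^ p = algebraMap R 𝔸 δ * famLin p β' c w + algebraMap R 𝔸 γ) :
    RingHom.ker (Polynomial.aeval (famLin p β' c w) : Polynomial R →ₐ[R] 𝔸) =
      Ideal.span {Polynomial.X ^ p - Polynomial.C δ * Polynomial.X - Polynomial.C γ} := by
  obtain ⟨hmon, hnd⟩ := linPoly_monic p δ γ hp.out.two_le
  obtain ⟨B, hB⟩ := exists_famBasis p β' c hp.out.two_le
  refine le_antisymm (fun g hg => ?_) ((Ideal.span_singleton_le_iff_mem _).2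
    (aeval_famLin_eq_zero p a c w δ γ hf))
  have hg : Polynomial.aeval (famLin p β' c w) g = 0 := hg
  rw [Ideal.mem_span_singleton, ← Polynomial.modByMonic_eq_zero_iff_dvd hmon]
  set q := g %ₘ (Polynomial.X ^ p - Polynomial.C δ * Polynomial.X - Polynomial.C γ)
  have hq : q.natDegree < p := hnd.symm.trans_gt (Polynomial.natDegree_modByMonic_lt _ hmon
    (fun h => by rw [h, Polynomial.natDegree_one] at hnd; exact hp.out.ne_zero hnd.symm))
  have hqz : Polynomial.aeval (famLin p β' c w) q = 0 := by
    rw [Polynomial.aeval_modByMonic_eq_self_of_root (aeval_famLin_eq_zero p a c w δ γ hf), hg]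
  ext j
  rw [Polynomial.coeff_zero]
  by_cases hj : j < p
  · have h := repr_aeval_lin p a c w B hB q hq i₀ ⟨j, hj⟩
    rw [hqz, map_zero, Finsupp.zero_apply] at h
    exact (mul_eq_zero.1 h.symm).resolve_right (pow_ne_zero _ hi₀)
  · exact Polynomial.coeff_eq_zero_of_natDegree_lt (by omega)

include ha in
/-- An element fixed by the automorphisms fixing the linear form is a polynomial in it. -/
theorem mem_range_of_fixed [UniqueFactorizationMonoid R] (S : Finset (Fin n))
    (hw : ∀ q, Prime q → ∃ i ∈ S, ¬ q ∣ w i)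
    (hf : famLin p β' c w ^ p = algebraMap R 𝔸 δ * famLin p β' c w + algebraMap R 𝔸 γ)
    (t : 𝔸) (ht : ∀ σ : 𝔸 ≃ₐ[R] 𝔸, σ (famLin p β' c w) = famLin p β' c w → σ t = t) :
    t ∈ (Polynomial.aeval (famLin p β' c w) : Polynomial R →ₐ[R] 𝔸).range := by
  obtain ⟨hfree, hfin, hrk⟩ := fam_finite_free p β' c hp.out.two_le
  obtain ⟨hmon, hnd⟩ := linPoly_monic p δ γ hp.out.two_le
  obtain ⟨B, hB⟩ := exists_famBasis p β' c hp.out.two_le
  let z := famLin p β' c w
  let K := FractionRing R
  let L := FractionRing 𝔸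
  letI := FractionRing.liftAlgebra R L
  haveI : Algebra.IsIntegral R 𝔸 := Algebra.IsIntegral.of_finite R 𝔸
  haveI : FiniteDimensional K L := Module.Finite.of_isLocalization R 𝔸 (nonZeroDivisors R)
  let Ext : (𝔸 ≃ₐ[R] 𝔸) → (L ≃ₐ[K] L) := fun σ => IsFractionRing.fieldEquivOfAlgEquiv K L L σ
  have hExt : Function.Injective Ext := fun σ τ h => AlgEquiv.ext fun x =>
    IsFractionRing.injective 𝔸 L (by
      rw [← IsFractionRing.fieldEquivOfAlgEquiv_algebraMap K L L σ x,
        ← IsFractionRing.fieldEquivOfAlgEquiv_algebraMap K L L τ x]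
      exact AlgEquiv.congr_fun h _)
  have hrkL : finrank K L = p ^ n := by rw [IsFractionRing.finrank_eq R K 𝔸 L, hrk]
  have hcard : Nat.card (L ≃ₐ[K] L) ≤ finrank K L := by
    rw [Nat.card_eq_fintype_card]; exact AlgEquiv.card_le
  have hge : finrank K L ≤ Nat.card (L ≃ₐ[K] L) := by
    rw [hrkL, ← (famAut_group p a c ha).1]
    exact Nat.card_le_card_of_injective Ext hExt
  have heq := le_antisymm hcard hge
  haveI : IsGalois K L := IsGalois.of_card_aut_eq_finrank K L heq
  have hsurj : Function.Surjective Ext :=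
    ((Nat.bijective_iff_injective_and_card Ext).2
      ⟨hExt, by rw [(famAut_group p a c ha).1, heq, hrkL]⟩).2
  let F : IntermediateField K L := IntermediateField.adjoin K {algebraMap 𝔸 L z}
  have htF : algebraMap 𝔸 L t ∈ F := by
    rw [← IsGalois.fixedField_fixingSubgroup F, IntermediateField.mem_fixedField_iff]
    intro f hf'
    obtain ⟨σ, rfl⟩ := hsurj f
    have hσz : σ z = z := IsFractionRing.injective 𝔸 L
      ((IsFractionRing.fieldEquivOfAlgEquiv_algebraMap K L L σ z).symm.trans
        ((IntermediateField.mem_fixingSubgroup_iff F _).1 hf' _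
          (IntermediateField.mem_adjoin_simple_self K _)))
    exact (IsFractionRing.fieldEquivOfAlgEquiv_algebraMap K L L σ t).trans (congrArg _ (ht σ hσz))
  rw [← IntermediateField.mem_toSubalgebra, IntermediateField.adjoin_simple_toSubalgebra_of_isAlgebraic
    (Algebra.IsAlgebraic.isAlgebraic _), Algebra.adjoin_singleton_eq_range_aeval] at htF
  obtain ⟨P, hP⟩ := htF
  obtain ⟨r, hr⟩ := IsLocalization.integerNormalization_map_to_map (nonZeroDivisors R) P
  have hr0 : (r : R) ≠ 0 := nonZeroDivisors.coe_ne_zero r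
  set g := IsLocalization.integerNormalization (nonZeroDivisors R) P
  have hgt : Polynomial.aeval z g = algebraMap R 𝔸 r * t := IsFractionRing.injective 𝔸 L (by
    rw [← Polynomial.aeval_algebraMap_apply, ← Polynomial.aeval_map_algebraMap K, hr, map_mul,
      ← IsScalarTower.algebraMap_apply R 𝔸 L, ← hP, ← Algebra.smul_def]
    exact map_smul ((Polynomial.aeval (algebraMap 𝔸 L z)).restrictScalars R) (r : R) P)
  set q := g %ₘ (Polynomial.X ^ p - Polynomial.C δ * Polynomial.X - Polynomial.C γ)
  have hq : q.natDegree < p := hnd.symm.trans_gt (Polynomial.natDegree_modByMonic_lt _ hmon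
    (fun h => by rw [h, Polynomial.natDegree_one] at hnd; exact hp.out.ne_zero hnd.symm))
  have hqt : Polynomial.aeval z q = algebraMap R 𝔸 r * t := by
    rw [Polynomial.aeval_modByMonic_eq_self_of_root (aeval_famLin_eq_zero p a c w δ γ hf), hgt]
  have hdiv : ∀ j, (r : R) ∣ q.coeff j := by
    intro j
    by_cases hj : j < p
    · refine dvd_of_dvd_mul_pow S w hw j _ hr0 _ fun i _ => ?_
      rw [← repr_aeval_lin p a c w B hB q hq i ⟨j, hj⟩, hqt]
      have : algebraMap R 𝔸 r * t = (r : R) • t := (fam_smul p _ c _ t).symm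
      rw [this, map_smul, Finsupp.smul_apply, smul_eq_mul]
      exact dvd_mul_right _ _
    · rw [Polynomial.coeff_eq_zero_of_natDegree_lt (by omega)]; exact dvd_zero _
  obtain ⟨q', hq'⟩ : Polynomial.C (r : R) ∣ q := (Polynomial.C_dvd_iff_dvd_coeff _ _).2 hdiv
  refine ⟨q', mul_left_cancel₀ ?_ (hqt ▸ ?_ : algebraMap R 𝔸 r * _ = algebraMap R 𝔸 r * t)⟩
  · exact (map_ne_zero_iff _ ((faithfulSMul_iff_algebraMap_injective R 𝔸).1 inferInstance)).2 hr0
  · rw [hq', map_mul, Polynomial.aeval_C]; rfl

end Invariants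

end Groth.Agent.WildQuot51
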