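import Mathlib

/-!
Automorphisms of order `p` of `k[[u]]`: orders of displacements and the ramification break.
-/

set_option autoImplicit false

universe u v w

namespace Groth.Agent.WildQuot51

open PowerSeries

variable {k : Type u} [Field k]

/-- `x` has order exactly `j`. -/
def HasOrd (x : k⟦X⟧) (j : ℕ) : Prop := ∃ w : k⟦X⟧, IsUnit w ∧ x = X ^ j * w

namespace HasOrd

theorem order_eq {x : k⟦X⟧} {j : ℕ} (h : HasOrd x j) : x.order = (j : ℕ∞) := by
  obtain ⟨w, hw, rfl⟩ := h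
  rw [order_mul, order_X_pow, order_zero_of_unit hw, add_zero]

theorem unique {x : k⟦X⟧} {i j : ℕ} (h : HasOrd x i) (h' : HasOrd x j) : i = j := by
  exact_mod_cast h.order_eq.symm.trans h'.order_eq

theorem ne_zero {x : k⟦X⟧} {j : ℕ} (h : HasOrd x j) : x ≠ 0 := fun h0 => by
  have := h.order_eq
  rw [h0, order_zero] at this
  exact ENat.coe_ne_top j this.symm

theorem of_ne_zero {x : k⟦X⟧} (h : x ≠ 0) : ∃ j, HasOrd x j := by
  refine ⟨x.order.toNat, divXPowOrder x, ?_, X_pow_order_mul_divXPowOrder.symm⟩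
  rw [isUnit_iff_constantCoeff, isUnit_iff_ne_zero, Ne, constantCoeff_divXPowOrder_eq_zero_iff]
  exact h

theorem of_order {x : k⟦X⟧} {j : ℕ} (h : x.order = (j : ℕ∞)) : HasOrd x j := by
  obtain ⟨i, hi⟩ := of_ne_zero (x := x) fun h0 => by rw [h0, order_zero] at h; exact ENat.coe_ne_top j h.symm
  rwa [show j = i by exact_mod_cast h.symm.trans hi.order_eq]

theorem mul {x y : k⟦X⟧} {i j : ℕ} (h : HasOrd x i) (h' : HasOrd y j) : HasOrd (x * y) (i + j) := by
  obtain ⟨w, hw, rfl⟩ := h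
  obtain ⟨w', hw', rfl⟩ := h'
  exact ⟨w * w', hw.mul hw', by ring⟩

theorem pow {x : k⟦X⟧} {i : ℕ} (h : HasOrd x i) (n : ℕ) : HasOrd (x ^ n) (i * n) := by
  obtain ⟨w, hw, rfl⟩ := h
  exact ⟨w ^ n, hw.pow n, by ring⟩

theorem neg {x : k⟦X⟧} {i : ℕ} (h : HasOrd x i) : HasOrd (-x) i := by
  obtain ⟨w, hw, rfl⟩ := h
  exact ⟨-w, hw.neg, by ring⟩

theorem of_isUnit {x : k⟦X⟧} (h : IsUnit x) : HasOrd x 0 := ⟨x, h, by rw [pow_zero, one_mul]⟩

theorem of_X : HasOrd (X : k⟦X⟧) 1 := ⟨1, isUnit_one, by rw [pow_one, mul_one]⟩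

theorem add_dvd {x y : k⟦X⟧} {i : ℕ} (h : HasOrd x i) (h' : X ^ (i + 1) ∣ y) : HasOrd (x + y) i := by
  obtain ⟨w, hw, rfl⟩ := h
  obtain ⟨z, rfl⟩ := h'
  refine ⟨w + X * z, ?_, by rw [pow_succ]; ring⟩
  rw [isUnit_iff_constantCoeff] at hw ⊢
  simpa using hw

theorem dvd_iff {x : k⟦X⟧} {i j : ℕ} (h : HasOrd x j) : X ^ i ∣ x ↔ i ≤ j := by
  refine ⟨fun ⟨z, hz⟩ => ?_, fun hij => ?_⟩
  · obtain ⟨l, hl⟩ := of_ne_zero (x := z) fun hz0 => h.ne_zero (by rw [hz, hz0, mul_zero])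
    have := h.unique (hz ▸ (of_X.pow i).mul hl)
    omega
  · obtain ⟨w, -, rfl⟩ := h
    exact Dvd.dvd.mul_right (pow_dvd_pow X hij) w

end HasOrd

variable (p : ℕ) [hp : Fact p.Prime] [CharP k p] (σ : k⟦X⟧ ≃ₐ[k] k⟦X⟧)

theorem dvd_smul_iff (i : ℕ) {y : k⟦X⟧} (h : X ^ i ∣ y) : X ^ i ∣ σ y := by
  obtain ⟨z, rfl⟩ := h
  rw [map_mul, map_pow]
  refine Dvd.dvd.mul_right (pow_dvd_pow_of_dvd ?_ i) _
  rw [X_dvd_iff]
  by_contra h0
  have hu : IsUnit (σ X) := isUnit_iff_constantCoeff.2 (isUnit_iff_ne_zero.2 h0)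
  have := hu.map σ.symm
  rw [AlgEquiv.symm_apply_apply] at this
  exact X_prime.not_unit this

theorem hasOrd_smul {x : k⟦X⟧} {j : ℕ} (h : HasOrd x j) : HasOrd (σ x) j := by
  obtain ⟨l, hl⟩ := HasOrd.of_ne_zero (x := σ x) ((map_ne_zero_iff σ σ.injective).2 h.ne_zero)
  have h1 : j ≤ l := (HasOrd.dvd_iff hl).1 (dvd_smul_iff σ j ((HasOrd.dvd_iff h).2 le_rfl))
  have h2 : l ≤ j := by
    have := dvd_smul_iff σ.symm l ((HasOrd.dvd_iff hl).2 le_rfl)
    rw [AlgEquiv.symm_apply_apply] at this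
    exact (HasOrd.dvd_iff h).1 this
  rwa [le_antisymm h1 h2]

variable (m : ℕ) (hm : HasOrd (σ X - X) (m + 1))

include hm in
/-- All displacements are divisible by that of the variable. -/
theorem dvd_displacement (x : k⟦X⟧) : X ^ (m + 1) ∣ σ x - x := by
  have key : ∀ (N : ℕ) (x : k⟦X⟧), ∃ t, X ^ (m + 1) ∣ σ t - t ∧ X ^ N ∣ x - t := by
    intro N
    induction N with
    | zero => exact fun x => ⟨0, by simp, by simp⟩
    | succ N ih =>
      intro x
      obtain ⟨y, hy⟩ : X ∣ x - C (constantCoeff x) := X_dvd_iff.2 (by simp)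
      obtain ⟨t, ht, htN⟩ := ih y
      refine ⟨C (constantCoeff x) + X * t, ?_, ?_⟩
      · rw [map_add, map_mul, show σ (C (constantCoeff x)) = C (constantCoeff x) from σ.commutes _,
          show C (constantCoeff x) + σ X * σ t - (C (constantCoeff x) + X * t) =
            (σ X - X) * σ t + X * (σ t - t) by ring]
        exact dvd_add (Dvd.dvd.mul_right ((HasOrd.dvd_iff hm).2 le_rfl) _) (Dvd.dvd.mul_left ht _)
      · rw [show x - (C (constantCoeff x) + X * t) = (x - C (constantCoeff x)) - X * t by ring, hy,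
          ← mul_sub, pow_succ']
        exact mul_dvd_mul_left X htN
  obtain ⟨t, ht, htN⟩ := key (m + 1) x
  rw [show σ x - x = (σ t - t) + (σ (x - t) - (x - t)) by rw [map_sub]; ring]
  exact dvd_add ht (dvd_sub (dvd_smul_iff σ _ htN) htN)

variable (hσp : σ ^ p = 1)

include hm hσp in
/-- The break is positive. -/
theorem break_pos : 0 < m := by
  refine Nat.pos_of_ne_zero fun h0 => ?_
  subst h0
  obtain ⟨w, hw, hwX⟩ : HasOrd (σ X) 1 := hasOrd_smul σ HasOrd.of_X
  rw [pow_one] at hwX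
  have hpow : ∀ i, ∃ z : k⟦X⟧, (σ ^ i) X = X * z ∧ constantCoeff z = constantCoeff w ^ i := by
    intro i
    induction i with
    | zero => exact ⟨1, by simp, by simp⟩
    | succ i ih =>
      obtain ⟨z, hz, hzc⟩ := ih
      refine ⟨w * σ z, ?_, ?_⟩
      · rw [pow_succ', AlgEquiv.mul_apply, hz, map_mul, hwX, mul_assoc]
      · have hd : X ∣ σ z - C (constantCoeff z) := by
          have h1 : X ∣ z - C (constantCoeff z) := X_dvd_iff.2 (by simp)
          have h2 := dvd_smul_iff σ 1 (y := z - C (constantCoeff z)) (by rwa [pow_one])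
          rwa [map_sub, show σ (C (constantCoeff z)) = C (constantCoeff z) from σ.commutes _, pow_one] at h2
        have h3 : constantCoeff (σ z) = constantCoeff z := by
          have := X_dvd_iff.1 hd
          rwa [map_sub, constantCoeff_C, sub_eq_zero] at this
        rw [map_mul, h3, hzc, pow_succ']
  obtain ⟨z, hz, hzc⟩ := hpow p
  rw [hσp, AlgEquiv.one_apply] at hz
  have hz1 : z = 1 := mul_left_cancel₀ X_ne_zero (by rw [mul_one]; exact hz.symm)
  rw [hz1, map_one] at hzc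
  have hc : constantCoeff w = 1 := by
    have : (constantCoeff w - 1) ^ p = 0 := by rw [sub_pow_char, ← hzc, one_pow, sub_self]
    exact sub_eq_zero.1 (eq_zero_of_pow_eq_zero this)
  have : X ^ 2 ∣ σ X - X := by
    obtain ⟨y, hy⟩ : X ∣ w - 1 := X_dvd_iff.2 (by simp [hc])
    exact ⟨y, by rw [hwX, show X * w - X = X * (w - 1) by ring, hy]; ring⟩
  have := (HasOrd.dvd_iff hm).1 this
  omega

include hm hσp in
/-- The displacement of an element of order `j`. -/
theorem displacement_ord {x : k⟦X⟧} {j : ℕ} (hx : HasOrd x j) :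
    (¬ p ∣ j → HasOrd (σ x - x) (j + m)) ∧ (p ∣ j → X ^ (j + m + 1) ∣ σ x - x) := by
  have hm0 := break_pos p σ m hm hσp
  haveI : CharP k⟦X⟧ p := charP_of_injective_ringHom (f := (PowerSeries.C : k →+* k⟦X⟧)) PowerSeries.C_injective p
  obtain ⟨v, hv, rfl⟩ := hx
  obtain ⟨δ, hδ, hδe⟩ := hm
  have hσX : σ X = X * (1 + X ^ m * δ) := by rw [sub_eq_iff_eq_add] at hδe; rw [hδe]; ring
  set e := X ^ m * δ
  have he : X ^ m ∣ e := dvd_mul_right _ _
  have hbin : ∀ i : ℕ, X ^ (m + 1) ∣ (1 + e) ^ i - 1 - (i : k⟦X⟧) * e := by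
    intro i
    induction i with
    | zero => simp
    | succ i ih =>
      have h2 : X ^ (m + 1) ∣ e * e := dvd_trans (pow_dvd_pow X (by omega : m + 1 ≤ m + m))
        (by rw [pow_add]; exact mul_dvd_mul he he)
      rw [show (1 + e) ^ (i + 1) - 1 - ((i + 1 : ℕ) : k⟦X⟧) * e =
        ((1 + e) ^ i - 1 - (i : k⟦X⟧) * e) * (1 + e) + (i : k⟦X⟧) * (e * e) by push_cast; ring]
      exact dvd_add (Dvd.dvd.mul_right ih _) (Dvd.dvd.mul_left h2 _)
  have hsecond : X ^ (j + m + 1) ∣ X ^ j * (1 + e) ^ j * (σ v - v) := by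
    rw [add_assoc, pow_add, mul_assoc]
    exact mul_dvd_mul_left _ (Dvd.dvd.mul_left (dvd_displacement σ m ⟨δ, hδ, hδe⟩ v) _)
  have hdiff : σ (X ^ j * v) - X ^ j * v =
      X ^ j * ((1 + e) ^ j - 1) * v + X ^ j * (1 + e) ^ j * (σ v - v) := by
    rw [map_mul, map_pow, hσX, mul_pow]; ring
  rw [hdiff]
  refine ⟨fun hj => ?_, fun hj => dvd_add ?_ hsecond⟩
  · refine HasOrd.add_dvd ?_ hsecond
    obtain ⟨c, hc⟩ := hbin j
    have hju : IsUnit (j : k⟦X⟧) := by
      rw [isUnit_iff_constantCoeff, map_natCast, isUnit_iff_ne_zero, Ne, CharP.cast_eq_zero_iff k p]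
      exact hj
    refine ⟨((j : k⟦X⟧) * δ + X * c) * v, ?_, ?_⟩
    · refine IsUnit.mul ?_ hv
      have hu := hju.mul hδ
      rw [isUnit_iff_constantCoeff] at hu ⊢
      simpa using hu
    · rw [show (1 + e) ^ j - 1 = (j : k⟦X⟧) * e + X ^ (m + 1) * c by rw [← hc]; ring]
      simp only [e]
      ring
  · obtain ⟨i, rfl⟩ := hj
    rw [mul_comm p i, pow_mul (1 + e), show ((1 + e) ^ i) ^ p - 1 = ((1 + e) ^ i - 1) ^ p by
      rw [sub_pow_char, one_pow]]
    rw [show i * p + m + 1 = i * p + (m + 1) by omega, pow_add]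
    refine Dvd.dvd.mul_right (mul_dvd_mul_left _ ?_) _
    refine dvd_trans (dvd_trans (pow_dvd_pow (X : k⟦X⟧) (?_ : m + 1 ≤ m * p)) (dvd_of_eq (pow_mul (X : k⟦X⟧) m p)))
      (pow_dvd_pow_of_dvd (show (X : k⟦X⟧) ^ m ∣ (1 + e) ^ i - 1 from ?_) p)
    · have := hp.out.two_le
      nlinarith
    · rw [show (1 + e) ^ i - 1 = ((1 + e) ^ i - 1 - (i : k⟦X⟧) * e) + (i : k⟦X⟧) * e by ring]
      exact dvd_add (dvd_trans (pow_dvd_pow X m.le_succ) (hbin i)) (Dvd.dvd.mul_left he _)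

include hm hσp in
/-- Invariant elements have order divisible by `p`. -/
theorem dvd_ord_of_fixed {x : k⟦X⟧} {j : ℕ} (hx : HasOrd x j) (hfix : σ x = x) : p ∣ j := by
  by_contra hj
  exact ((displacement_ord p σ m hm hσp hx).1 hj).ne_zero (by rw [hfix, sub_self])

include hσp in
/-- The norm of the variable. -/
theorem norm_X : σ (∏ i ∈ Finset.range p, (σ ^ i) X) = ∏ i ∈ Finset.range p, (σ ^ i) X ∧
    HasOrd (∏ i ∈ Finset.range p, (σ ^ i) X) p := by
  have hshift : ∀ i : ℕ, σ ((σ ^ i) X) = (σ ^ (i + 1)) X := fun i => by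
    rw [pow_succ', AlgEquiv.mul_apply]
  have hord : ∀ i : ℕ, HasOrd ((σ ^ i) X) 1 := fun i => hasOrd_smul (σ ^ i) HasOrd.of_X
  refine ⟨?_, ?_⟩
  · rw [map_prod]
    simp only [hshift]
    have h0 : (σ ^ 0) X ≠ 0 := (hord 0).ne_zero
    refine mul_right_cancel₀ h0 ?_
    rw [← Finset.prod_range_succ' (fun i => (σ ^ i) X), Finset.prod_range_succ, hσp, pow_zero]
  · have key : ∀ n, HasOrd (∏ i ∈ Finset.range n, (σ ^ i) X) n := by
      intro n
      induction n with
      | zero => simpa using HasOrd.of_isUnit isUnit_one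
      | succ n ih => rw [Finset.prod_range_succ]; exact ih.mul (hord n)
    exact key p

include hm hσp in
/-- An element moved by an invariant, of order prime to `p`. -/
theorem exists_translation : ∃ (w t : k⟦X⟧) (j : ℕ), HasOrd w j ∧ ¬ p ∣ j ∧ HasOrd t (j + m) ∧
    σ t = t ∧ σ w = w + t := by
  classical
  -- some element is moved by a nonzero invariant
  obtain ⟨w₀, t, ht0, htfix, hw₀⟩ : ∃ w t : k⟦X⟧, t ≠ 0 ∧ σ t = t ∧ σ w = w + t := by
    let D : Module.End k k⟦X⟧ := σ.toLinearMap - 1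
    have hD : D ^ p = 0 := by
      have hcomm : Commute σ.toLinearMap (1 : Module.End k k⟦X⟧) := Commute.one_right _
      have hpow : ∀ i : ℕ, (σ.toLinearMap : Module.End k k⟦X⟧) ^ i = (σ ^ i).toLinearMap := by
        intro i
        induction i with
        | zero => rfl
        | succ i ih => rw [pow_succ', pow_succ', ih]; rfl
      haveI : CharP (Module.End k k⟦X⟧) p :=
        charP_of_injective_ringHom (algebraMap k (Module.End k k⟦X⟧)).injective p
      simp only [D]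
      rw [sub_pow_char_of_commute (p := p) hcomm, one_pow, hpow, hσp]
      exact LinearMap.ext fun x => sub_self x
    have hX : D X ≠ 0 := fun h => hm.ne_zero h
    have hex : ∃ r, (D ^ (r + 1)) X = 0 := ⟨p - 1, by
      rw [Nat.sub_add_cancel hp.out.pos, hD]; rfl⟩
    obtain ⟨hr, hrmin⟩ := (Nat.find_eq_iff hex).1 rfl
    set r := Nat.find hex
    have hr0 : r ≠ 0 := fun h => hX (by rw [h, zero_add, pow_one] at hr; exact hr)
    obtain ⟨r', hr'⟩ := Nat.exists_eq_succ_of_ne_zero hr0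
    refine ⟨(D ^ r') X, (D ^ r) X, ?_, ?_, ?_⟩
    · rw [hr']
      exact hrmin r' (by omega)
    · rw [pow_succ', Module.End.mul_apply] at hr
      exact sub_eq_zero.1 hr
    · rw [hr', pow_succ', Module.End.mul_apply]
      simp [D]
  obtain ⟨jt, hjt⟩ := HasOrd.of_ne_zero ht0
  obtain ⟨hxfix, hxord⟩ := norm_X p σ hσp
  set x := ∏ i ∈ Finset.range p, (σ ^ i) X
  -- improve the order
  have key : ∀ (d : ℕ) (w : k⟦X⟧), σ w = w + t → ∀ j, HasOrd w j → jt ≤ j + d →
      ∃ (w : k⟦X⟧) (j : ℕ), HasOrd w j ∧ ¬ p ∣ j ∧ σ w = w + t := by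
    intro d
    induction d with
    | zero =>
      intro w hw j hj hle
      by_contra hc
      push Not at hc
      have hpj := Classical.byContradiction fun h => hc w j hj h hw
      have h := (displacement_ord p σ m hm hσp hj).2 hpj
      rw [hw, add_sub_cancel_left] at h
      have := (HasOrd.dvd_iff hjt).1 h
      omega
    | succ d ih =>
      intro w hw j hj hle
      by_cases hpj : p ∣ j
      · obtain ⟨i, rfl⟩ := hpj
        obtain ⟨v, hv, hwv⟩ := hj
        obtain ⟨v', hv', hxv⟩ := hxord.pow i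
        let c : k := constantCoeff v / constantCoeff v'
        have hw' : σ (w - C c * x ^ i) = (w - C c * x ^ i) + t := by
          rw [map_sub, map_mul, map_pow, show σ (C c) = C c from σ.commutes _, hxfix, hw]; ring
        have hne : w - C c * x ^ i ≠ 0 := fun h0 => ht0 (by
          rw [h0, map_zero, zero_add] at hw'; exact hw'.symm)
        obtain ⟨j', hj'⟩ := HasOrd.of_ne_zero hne
        refine ih _ hw' j' hj' ?_
        have hdiv : X ^ (p * i + 1) ∣ w - C c * x ^ i := by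
          rw [hwv, hxv, show X ^ (p * i) * v - C c * (X ^ (p * i) * v') = X ^ (p * i) * (v - C c * v') by ring,
            pow_succ]
          refine mul_dvd_mul_left _ (X_dvd_iff.2 ?_)
          have : constantCoeff v' ≠ 0 := isUnit_iff_ne_zero.1 (isUnit_iff_constantCoeff.1 hv')
          simp [c, div_mul_cancel₀ _ this]
        have := (HasOrd.dvd_iff hj').1 hdiv
        omega
      · exact ⟨w, j, hj, hpj, hw⟩
  have hw₀0 : w₀ ≠ 0 := fun h => ht0 (by rw [h, map_zero, zero_add] at hw₀; exact hw₀.symm)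
  obtain ⟨j₀, hj₀⟩ := HasOrd.of_ne_zero hw₀0
  obtain ⟨w, j, hj, hpj, hw⟩ := key jt w₀ hw₀ j₀ hj₀ (by omega)
  have hd := (displacement_ord p σ m hm hσp hj).1 hpj
  rw [hw, add_sub_cancel_left] at hd
  exact ⟨w, t, j, hj, hpj, hd, htfix, hw⟩

include hm hσp in
theorem dvd_break_succ_iff : p ∣ m + 1 ↔
    ∃ s a : k⟦X⟧, s.order = 1 ∧ σ a = a ∧ σ s = s + a := by
  constructor
  · rintro ⟨i, hi⟩
    obtain ⟨w, t, j, hw, -, ⟨v, hv, rfl⟩, htfix, hwt⟩ := exists_translation p σ m hm hσp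
    obtain ⟨hxfix, hxord⟩ := norm_X p σ hσp
    set x := ∏ l ∈ Finset.range p, (σ ^ l) X
    obtain ⟨v₁, hv₁, hwv⟩ := hw
    obtain ⟨v₂, hv₂, hxv⟩ := hxord.pow i
    obtain ⟨e, he⟩ := hv.exists_right_inv
    refine ⟨X * (v₁ * v₂ * e), x ^ i, ?_, by rw [map_pow, hxfix], ?_⟩
    · exact HasOrd.order_eq (j := 1) ⟨v₁ * v₂ * e, (hv₁.mul hv₂).mul
        (IsUnit.of_mul_eq_one v (by rw [mul_comm]; exact he)), by rw [pow_one]⟩
    · have hne : (X ^ (j + m) * v : k⟦X⟧) ≠ 0 := mul_ne_zero (pow_ne_zero _ X_ne_zero) hv.ne_zero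
      have hs : X ^ (j + m) * v * (X * (v₁ * v₂ * e)) = w * x ^ i := by
        rw [hwv, hxv, ← hi]
        linear_combination (X ^ (j + m + 1) * v₁ * v₂) * he
      have h := congrArg σ hs
      rw [map_mul σ (X ^ (j + m) * v), htfix, map_mul σ w, hwt, map_pow, hxfix] at h
      refine mul_left_cancel₀ hne ?_
      rw [h, mul_add (X ^ (j + m) * v), hs]
      ring
  · rintro ⟨s, a, hs, ha, hsa⟩
    have h := (displacement_ord p σ m hm hσp (HasOrd.of_order (j := 1) hs)).1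
      (fun h => hp.out.ne_one (Nat.dvd_one.1 h))
    rw [hsa, add_sub_cancel_left, add_comm] at h
    exact dvd_ord_of_fixed p σ m hm hσp h ha

include hm hσp in
/-- The conductor of an Artin–Schreier equation is the break. -/
theorem conductor_eq_break (f : k⟦X⟧) (hfσ : σ f = f) (hf0 : constantCoeff f ≠ 0)
    (μ : ℕ) (hμ : 0 < μ) (hpμ : ¬ p ∣ μ) (z : FractionRing k⟦X⟧)
    (hz : z ^ p - z = algebraMap k⟦X⟧ (FractionRing k⟦X⟧) f /
      algebraMap k⟦X⟧ (FractionRing k⟦X⟧) (∏ i ∈ Finset.range p, (σ ^ i) X) ^ μ) :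
    μ = m := by
  classical
  obtain ⟨hxfix, hxord⟩ := norm_X p σ hσp
  haveI : CharP k⟦X⟧ p := charP_of_injective_ringHom (f := (PowerSeries.C : k →+* k⟦X⟧)) PowerSeries.C_injective p
  set x := ∏ i ∈ Finset.range p, (σ ^ i) X
  let K := FractionRing k⟦X⟧
  let ι := algebraMap k⟦X⟧ K
  have hι : Function.Injective ι := IsFractionRing.injective _ K
  have hιx : ι x ≠ 0 := (map_ne_zero_iff _ hι).2 hxord.ne_zero
  obtain ⟨q, hq⟩ : ∃ q, p = q + 1 := ⟨p - 1, (Nat.sub_add_cancel hp.out.pos).symm⟩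
  have hint : IsIntegral k⟦X⟧ (z * ι x ^ μ) := by
    refine ⟨Polynomial.X ^ p -
      (Polynomial.C (x ^ (μ * q)) * Polynomial.X + Polynomial.C (f * x ^ (μ * q))),
      Polynomial.monic_X_pow_sub (lt_of_le_of_lt Polynomial.degree_linear_le
        (by exact_mod_cast hp.out.one_lt)), ?_⟩
    simp only [Polynomial.eval₂_sub, Polynomial.eval₂_add, Polynomial.eval₂_pow, Polynomial.eval₂_mul,
      Polynomial.eval₂_C, Polynomial.eval₂_X, map_mul, map_pow]
    have hz' : (z ^ p - z) * ι x ^ μ = ι f := by rw [hz]; exact div_mul_cancel₀ _ (pow_ne_zero _ hιx)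
    have hsplit : (ι x ^ μ) ^ p = ι x ^ (μ * q) * ι x ^ μ := by
      rw [← pow_mul, ← pow_add, hq, Nat.mul_succ]
    rw [mul_pow, hsplit]
    linear_combination (ι x ^ (μ * q)) * hz'
  obtain ⟨b, hb⟩ := IsIntegrallyClosed.isIntegral_iff.1 hint
  have hsplit : (x ^ μ) ^ p = x ^ (μ * q) * x ^ μ := by
    rw [← pow_mul, ← pow_add, hq, Nat.mul_succ]
  have hbeq : b ^ p - b * x ^ (μ * q) = f * x ^ (μ * q) := hι (by
    have hz' : (z ^ p - z) * ι x ^ μ = ι f := by rw [hz]; exact div_mul_cancel₀ _ (pow_ne_zero _ hιx)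
    have hsplit' := congrArg ι hsplit
    simp only [map_mul, map_pow, map_sub] at hsplit' ⊢
    rw [show ι b = z * ι x ^ μ from hb, mul_pow, hsplit']
    linear_combination (ι x ^ (μ * q)) * hz')
  have hxpow : HasOrd (x ^ (μ * q)) (p * (μ * q)) := hxord.pow _
  have hfu : HasOrd f 0 := HasOrd.of_isUnit (isUnit_iff_constantCoeff.2 (isUnit_iff_ne_zero.2 hf0))
  have hfx : HasOrd (f * x ^ (μ * q)) (p * (μ * q)) := by simpa using hfu.mul hxpow
  have hbne : b ≠ 0 := fun h0 => hfx.ne_zero (by rw [← hbeq, h0, zero_pow hp.out.ne_zero]; ring)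
  obtain ⟨jb, hjb⟩ := HasOrd.of_ne_zero hbne
  -- the order of the root
  have hjb' : jb = μ * q := by
    rcases Nat.lt_trichotomy jb (μ * q) with h | h | h
    · have h1 : HasOrd (b ^ p - b * x ^ (μ * q)) (jb * p) := by
        rw [sub_eq_add_neg]
        refine (hjb.pow p).add_dvd ((dvd_neg).2 ((HasOrd.dvd_iff (hjb.mul hxpow)).2 ?_))
        nlinarith [hp.out.pos]
      rw [hbeq] at h1
      have := h1.unique hfx
      nlinarith [hp.out.pos]
    · exact h
    · exfalso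
      have h1 : X ^ (p * (μ * q) + 1) ∣ b ^ p - b * x ^ (μ * q) :=
        dvd_sub ((HasOrd.dvd_iff (hjb.pow p)).2 (by nlinarith [hp.out.pos]))
          ((HasOrd.dvd_iff (hjb.mul hxpow)).2 (by omega))
      rw [hbeq] at h1
      have := (HasOrd.dvd_iff hfx).1 h1
      omega
  subst hjb'
  -- its translate
  have hσb : (σ b - b) ^ p = x ^ (μ * q) * (σ b - b) := by
    have h := congrArg σ hbeq
    rw [map_sub, map_pow, map_mul, map_mul, hfσ, map_pow, hxfix] at h
    rw [sub_pow_char]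
    linear_combination h - hbeq
  have hndvd : ¬ p ∣ μ * q := fun h => by
    rcases hp.out.dvd_mul.1 h with h | h
    · exact hpμ h
    · have := Nat.le_of_dvd (by have := hp.out.two_le; omega) h
      omega
  have hd := (displacement_ord p σ m hm hσp hjb).1 hndvd
  have := (hσb ▸ hd.pow p).unique (hxpow.mul hd)
  obtain rfl := hq
  have h2 : q * m = q * μ := by
    ring_nf at this ⊢
    omega
  have hq0 : 0 < q := by have := hp.out.two_le; omega
  exact (Nat.eq_of_mul_eq_mul_left hq0 h2).symm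

end Groth.Agent.WildQuot51
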