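import Mathlib
import Groth.Agent.WildQuot51.Ramified
import Groth.Agent.CAlg1.Serre

/-!
Off the closed point, the ring is flat over the invariants, so that the invariants are regular there.
-/

set_option autoImplicit false

universe u v w

namespace Groth.Agent.WildQuot51

open IsLocalRing Module

variable {A : Type u} [CommRing A] [IsLocalRing A] {G : Type w} [Group G] [Finite G]
  [MulSemiringAction G A]

/-- Galois data at a prime of the invariant ring other than the closed point. -/
theorem exists_galois_data
    (hram : ∀ P : Ideal A, P.IsPrime → P ≠ maximalIdeal A → P.inertia G = ⊥)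
    (P : Ideal (FixedPoints.subring A G)) [hP : P.IsPrime]
    (hPm : P ≠ Ideal.comap (FixedPoints.subring A G).subtype (maximalIdeal A)) :
    ∃ (N : FixedPoints.subring A G) (J : Finset A) (a : A → A), N ∉ P ∧
      ∀ g : G, (g = 1 → ∑ b ∈ J, a b * g • b = (N : A)) ∧ (g ≠ 1 → ∑ b ∈ J, a b * g • b = 0) := by
  classical
  have := Fintype.ofFinite G
  let ρ : A → (G → A) := fun b g => g • b
  let W : Submodule A (G → A) := Submodule.span A (Set.range ρ)
  have hmul : ∀ x ∈ W, ∀ y ∈ W, x * y ∈ W := by
    intro x hx y hy
    induction hx using Submodule.span_induction with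
    | mem x hx =>
      obtain ⟨b, rfl⟩ := hx
      induction hy using Submodule.span_induction with
      | mem y hy =>
        obtain ⟨b', rfl⟩ := hy
        exact Submodule.subset_span ⟨b * b', funext fun g => smul_mul' g b b'⟩
      | zero => rw [mul_zero]; exact zero_mem _
      | add y z _ _ h1 h2 => rw [mul_add]; exact add_mem h1 h2
      | smul c y _ h1 => rw [Algebra.mul_smul_comm]; exact Submodule.smul_mem _ _ h1
    | zero => rw [zero_mul]; exact zero_mem _
    | add x z _ _ h1 h2 => rw [add_mul]; exact add_mem h1 h2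
    | smul c x _ h1 => rw [Algebra.smul_mul_assoc]; exact Submodule.smul_mem _ _ h1
  have hone : (1 : G → A) ∈ W := Submodule.subset_span ⟨1, funext fun g => smul_one g⟩
  let E : Ideal A := W.comap (LinearMap.single A (fun _ : G => A) 1)
  have hE : ∀ Q : Ideal A, Q.IsPrime → Q ≠ maximalIdeal A → ¬ E ≤ Q := by
    intro Q hQ hQm hEQ
    have hc : ∀ h : G, h ≠ 1 → ∃ c : A, (1 : G) • c - h • c ∉ Q := fun h hh =>
      exists_smul_sub_notMem hram Q hQm (Ne.symm hh)
    choose c hc using hc
    let v : G → A := ∏ h : {h : G // h ≠ 1}, (ρ (c h h.2) - (h.1 • c h h.2) • ρ 1)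
    have hv : v ∈ W := Finset.prod_induction _ (fun x => x ∈ W) (fun x y hx hy => hmul x hx y hy) hone
      fun h _ => sub_mem (Submodule.subset_span ⟨_, rfl⟩)
        (Submodule.smul_mem _ _ (Submodule.subset_span ⟨_, rfl⟩))
    have hv1 : v = Pi.single 1 (v 1) := funext fun g => by
      by_cases hg : g = 1
      · subst hg; simp
      · rw [Pi.single_eq_of_ne hg]
        simp only [v]
        rw [Finset.prod_apply]
        exact Finset.prod_eq_zero (Finset.mem_univ ⟨g, hg⟩) (by simp [ρ])
    have h1 : v 1 ∈ Q := hEQ (show LinearMap.single A (fun _ : G => A) 1 (v 1) ∈ W by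
      rw [LinearMap.single_apply, ← hv1]; exact hv)
    simp only [v] at h1
    rw [Finset.prod_apply] at h1
    obtain ⟨h, -, hh⟩ := hQ.prod_mem_iff.1 h1
    exact hc h h.2 (by simpa [ρ] using hh)
  haveI := isIntegral_fixed A G
  obtain ⟨Q, -, hQ, hQP⟩ := Ideal.exists_ideal_over_prime_of_isIntegral (S := A) P ⊥
    (by rw [← RingHom.ker_eq_comap_bot,
      (RingHom.injective_iff_ker_eq_bot _).mp (Subtype.val_injective)]; exact bot_le)
  have hne : ∀ g : G, Q.comap (MulSemiringAction.toRingHom G A g) ≠ maximalIdeal A := fun g e => by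
    refine hPm ?_
    rw [← hQP]
    ext b
    show (b : A) ∈ Q ↔ (b : A) ∈ maximalIdeal A
    rw [← e, Ideal.mem_comap, MulSemiringAction.toRingHom_apply, b.2 g]
  obtain ⟨s, hsE, hs⟩ : ∃ s ∈ E, ∀ g : G, g • s ∉ Q := by
    by_contra hc
    push Not at hc
    have hsub : (E : Set A) ⊆ ⋃ g ∈ ((Finset.univ : Finset G) : Set G),
        (Q.comap (MulSemiringAction.toRingHom G A g) : Set A) := fun s hs => by
      obtain ⟨g, hg⟩ := hc s hs
      exact Set.mem_iUnion₂.2 ⟨g, Finset.mem_coe.2 (Finset.mem_univ g), hg⟩
    obtain ⟨g, -, hg⟩ := (Ideal.subset_union_prime 1 1 (fun g _ _ _ => Ideal.IsPrime.comap _)).1 hsub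
    exact hE _ (Ideal.IsPrime.comap _) (hne g) hg
  let N : (FixedPoints.subring A G) := ⟨∏ g : G, g • s, fun h => by
    rw [Finset.smul_prod']
    exact Fintype.prod_equiv (Equiv.mulLeft h) _ _ fun g => by simp [mul_smul]⟩
  have hN : N ∉ P := by
    rw [← hQP]
    intro hmem
    obtain ⟨g, -, hg⟩ := hQ.prod_mem_iff.1 (show ∏ g : G, g • s ∈ Q from hmem)
    exact hs g hg
  have hNE : (N : A) ∈ E := by
    show ∏ g : G, g • s ∈ E
    rw [← Finset.mul_prod_erase _ _ (Finset.mem_univ (1 : G)), one_smul]
    exact Ideal.mul_mem_right _ _ hsE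
  obtain ⟨c, hc⟩ := Finsupp.mem_span_range_iff_exists_finsupp.1
    (show LinearMap.single A (fun _ : G => A) 1 (N : A) ∈ W from hNE)
  have hsum : ∀ g : G, ∑ b ∈ c.support, c b * g • b = (Pi.single 1 (N : A) : G → A) g := fun g => by
    have h := congrFun hc g
    rw [Finsupp.sum, Finset.sum_apply, LinearMap.single_apply] at h
    simpa [ρ] using h
  exact ⟨N, c.support, fun b => c b, hN, fun g =>
    ⟨fun hg => by rw [hsum, hg, Pi.single_eq_same], fun hg => by rw [hsum, Pi.single_eq_of_ne hg]⟩⟩

/-- The invariant ring is regular off the closed point. -/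
theorem isRegularLocalRing_localization {A : Type u} [CommRing A] [IsRegularLocalRing A]
    [IsAdicComplete (maximalIdeal A) A] [MulSemiringAction G A]
    {k : Type v} [Field k] [Algebra k A]
    (hk : Function.Surjective (IsLocalRing.residue A ∘ algebraMap k A))
    (hGk : ∀ (σ : G) (c : k), σ • algebraMap k A c = algebraMap k A c)
    (hram : ∀ P : Ideal A, P.IsPrime → P ≠ maximalIdeal A → P.inertia G = ⊥)
    (P : Ideal (FixedPoints.subring A G)) [hP : P.IsPrime] (hPm : ¬ P.IsMaximal) :
    IsRegularLocalRing (Localization.AtPrime P) := by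
  classical
  have := Fintype.ofFinite G
  have hloc := isLocalRing_fixed A G
  obtain ⟨hNoeth, hfin, -⟩ := fixed_structure A G hk hGk
  haveI := isIntegral_fixed A G
  have hPm' : P ≠ Ideal.comap (FixedPoints.subring A G).subtype (maximalIdeal A) := fun e => hPm (by
    rw [e, ← maximalIdeal_fixed A G]; exact maximalIdeal.isMaximal (FixedPoints.subring A G))
  obtain ⟨N, J, a, hN, hdata⟩ := exists_galois_data hram P hPm'
  let M := P.primeCompl
  let BP := Localization.AtPrime P
  let AP := Localization (Algebra.algebraMapSubmonoid A M)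
  -- the trace maps
  let tr : A →ₗ[(FixedPoints.subring A G)] (FixedPoints.subring A G) :=
    { toFun := fun x => ⟨∑ g : G, g • x, fun h => by
        rw [Finset.smul_sum]
        exact Fintype.sum_equiv (Equiv.mulLeft h) _ _ fun g => by simp [mul_smul]⟩
      map_add' := fun x y => Subtype.ext (by simp [Finset.sum_add_distrib])
      map_smul' := fun b x => Subtype.ext (by
        simp only [Subring.smul_def, smul_eq_mul, RingHom.id_apply, Subring.coe_mul, smul_mul',
          Finset.mul_sum]
        exact Finset.sum_congr rfl fun g _ => by rw [b.2 g]) }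
  let f : A →ₗ[(FixedPoints.subring A G)] (J → (FixedPoints.subring A G)) := LinearMap.pi fun b => tr ∘ₗ LinearMap.mulLeft (FixedPoints.subring A G) (b : A)
  let g : (J → (FixedPoints.subring A G)) →ₗ[(FixedPoints.subring A G)] A := Fintype.linearCombination (FixedPoints.subring A G) fun b : J => a b
  have hgf : g ∘ₗ f = N • LinearMap.id := LinearMap.ext fun x => by
    show g (f x) = (N : A) * x
    rw [Fintype.linearCombination_apply]
    show ∑ b : J, (∑ h : G, h • ((b : A) * x)) * a b = (N : A) * x
    simp only [Finset.sum_mul, smul_mul']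
    rw [Finset.sum_comm]
    have : ∀ h : G, ∑ b : J, h • (b : A) * h • x * a b = (∑ b ∈ J, a b * h • b) * h • x := fun h => by
      rw [Finset.sum_mul, Finset.univ_eq_attach, ← Finset.sum_attach J (fun b => a b * h • b * h • x)]
      exact Finset.sum_congr rfl fun b _ => by ring
    simp only [this]
    rw [Finset.sum_eq_single (1 : G) (fun h _ hh => by rw [(hdata h).2 hh, zero_mul])
      (fun h => absurd (Finset.mem_univ _) h), (hdata 1).1 rfl, one_smul]
  let ιA : A →ₗ[(FixedPoints.subring A G)] AP := (IsScalarTower.toAlgHom (FixedPoints.subring A G) A AP).toLinearMap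
  let ιF := LocalizedModule.mkLinearMap M (J → (FixedPoints.subring A G))
  let fP := IsLocalizedModule.mapExtendScalars M ιA ιF BP f
  let gP := IsLocalizedModule.mapExtendScalars M ιF ιA BP g
  have hu : IsUnit (algebraMap (FixedPoints.subring A G) BP N) := IsLocalization.map_units BP (⟨N, hN⟩ : M)
  have hcomp : ∀ x : AP, gP (fP x) = algebraMap (FixedPoints.subring A G) BP N • x := by
    have h : (gP ∘ₗ fP).restrictScalars (FixedPoints.subring A G) = N • (LinearMap.id : AP →ₗ[(FixedPoints.subring A G)] AP) := by
      refine IsLocalizedModule.linearMap_ext M ιA ιA (LinearMap.ext fun x => ?_)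
      show IsLocalizedModule.map M ιF ιA g (IsLocalizedModule.map M ιA ιF f (ιA x)) = N • ιA x
      rw [IsLocalizedModule.map_apply, IsLocalizedModule.map_apply, ← map_smul]
      exact congrArg ιA (LinearMap.congr_fun hgf x)
    intro x
    rw [algebraMap_smul]
    exact LinearMap.congr_fun h x
  haveI hflatP : Module.Flat BP AP := by
    obtain ⟨u, hu⟩ := hu
    refine Module.Flat.of_retract (f := Module.Flat.localizedModule M) fP
      ((↑u⁻¹ : BP) • gP) (LinearMap.ext fun x => ?_)
    rw [LinearMap.comp_apply, LinearMap.smul_apply, hcomp, ← hu, smul_smul, Units.inv_mul, one_smul]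
    rfl
  haveI : Module.Flat (FixedPoints.subring A G) BP := IsLocalization.flat BP M
  haveI : Module.Flat (FixedPoints.subring A G) AP := Module.Flat.trans (FixedPoints.subring A G) BP AP
  -- localize further at a prime above
  obtain ⟨Q, -, hQ, hQP⟩ := Ideal.exists_ideal_over_prime_of_isIntegral (S := A) P ⊥
    (by rw [← RingHom.ker_eq_comap_bot,
      (RingHom.injective_iff_ker_eq_bot _).mp (Subtype.val_injective)]; exact bot_le)
  haveI : Q.LiesOver P := ⟨hQP.symm⟩
  let AQ := Localization.AtPrime Q
  have hle : Algebra.algebraMapSubmonoid A M ≤ Q.primeCompl := by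
    rintro _ ⟨b, hb, rfl⟩ hbQ
    exact hb (show b ∈ P by rw [← hQP]; exact hbQ)
  letI : Algebra AP AQ := IsLocalization.localizationAlgebraOfSubmonoidLe AP AQ _ _ hle
  haveI : IsScalarTower A AP AQ := IsLocalization.localization_isScalarTower_of_submonoid_le AP AQ _ _ hle
  haveI : IsScalarTower (FixedPoints.subring A G) AP AQ := IsScalarTower.of_algebraMap_eq fun b => by
    rw [IsScalarTower.algebraMap_apply (FixedPoints.subring A G) A AP, ← IsScalarTower.algebraMap_apply A AP AQ,
      ← IsScalarTower.algebraMap_apply (FixedPoints.subring A G) A AQ]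
  haveI : IsLocalization (Q.primeCompl.map (algebraMap A AP)) AQ :=
    IsLocalization.isLocalization_of_submonoid_le AP AQ _ _ hle
  haveI : Module.Flat AP AQ := IsLocalization.flat AQ (Q.primeCompl.map (algebraMap A AP))
  haveI : Module.Flat (FixedPoints.subring A G) AQ := Module.Flat.trans (FixedPoints.subring A G) AP AQ
  letI := Localization.AtPrime.algebraOfLiesOver P Q
  haveI : IsScalarTower (FixedPoints.subring A G) BP AQ := IsScalarTower.of_algebraMap_eq fun b => by
    rw [IsScalarTower.algebraMap_apply (FixedPoints.subring A G) A AQ]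
    exact (Localization.localRingHom_to_map P Q _ _ b).symm
  haveI : Module.Flat BP AQ := (Module.flat_iff_of_isLocalization (R := (FixedPoints.subring A G)) (S := BP) (M := AQ) M).2
    inferInstance
  haveI : IsLocalHom (algebraMap BP AQ) := Localization.isLocalHom_localRingHom P Q _ _
  haveI : IsNoetherianRing BP := IsLocalization.isNoetherianRing M _ hNoeth
  haveI : IsRegularLocalRing AQ := CAlg1.regular_localization A Q
  exact CAlg1.regular_of_flat BP AQ

end Groth.Agent.WildQuot51
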