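import Mathlib
import Groth.Agent.WildQuot51.Family

/-!
The fixed-point ideal of a translation of the family.
-/

set_option autoImplicit false

universe u v w

namespace Groth.Agent.WildQuot51

open MvPolynomial IsLocalRing Module

variable (p : ℕ) {R : Type u} [CommRing R] [IsRegularLocalRing R] {n : ℕ} (β c : Fin n → R)

/-- A translation moves every element inside the ideal of the translations, which it generates. -/
theorem displacement_ideal (a : Fin n → R) (σ : Fam p β c ≃ₐ[R] Fam p β c)
    (hσ : ∀ i, σ (famU p β c i) = famU p β c i + algebraMap R _ (a i)) :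
    Ideal.span (Set.range fun t : Fam p β c => σ t - t) =
      (Ideal.span (Set.range a)).map (algebraMap R (Fam p β c)) := by
  refine le_antisymm (Ideal.span_le.2 ?_) ?_
  · rintro _ ⟨t, rfl⟩
    obtain ⟨f, rfl⟩ := Ideal.Quotient.mk_surjective t
    induction f using MvPolynomial.induction_on with
    | C r =>
      rw [SetLike.mem_coe, show Ideal.Quotient.mk (famIdeal p β c) (C r) = algebraMap R (Fam p β c) r from rfl]
      simp only [AlgEquiv.commutes, sub_self]
      exact zero_mem _
    | add f g hf hg =>
      simp only [SetLike.mem_coe] at hf hg ⊢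
      rw [map_add, map_add, add_sub_add_comm]
      exact add_mem hf hg
    | mul_X f i hf =>
      simp only [SetLike.mem_coe] at hf ⊢
      rw [map_mul, map_mul]
      have h : ∀ x y : Fam p β c, σ x * (y + algebraMap R _ (a i)) - x * y =
          (σ x - x) * y + σ x * algebraMap R _ (a i) := fun x y => by ring
      rw [show σ (Ideal.Quotient.mk _ (X i)) = famU p β c i + algebraMap R _ (a i) from hσ i, h]
      exact add_mem (Ideal.mul_mem_right _ _ hf)
        (Ideal.mul_mem_left _ _ (Ideal.mem_map_of_mem _ (Ideal.subset_span ⟨i, rfl⟩)))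
  · rw [Ideal.map_span, ← Set.range_comp, Ideal.span_le]
    rintro _ ⟨i, rfl⟩
    exact Ideal.subset_span ⟨famU p β c i, by simp [hσ]⟩

/-- Lengths of extended quotients. -/
theorem length_quotient_map (hp : 2 ≤ p) (hn : ringKrullDim R = n)
    (hc : Ideal.span (Set.range c) = maximalIdeal R) (hβ : ∀ i, β i ∈ maximalIdeal R) (J : Ideal R) :
    Module.length (Fam p β c) (Fam p β c ⧸ J.map (algebraMap R (Fam p β c))) =
      (p ^ n : ℕ∞) * Module.length R (R ⧸ J) := by
  classical
  haveI := CAlg1.isDomain_regular R
  obtain ⟨hreg, hUmax, -⟩ := fam_regular p β c hp hn hc hβ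
  obtain ⟨hfree, hfin, hrk⟩ := fam_finite_free p β c hp
  haveI : Algebra.IsIntegral R (Fam p β c) := Algebra.IsIntegral.of_finite R _
  haveI : IsLocalHom (algebraMap R (Fam p β c)) := ⟨fun x hx => by
    by_contra h
    have hmax : ((maximalIdeal (Fam p β c)).comap (algebraMap R (Fam p β c))).IsMaximal :=
      Ideal.isMaximal_comap_of_isIntegral_of_isMaximal _
    exact (IsLocalRing.eq_maximalIdeal hmax).ge ((mem_maximalIdeal x).2 h) hx⟩
  have hres : Module.length (ResidueField R) (ResidueField (Fam p β c)) = 1 := by
    have hs : Function.Surjective (algebraMap (ResidueField R) (ResidueField (Fam p β c))) := by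
      intro q
      obtain ⟨t, rfl⟩ := IsLocalRing.residue_surjective q
      obtain ⟨f, rfl⟩ := Ideal.Quotient.mk_surjective t
      induction f using MvPolynomial.induction_on with
      | C r => exact ⟨residue R r, rfl⟩
      | add f g hf hg =>
        obtain ⟨x, hx⟩ := hf
        obtain ⟨y, hy⟩ := hg
        exact ⟨x + y, by rw [map_add, hx, hy, map_add, map_add]⟩
      | mul_X f i _ =>
        refine ⟨0, ?_⟩
        rw [map_zero, map_mul, map_mul]
        have : residue (Fam p β c) (famU p β c i) = 0 := (residue_eq_zero_iff _).2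
          ((IsLocalRing.eq_maximalIdeal hUmax).le (Ideal.subset_span ⟨i, rfl⟩))
        rw [show Ideal.Quotient.mk (famIdeal p β c) (X i) = famU p β c i from rfl, this, mul_zero]
    rw [Module.length_eq_of_surjective (M := ResidueField (Fam p β c)) hs]
    exact Module.length_eq_one_iff.mpr inferInstance
  have hlen := IsLocalRing.length_restrictScalars R (Fam p β c)
    (Fam p β c ⧸ J.map (algebraMap R (Fam p β c)))
  rw [hres, mul_one] at hlen
  rw [← hlen]
  let e := Module.finBasisOfFinrankEq R (Fam p β c) hrk
  let π : Fam p β c →ₗ[R] (Fin (p ^ n) → R ⧸ J) :=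
    LinearMap.pi fun i => (Submodule.mkQ J) ∘ₗ (LinearMap.proj i) ∘ₗ e.equivFun.toLinearMap
  have hπ : Function.Surjective π := fun y => by
    choose r hr using fun i => Submodule.mkQ_surjective J (y i)
    exact ⟨e.equivFun.symm r, funext fun i => by
      simp only [π, LinearMap.pi_apply, LinearMap.comp_apply, LinearEquiv.coe_coe,
        LinearEquiv.apply_symm_apply, LinearMap.proj_apply, hr]⟩
  have hker : LinearMap.ker π = (J.map (algebraMap R (Fam p β c))).restrictScalars R := by
    rw [← Ideal.smul_top_eq_map]
    refine le_antisymm (fun x hx => ?_) (Submodule.smul_le.2 fun r hr x _ => ?_)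
    · have h : ∀ i, e.equivFun x i ∈ J := fun i => (Submodule.Quotient.mk_eq_zero J).1 (congrFun hx i)
      rw [← e.sum_equivFun x]
      exact Submodule.sum_mem _ fun i _ => Submodule.smul_mem_smul (h i) Submodule.mem_top
    · refine LinearMap.mem_ker.2 (funext fun i => (Submodule.Quotient.mk_eq_zero J).2 ?_)
      simp only [LinearMap.comp_apply, LinearEquiv.coe_coe, map_smul, LinearMap.proj_apply,
        Pi.smul_apply, smul_eq_mul]
      exact Ideal.mul_mem_right _ _ hr
  let q : (Fam p β c ⧸ J.map (algebraMap R (Fam p β c))) ≃ₗ[R] (Fin (p ^ n) → R ⧸ J) :=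
    ((Submodule.Quotient.restrictScalarsEquiv R _).symm ≪≫ₗ Submodule.quotEquivOfEq _ _ hker.symm) ≪≫ₗ
      π.quotKerEquivOfSurjective hπ
  rw [q.length_eq, Module.length_pi_of_fintype]
  simp [Finset.sum_const, nsmul_eq_mul]

end Groth.Agent.WildQuot51
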