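import Mathlib
import Groth.Agent.CAlg4.ReducedCurve
import Groth.Agent.WildQuot51.Coprod

/-!
Finite group quotients `A / R` of normal domains with abelian group generated by subgroups `Gi i`,
at most one of which is ramified over each height-one prime: the invariant rings of the complements
generate.
-/

set_option autoImplicit false

universe u v w

namespace Groth.Agent.WildQuot51

open Module Pointwise

section Group

variable {H : Type w} [Group H] [Finite H]
  {p n : ℕ} [Fact p.Prime] (Gi : Fin n → Subgroup H)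

/-- The complement of the `i`-th subgroup. -/
abbrev perp (i : Fin n) : Subgroup H := ⨆ j ∈ (Finset.univ.erase i : Finset (Fin n)), Gi j

/-- Coordinates in a product of subgroups. -/
theorem exists_coord (hcomm : ∀ g h : H, g * h = h * g) (hcard : Nat.card H = p ^ n) (hGi : ∀ i, Nat.card (Gi i) = p)
    (hsup : (⨆ i, Gi i) = ⊤) :
    ∃ c : ∀ i, H →* Gi i, (∀ i (g : Gi i), c i g = g) ∧ (∀ i j, j ≠ i → ∀ g : Gi j, c i g = 1) ∧
      (∀ g : H, (∀ i, c i g = 1) → g = 1) ∧ ∀ i g, g ∈ perp Gi i ↔ c i g = 1 := by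
  classical
  letI : CommGroup H := { (inferInstance : Group H) with mul_comm := hcomm }
  let φ : (∀ i, Gi i) →* H :=
    { toFun := fun g => ∏ i, (g i : H)
      map_one' := by simp
      map_mul' := fun g g' => by simp [Finset.prod_mul_distrib] }
  have hsingle : ∀ j (x : Gi j), φ (Pi.mulSingle j x) = x := fun j x => by
    show ∏ i, ((Pi.mulSingle j x : ∀ i, Gi i) i : H) = x
    rw [Finset.prod_eq_single j (fun i _ hi => by simp [hi]) (by simp), Pi.mulSingle_eq_same]
  have hsurj : Function.Surjective φ := by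
    rw [← MonoidHom.range_eq_top, eq_top_iff, ← hsup]
    exact iSup_le fun j x hx => ⟨Pi.mulSingle j ⟨x, hx⟩, hsingle j _⟩
  have hbij : Function.Bijective φ := by
    haveI : ∀ i, Finite (Gi i) := fun i => inferInstance
    refine (Nat.bijective_iff_surjective_and_card φ).2 ⟨hsurj, ?_⟩
    rw [Nat.card_pi, hcard]
    simp [hGi]
  let e := MulEquiv.ofBijective φ hbij
  have he : ∀ g, ∏ i, ((e.symm g) i : H) = g := fun g => e.apply_symm_apply g
  have hes : ∀ j (x : Gi j), e.symm (x : H) = Pi.mulSingle j x := fun j x =>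
    e.injective (by rw [e.apply_symm_apply]; exact (hsingle j x).symm)
  refine ⟨fun i => (Pi.evalMonoidHom _ i).comp e.symm.toMonoidHom, fun i g => ?_,
    fun i j hj g => ?_, fun g hg => ?_, fun i g => ⟨fun hg => ?_, fun hg => ?_⟩⟩
  · show e.symm (g : H) i = g
    rw [hes, Pi.mulSingle_eq_same]
  · show e.symm (g : H) i = 1
    rw [hes, Pi.mulSingle_eq_of_ne (Ne.symm hj)]
  · rw [← he g]
    exact Finset.prod_eq_one fun i _ => by
      rw [show (e.symm g) i = 1 from hg i]; rfl
  · refine (show perp Gi i ≤ ((Pi.evalMonoidHom _ i).comp e.symm.toMonoidHom).ker from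
      iSup₂_le fun j hj x hx => MonoidHom.mem_ker.2 ?_) hg
    show e.symm ((⟨x, hx⟩ : Gi j) : H) i = 1
    rw [hes, Pi.mulSingle_eq_of_ne (Finset.ne_of_mem_erase hj).symm]
  · rw [← he g]
    refine prod_mem fun j _ => ?_
    by_cases hj : j = i
    · subst hj
      rw [show (e.symm g) j = 1 from hg]; exact one_mem _
    · exact Subgroup.mem_iSup_of_mem j (Subgroup.mem_iSup_of_mem (by simp [hj]) ((e.symm g) j).2)

end Group

variable {R : Type u} [CommRing R] {A : Type v} [CommRing A] [IsDomain A] [Algebra R A]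
  {H : Type w} [Group H] [Finite H] [MulSemiringAction H A] [SMulCommClass H R A]

/-- Primes over a height-one prime have height one. -/
theorem height_eq_one_of_under [Algebra.IsIntegral R A]
    (hinj : Function.Injective (algebraMap R A)) (Q : Ideal A) [Q.IsPrime]
    (h : (Q.comap (algebraMap R A)).height = 1) : Q.height = 1 := by
  have : IsDomain R := hinj.isDomain
  have hne : Q ≠ ⊥ := fun h0 => by
    rw [h0, ← RingHom.ker_eq_comap_bot, (RingHom.injective_iff_ker_eq_bot _).1 hinj,
      Ideal.height_bot] at h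
    exact zero_ne_one h
  refine le_antisymm ((Ideal.height_le_iff (n := 1)).2 fun q hq hlt => ?_) ?_
  · suffices q = ⊥ by rw [this, Ideal.height_bot]; norm_num
    have hc : q.comap (algebraMap R A) < Q.comap (algebraMap R A) :=
      Ideal.IsIntegral.comap_lt_comap hlt
    refine Ideal.eq_bot_of_comap_eq_bot (R := R) ?_
    by_contra hbot
    have := hq.comap (algebraMap R A)
    have h2 := (Ideal.height_le_iff (n := 1)).1 h.le _ inferInstance hc
    rw [Nat.cast_one, Order.lt_one_iff, Ideal.height_eq_zero_iff,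
      IsDomain.minimalPrimes_eq_singleton_bot] at h2
    exact hbot (Set.mem_singleton_iff.1 h2)
  · rw [ENat.one_le_iff_ne_zero, Ne, Ideal.height_eq_zero_iff,
      IsDomain.minimalPrimes_eq_singleton_bot, Set.mem_singleton_iff]
    exact hne

/-- Inertia only depends on the orbit, for commutative groups. -/
theorem inertia_smul (hcomm : ∀ g h : H, g * h = h * g) (g : H) (Q : Ideal A) :
    (g • Q).inertia H = Q.inertia H := by
  have key : ∀ (g : H) (Q : Ideal A), Q.inertia H ≤ (g • Q).inertia H := by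
    intro g Q σ hσ
    refine AddSubgroup.mem_inertia.2 fun x => ?_
    have hx : σ • (g⁻¹ • x) - g⁻¹ • x ∈ Q := hσ (g⁻¹ • x)
    have hgx := Ideal.smul_mem_pointwise_smul g _ Q hx
    rw [smul_sub, smul_smul, smul_inv_smul, hcomm g σ, ← smul_smul, smul_inv_smul] at hgx
    exact hgx
  refine le_antisymm ?_ (key g Q)
  have := key g⁻¹ (g • Q)
  rwa [inv_smul_smul] at this

/-- An element acting trivially on the residue of an invariant subring lifts to inertia. -/
theorem mem_of_trivial_mod (N : Subgroup H) (hn : ∀ g h : H, g * h = h * g)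
    (h : H) (Q : Ideal A) [Q.IsPrime]
    (htriv : ∀ y : FixedPoints.subalgebra R A N, h • (y : A) - (y : A) ∈ Q)
    (hI : Q.inertia H ≤ N) : h ∈ N := by
  let B := FixedPoints.subalgebra R A N
  haveI : Algebra.IsInvariant B A N := ⟨fun b hb => ⟨⟨b, hb⟩, rfl⟩⟩
  haveI : SMulCommClass N B A := ⟨fun m y a => by
    show m • ((y : A) * a) = (y : A) * m • a
    rw [smul_mul', y.2 m]⟩
  -- bring the conjugate prime back
  obtain ⟨m, hm⟩ := Algebra.IsInvariant.exists_smul_of_under_eq B A N (h • Q) Q (by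
    ext y
    show (y : A) ∈ h • Q ↔ (y : A) ∈ Q
    have hy : h⁻¹ • (y : A) - y ∈ Q := by
      have h1 := htriv ⟨h⁻¹ • (y : A), fun m => by
        show m.1 • h⁻¹ • (y : A) = _
        rw [smul_smul, hn, ← smul_smul, show m.1 • (y : A) = y from y.2 m]⟩
      have h2 : (y : A) - h⁻¹ • (y : A) ∈ Q := by simpa [smul_inv_smul] using h1
      simpa using neg_mem h2
    rw [Ideal.mem_pointwise_smul_iff_inv_smul_mem]
    exact ⟨fun h1 => by simpa using sub_mem h1 hy, fun h1 => by simpa using add_mem h1 hy⟩)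
  set τ : H := (m : H) * h with hτ
  have hτQ : τ • Q = Q := by
    rw [hτ, mul_smul]; exact hm.symm
  let P : Ideal B := Q.comap (algebraMap B A)
  haveI : Q.LiesOver P := ⟨rfl⟩
  let f₀ : A ⧸ Q ≃+* A ⧸ Q := Ideal.quotientEquiv Q Q (MulSemiringAction.toRingEquiv H A τ) (by
    conv_lhs => rw [← hτQ]
    rfl)
  let f : (A ⧸ Q) ≃ₐ[B ⧸ P] (A ⧸ Q) := AlgEquiv.ofRingEquiv (f := f₀) (by
    intro x
    obtain ⟨y, rfl⟩ := Ideal.Quotient.mk_surjective x
    show f₀ (Ideal.Quotient.mk Q (y : A)) = Ideal.Quotient.mk Q (y : A)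
    rw [Ideal.quotientEquiv_mk, Ideal.Quotient.mk_eq_mk_iff_sub_mem]
    show τ • (y : A) - y ∈ Q
    have h1 : (m : H) • (h • (y : A) - y) ∈ (m : H) • h • Q := by
      refine Ideal.smul_mem_pointwise_smul _ _ _ ?_
      have h2 := htriv y
      rw [Ideal.mem_pointwise_smul_iff_inv_smul_mem, smul_sub, inv_smul_smul]
      have h3 := htriv ⟨h⁻¹ • (y : A), fun m => by
        show m.1 • h⁻¹ • (y : A) = _
        rw [smul_smul, hn, ← smul_smul, show m.1 • (y : A) = y from y.2 m]⟩
      simpa [smul_inv_smul] using h3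
    rw [show (m : H) • h • Q = Q by rw [← mul_smul]; exact hτQ, smul_sub, ← mul_smul, ← hτ,
      show (m : H) • (y : A) = y from y.2 m] at h1
    exact h1)
  obtain ⟨g, hg⟩ := Ideal.Quotient.stabilizerHom_surjective N P Q f
  have hin : ((g.1 : N) : H)⁻¹ * τ ∈ Q.inertia H := by
    refine AddSubgroup.mem_inertia.2 fun x => ?_
    have hx := DFunLike.congr_fun hg (Ideal.Quotient.mk Q x)
    change Ideal.Quotient.mk Q ((g.1 : N).1 • x) = Ideal.Quotient.mk Q (τ • x) at hx
    rw [Ideal.Quotient.mk_eq_mk_iff_sub_mem] at hx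
    have hgQ : ((g.1 : N) : H) • Q = Q := g.2
    have h4 := Ideal.smul_mem_pointwise_smul ((g.1 : N) : H)⁻¹ _ Q hx
    rw [show ((g.1 : N) : H)⁻¹ • Q = Q by rw [inv_smul_eq_iff, hgQ], smul_sub, inv_smul_smul,
      smul_smul] at h4
    simpa using neg_mem h4
  have hmem : τ ∈ N := by
    have := N.mul_mem (g.1 : N).2 (hI hin)
    rwa [mul_inv_cancel_left] at this
  exact (Subgroup.mul_mem_cancel_left N m.2).1 hmem

variable [FaithfulSMul H A]

omit [SMulCommClass H R A] in
theorem inertia_bot : (⊥ : Ideal A).inertia H = ⊥ := by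
  refine le_antisymm (fun σ hσ => ?_) bot_le
  rw [Subgroup.mem_bot]
  exact FaithfulSMul.eq_of_smul_eq_smul (α := A) fun x => by
    simpa [sub_eq_zero] using hσ x

variable {p n : ℕ} [Fact p.Prime] [Module.Finite R A] (Gi : Fin n → Subgroup H)

/-- Elements killed into the subalgebra generated by the complementary invariants, away from a prime. -/
theorem exists_mul_mem (hcomm : ∀ g h : H, g * h = h * g) (hcard : Nat.card H = p ^ n)
    (hGi : ∀ i, Nat.card (Gi i) = p) (hsup : (⨆ i, Gi i) = ⊤)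
    (P : Ideal R) [P.IsPrime] (i₀ : Fin n)
    (hP : ∀ Q : Ideal A, Q.IsPrime → Q.comap (algebraMap R A) = P → Q.inertia H ≤ Gi i₀) (a : A) :
    ∃ r, r ∉ P ∧ r • a ∈ ⨆ i, FixedPoints.subalgebra R A (perp Gi i) := by
  classical
  obtain ⟨c, hc1, hc2, hc3, hc4⟩ := exists_coord Gi hcomm hcard hGi hsup
  set M := ⨆ i, FixedPoints.subalgebra R A (perp Gi i) with hM
  haveI : Algebra.IsIntegral R A := Algebra.IsIntegral.of_finite R A
  haveI : Fintype (perp Gi i₀) := Fintype.ofFinite _
  -- a function with traces in `M`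
  let Good : (H → A) → Prop := fun F => ∀ a : A, ∑ g : perp Gi i₀, (g : H) • a * F g ∈ M
  have good_one : Good 1 := by
    intro a
    refine Subalgebra.mem_carrier.1 ((le_iSup (fun i => FixedPoints.subalgebra R A (perp Gi i)) i₀) ?_)
    intro m
    show (m : H) • ∑ g : perp Gi i₀, (g : H) • a * (1 : H → A) g = _
    simp only [Pi.one_apply, mul_one, Finset.smul_sum, smul_smul]
    exact Fintype.sum_equiv (Equiv.mulLeft m) _ _ fun g => rfl
  -- the separating functions
  have sep : ∀ j, j ≠ i₀ → ∀ h ∈ Gi j, h ≠ 1 → ∃ r, r ∉ P ∧ ∃ F : H → A,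
      (∀ G, Good G → Good (F * G)) ∧
      (∀ g, (c j g : H) = h → F g = 0) ∧ ∀ g, c j g = 1 → F g = algebraMap R A r := by
    intro j hj h hh h1
    let N := perp Gi j
    let B := FixedPoints.subalgebra R A N
    have hfix : ∀ g, g ∈ N → ∀ y : B, g • (y : A) = y := fun g hg y => y.2 ⟨g, hg⟩
    have hstab : ∀ y : B, h • (y : A) ∈ B := fun y m => by
      show m.1 • h • (y : A) = h • (y : A)
      rw [smul_smul, hcomm, ← smul_smul, hfix m.1 m.2 y]
    let δ : B → B := fun y => y - ⟨h • (y : A), hstab y⟩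
    let J : Ideal B := Ideal.span (Set.range δ)
    haveI : Algebra.IsIntegral R B := IsIntegral.of_mem_of_fg B
      |> fun _ => Algebra.IsIntegral.of_injective B.val Subtype.val_injective
    have hnot : ¬ J.comap (algebraMap R B) ≤ P := by
      intro hle
      obtain ⟨Q, hJQ, hQ, hQP⟩ := Ideal.exists_ideal_over_prime_of_isIntegral P J hle
      haveI : Algebra.IsIntegral B A := Algebra.IsIntegral.tower_top (R := R)
      obtain ⟨Q', -, hQ', hQ'Q⟩ := Ideal.exists_ideal_over_prime_of_isIntegral (S := A) Q ⊥ (by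
        rw [← RingHom.ker_eq_comap_bot,
          (RingHom.injective_iff_ker_eq_bot _).1 (show Function.Injective (algebraMap B A) from
            Subtype.val_injective)]
        exact bot_le)
      have hP' := hP Q' hQ' (by
        rw [← hQP, ← hQ'Q, Ideal.comap_comap]; rfl)
      have hmem := mem_of_trivial_mod N hcomm h Q' (fun y => by
        have : δ y ∈ Q'.comap (algebraMap B A) := hQ'Q ▸ hJQ (Ideal.subset_span ⟨y, rfl⟩)
        have h' : (y : A) - h • (y : A) ∈ Q' := this
        simpa using neg_mem h') (hP'.trans (fun x hx =>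
          Subgroup.mem_iSup_of_mem i₀ (Subgroup.mem_iSup_of_mem (by simp [Ne.symm hj]) hx)))
      have := (hc4 j h).1 hmem
      rw [hc1 j ⟨h, hh⟩] at this
      exact h1 (Subtype.ext_iff.1 this)
    obtain ⟨r, hrJ, hr⟩ := Set.not_subset.1 hnot
    refine ⟨r, hr, ?_⟩
    -- the elements of `J` as values of separating functions
    suffices key : ∀ z ∈ J, ∃ F : H → A, (∀ G, Good G → Good (F * G)) ∧
        (∀ g, (c j g : H) = h → F g = 0) ∧ ∀ g, c j g = 1 → F g = (z : A) by
      exact key _ hrJ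
    have hBM : ∀ y : B, (y : A) ∈ M := fun y =>
      (le_iSup (fun i => FixedPoints.subalgebra R A (perp Gi i)) j) y.2
    intro z hz
    refine Submodule.span_induction (p := fun (z : B) _ => ∃ F : H → A, (∀ G, Good G → Good (F * G)) ∧
      (∀ g, (c j g : H) = h → F g = 0) ∧ ∀ g, c j g = 1 → F g = (z : A)) ?_ ?_ ?_ ?_ (show z ∈ Submodule.span B (Set.range δ) from hz)
    · rintro _ ⟨y, rfl⟩
      have hval : ∀ g, g • (y : A) = (c j g : H) • (y : A) := fun g => by
        have hm : ((c j g : H))⁻¹ * g ∈ N := (hc4 j _).2 (by rw [map_mul, map_inv, hc1, inv_mul_cancel])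
        conv_lhs => rw [show g = (c j g : H) * ((c j g : H)⁻¹ * g) by rw [mul_inv_cancel_left],
          mul_smul, hfix _ hm y]
      refine ⟨fun g => g • (y : A) - h • (y : A), fun G hG a => ?_, fun g hg => ?_, fun g hg => ?_⟩
      · have e : ∑ g : perp Gi i₀, (g : H) • a * (((fun g => g • (y : A) - h • (y : A) : H → A) * G) g) =
            (∑ g : perp Gi i₀, (g : H) • (a * y) * G g) - h • (y : A) *
              ∑ g : perp Gi i₀, (g : H) • a * G g := by
          rw [Finset.mul_sum, ← Finset.sum_sub_distrib]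
          refine Finset.sum_congr rfl fun g _ => ?_
          simp only [Pi.mul_apply, smul_mul']
          ring
        rw [e]
        exact sub_mem (hG (a * y)) (mul_mem (hBM ⟨_, hstab y⟩) (hG a))
      · show g • (y : A) - h • (y : A) = 0
        rw [hval, hg, sub_self]
      · show g • (y : A) - h • (y : A) = (y : A) - h • (y : A)
        rw [hval, hg, OneMemClass.coe_one, one_smul]
    · exact ⟨0, fun G _ a => by simp, fun g _ => rfl, fun g _ => rfl⟩
    · rintro z₁ z₂ _ _ ⟨F₁, a₁, b₁, c₁⟩ ⟨F₂, a₂, b₂, c₂⟩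
      refine ⟨F₁ + F₂, fun G hG a => ?_, fun g hg => by simp [b₁ g hg, b₂ g hg],
        fun g hg => by simp [c₁ g hg, c₂ g hg]⟩
      simp only [add_mul, Pi.add_apply, mul_add, Finset.sum_add_distrib]
      exact add_mem (a₁ G hG a) (a₂ G hG a)
    · rintro s z₁ _ ⟨F₁, a₁, b₁, c₁⟩
      refine ⟨fun g => (s : A) * F₁ g, fun G hG a => ?_, fun g hg => by simp [b₁ g hg],
        fun g hg => by simp [c₁ g hg]⟩
      have e : ∑ g : perp Gi i₀, (g : H) • a * (((fun g => (s : A) * F₁ g : H → A) * G) g) =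
          (s : A) * ∑ g : perp Gi i₀, (g : H) • a * ((F₁ * G) g) := by
        rw [Finset.mul_sum]
        exact Finset.sum_congr rfl fun g _ => by simp only [Pi.mul_apply]; ring
      rw [e]
      exact mul_mem (hBM s) (a₁ G hG a)
  -- multiply them over all pairs
  choose r hr F hgood hzero hone using sep
  haveI : Fintype H := Fintype.ofFinite H
  let S : Finset ((_ : Fin n) × H) :=
    Finset.univ.filter fun x => x.1 ≠ i₀ ∧ x.2 ∈ Gi x.1 ∧ x.2 ≠ 1
  have hS : ∀ x, x ∈ S → x.1 ≠ i₀ ∧ x.2 ∈ Gi x.1 ∧ x.2 ≠ 1 := fun x hx => by simpa [S] using hx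
  let rS : S → R := fun x => r x.1.1 (hS _ x.2).1 x.1.2 (hS _ x.2).2.1 (hS _ x.2).2.2
  let FS : S → H → A := fun x => F x.1.1 (hS _ x.2).1 x.1.2 (hS _ x.2).2.1 (hS _ x.2).2.2
  have hgood' : Good (∏ x, FS x) := by
    have h : ∀ G', Good G' → Good ((∏ x, FS x) * G') :=
      Finset.prod_induction FS (fun G => ∀ G', Good G' → Good (G * G'))
        (fun F₁ F₂ h₁ h₂ G' hG => by rw [mul_assoc]; exact h₁ _ (h₂ _ hG))
        (fun G' hG => by rwa [one_mul]) (fun x _ => hgood _ _ _ _ _)
    simpa using h 1 good_one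
  refine ⟨∏ x, rS x, fun hmem => ?_, ?_⟩
  · obtain ⟨x, -, hx⟩ := (Ideal.IsPrime.prod_mem_iff).1 hmem
    exact hr _ _ _ _ _ hx
  have h := hgood' a
  rw [Finset.sum_eq_single (1 : perp Gi i₀)] at h
  · rw [OneMemClass.coe_one, one_smul, Finset.prod_apply,
      Finset.prod_congr rfl fun x _ => hone _ _ _ _ _ 1 (map_one _), ← map_prod, mul_comm,
      ← Algebra.smul_def] at h
    exact h
  · intro g _ hg
    obtain ⟨j, hj⟩ : ∃ j, c j (g : H) ≠ 1 := by
      by_contra hc
      push Not at hc
      exact hg (Subtype.ext (hc3 _ hc))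
    have hji : j ≠ i₀ := fun h => hj (h ▸ (hc4 i₀ _).1 g.2)
    have hx : (⟨j, (c j (g : H) : H)⟩ : (_ : Fin n) × H) ∈ S := by
      simp only [S, Finset.mem_filter, Finset.mem_univ, true_and]
      exact ⟨hji, (c j (g : H)).2, fun h => hj (Subtype.ext h)⟩
    rw [Finset.prod_apply, Finset.prod_eq_zero (Finset.mem_univ ⟨_, hx⟩) (hzero _ _ _ _ _ (g : H) rfl),
      mul_zero]
  · simp

/-- The quotient of the group by a complement has order `p`: the rank of the invariant ring. -/
theorem finrank_perp (hinj : Function.Injective (algebraMap R A))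
    (hfix : ∀ a : A, (∀ h : H, h • a = a) → a ∈ Set.range (algebraMap R A))
    (hcomm : ∀ g h : H, g * h = h * g) (hcard : Nat.card H = p ^ n)
    (hGi : ∀ i, Nat.card (Gi i) = p) (hsup : (⨆ i, Gi i) = ⊤) (i : Fin n) :
    finrank R (FixedPoints.subalgebra R A (perp Gi i)) = p := by
  classical
  obtain ⟨c, hc1, -, -, hc4⟩ := exists_coord Gi hcomm hcard hGi hsup
  set N := perp Gi i
  let B := FixedPoints.subalgebra R A N
  haveI : N.Normal := ⟨fun a ha g => by rwa [hcomm g a, mul_inv_cancel_right]⟩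
  haveI : FaithfulSMul R A := (faithfulSMul_iff_algebraMap_injective R A).2 hinj
  haveI : FaithfulSMul R B := (faithfulSMul_iff_algebraMap_injective R B).2 fun x y h =>
    hinj (congrArg Subtype.val h)
  haveI : Algebra.IsInvariant R A H := ⟨fun b hb => hfix b hb⟩
  haveI : FaithfulSMul (H ⧸ N) B := by
    refine ⟨fun {x y} hxy => ?_⟩
    induction x using QuotientGroup.induction_on with | _ g => ?_
    induction y using QuotientGroup.induction_on with | _ g' => ?_
    rw [QuotientGroup.eq]
    -- an element fixing all invariants lies in the subgroup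
    set g₀ := g⁻¹ * g'
    have hg₀ : ∀ y : B, g₀ • (y : A) = y := fun y => by
      have := congrArg Subtype.val (hxy y)
      change g • (y : A) = g' • (y : A) at this
      rw [mul_smul, ← this, inv_smul_smul]
    let M' := N ⊔ Subgroup.zpowers g₀
    have hM' : ∀ m ∈ M', ∀ y : B, m • (y : A) = y := by
      intro m hm y
      refine (show M' ≤ MulAction.stabilizer H (y : A) from sup_le (fun m hm => y.2 ⟨m, hm⟩)
        (Subgroup.zpowers_le.2 (hg₀ y))) hm
    haveI : SMulCommClass N B A := ⟨fun m y a => by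
      show m • ((y : A) * a) = (y : A) * m • a
      rw [smul_mul', y.2 m]⟩
    haveI : SMulCommClass M' B A := ⟨fun m y a => by
      show m.1 • ((y : A) * a) = (y : A) * m.1 • a
      rw [smul_mul', hM' m.1 m.2 y]⟩
    haveI : IsGaloisGroup N B A :=
      { faithful := inferInstance, commutes := inferInstance
        isInvariant := ⟨fun b hb => ⟨⟨b, hb⟩, rfl⟩⟩ }
    haveI : IsGaloisGroup M' B A :=
      { faithful := inferInstance, commutes := inferInstance
        isInvariant := ⟨fun b hb => ⟨⟨b, fun m => hb ⟨m.1, Subgroup.mem_sup_left m.2⟩⟩, rfl⟩⟩ }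
    haveI : FaithfulSMul B A :=
      (faithfulSMul_iff_algebraMap_injective B A).2 Subtype.val_injective
    have hc := (IsGaloisGroup.card_eq_finrank' N B A).trans
      (IsGaloisGroup.card_eq_finrank' M' B A).symm
    have hle : N ≤ M' := le_sup_left
    have heq := Subgroup.eq_of_le_of_card_ge hle hc.ge
    exact heq ▸ Subgroup.mem_sup_right (Subgroup.mem_zpowers g₀)
  haveI : IsGaloisGroup (H ⧸ N) R B :=
    { faithful := inferInstance, commutes := inferInstance, isInvariant := inferInstance }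
  rw [← IsGaloisGroup.card_eq_finrank' (H ⧸ N) R B, ← hGi i]
  have hker : N = (c i).ker := Subgroup.ext fun g => (hc4 i g).trans MonoidHom.mem_ker.symm
  rw [show N = (c i).ker from hker]
  exact Nat.card_congr (QuotientGroup.quotientKerEquivOfSurjective (c i)
    fun x => ⟨x, hc1 i x⟩).toEquiv

/-- The complementary invariant rings generate. -/
theorem iSup_fixed_eq_top [IsDomain R] [IsNoetherianRing R] [IsIntegrallyClosed R]
    (hinj : Function.Injective (algebraMap R A))
    (hfix : ∀ a : A, (∀ h : H, h • a = a) → a ∈ Set.range (algebraMap R A))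
    (hcomm : ∀ g h : H, g * h = h * g) (hcard : Nat.card H = p ^ n)
    (hGi : ∀ i, Nat.card (Gi i) = p) (hsup : (⨆ i, Gi i) = ⊤)
    (hMR3 : ∀ P : Ideal A, P.IsPrime → P.height = 1 → P.inertia H ≠ ⊥ → ∃ i, P.inertia H = Gi i)
    (hfree : ∀ i, Module.Free R (FixedPoints.subalgebra R A (perp Gi i))) :
    (⨆ i, FixedPoints.subalgebra R A (perp Gi i)) = ⊤ := by
  classical
  haveI : Algebra.IsIntegral R A := Algebra.IsIntegral.of_finite R A
  haveI : FaithfulSMul R A := (faithfulSMul_iff_algebraMap_injective R A).2 hinj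
  haveI : Algebra.IsInvariant R A H := ⟨fun b hb => hfix b hb⟩
  haveI : IsGaloisGroup H R A :=
    { faithful := inferInstance, commutes := inferInstance, isInvariant := inferInstance }
  set M := ⨆ i, FixedPoints.subalgebra R A (perp Gi i) with hM
  rcases isEmpty_or_nonempty (Fin n) with hn | ⟨⟨iz⟩⟩
  · refine eq_top_iff.2 fun a _ => ?_
    have h1 : ∀ g : H, g = 1 := fun g => by
      have : (⊤ : Subgroup H) = ⊥ := by rw [← hsup, iSup_of_empty]
      exact Subgroup.mem_bot.1 (this ▸ Subgroup.mem_top g)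
    obtain ⟨r, hr⟩ := hfix a fun h => by rw [h1 h, one_smul]
    exact hr ▸ M.algebraMap_mem r
  -- a common prime index
  have hidx : ∀ (P : Ideal R) [P.IsPrime], (P = ⊥ ∨ P.height = 1) →
      ∃ i₀, ∀ Q : Ideal A, Q.IsPrime → Q.comap (algebraMap R A) = P → Q.inertia H ≤ Gi i₀ := by
    intro P _ hP
    obtain ⟨Q₀, -, hQ₀, hQ₀P⟩ := Ideal.exists_ideal_over_prime_of_isIntegral (S := A) P ⊥ (by
      rw [← RingHom.ker_eq_comap_bot, (RingHom.injective_iff_ker_eq_bot _).1 hinj]
      exact bot_le)
    have hconj : ∀ Q : Ideal A, Q.IsPrime → Q.comap (algebraMap R A) = P →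
        Q.inertia H = Q₀.inertia H := fun Q hQ hQP => by
      obtain ⟨g, hg⟩ := Algebra.IsInvariant.exists_smul_of_under_eq R A H Q₀ Q (hQ₀P.trans hQP.symm)
      rw [hg, inertia_smul hcomm]
    by_cases h0 : Q₀.inertia H = ⊥
    · exact ⟨iz, fun Q hQ hQP => by rw [hconj Q hQ hQP, h0]; exact bot_le⟩
    · rcases hP with rfl | hP
      · exact absurd (by rw [Ideal.eq_bot_of_comap_eq_bot hQ₀P, inertia_bot]) h0
      · obtain ⟨i, hi⟩ := hMR3 Q₀ hQ₀ (height_eq_one_of_under hinj Q₀ (hQ₀P ▸ hP)) h0
        exact ⟨i, fun Q hQ hQP => by rw [hconj Q hQ hQP, hi]⟩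
  have hloc : ∀ (P : Ideal R) [P.IsPrime], (P = ⊥ ∨ P.height = 1) → ∀ a : A,
      ∃ r, r ∉ P ∧ r • a ∈ M := fun P _ hP a => by
    obtain ⟨i₀, h⟩ := hidx P hP
    exact exists_mul_mem Gi hcomm hcard hGi hsup P i₀ h a
  -- generators
  haveI : ∀ i, Module.Finite R (FixedPoints.subalgebra R A (perp Gi i)) := fun i =>
    Module.Finite.iff_fg.2 (IsNoetherian.noetherian (FixedPoints.subalgebra R A (perp Gi i)).toSubmodule)
  let b : ∀ i, Fin p → FixedPoints.subalgebra R A (perp Gi i) := fun i =>
    Module.finBasisOfFinrankEq R _ (finrank_perp Gi hinj hfix hcomm hcard hGi hsup i)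
  have hb : ∀ i, Submodule.span R (Set.range (b i)) = ⊤ := fun i => Basis.span_eq _
  let Φ : ((Fin n → Fin p) → R) →ₗ[R] A :=
    ∑ e, (LinearMap.proj e).smulRight (prodFam (fun i => FixedPoints.subalgebra R A (perp Gi i)) b e)
  have hrange : ∀ a ∈ M, ∃ c, Φ c = a := fun a ha => by
    have h := iSup_le_span _ b hb ha
    obtain ⟨c, hc⟩ := (Submodule.mem_span_range_iff_exists_fun R).1 h
    exact ⟨c, by simpa [Φ] using hc⟩
  -- a common denominator
  obtain ⟨r₀, hr₀, hden⟩ : ∃ r₀ : R, r₀ ≠ 0 ∧ ∀ a, r₀ • a ∈ LinearMap.range Φ := by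
    obtain ⟨s, hs⟩ := Module.Finite.fg_top (R := R) (M := A)
    choose r hr hmem using fun a : A => hloc ⊥ (.inl rfl) a
    refine ⟨∏ x ∈ s, r x, Finset.prod_ne_zero_iff.2 fun x _ => fun h => hr x (by simp [h]),
      fun a => ?_⟩
    have ha : a ∈ Submodule.span R (s : Set A) := hs ▸ Submodule.mem_top
    refine Submodule.span_induction (p := fun a _ => (∏ x ∈ s, r x) • a ∈ LinearMap.range Φ)
      (fun x hx => ?_) (by simp) (fun x y _ _ h1 h2 => by rw [smul_add]; exact add_mem h1 h2)
      (fun c x _ h => by rw [smul_comm]; exact (LinearMap.range Φ).smul_mem c h) ha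
    rw [← Finset.prod_erase_mul s r hx, mul_smul]
    exact (LinearMap.range Φ).smul_mem _ (hrange _ (hmem x))
  have hker : LinearMap.ker Φ = ⊥ := by
    have h1 : finrank R A ≤ finrank R (LinearMap.range Φ) :=
      LinearMap.finrank_le_finrank_of_injective
        (f := (r₀ • LinearMap.id (R := R) (M := A)).codRestrict _ hden) fun x y h => by
          have h' : r₀ • x = r₀ • y := congrArg Subtype.val h
          rw [Algebra.smul_def, Algebra.smul_def] at h'
          exact mul_left_cancel₀ (fun h0 => hr₀ (hinj (by rw [h0, map_zero]))) h'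
    rw [← IsGaloisGroup.card_eq_finrank' H R A, hcard] at h1
    have h2 := Submodule.finrank_quotient_add_finrank (LinearMap.ker Φ)
    rw [Φ.quotKerEquivRange.finrank_eq, Module.finrank_pi, Fintype.card_pi] at h2
    simp only [Fintype.card_fin, Finset.prod_const, Finset.card_univ] at h2
    exact Submodule.finrank_eq_zero.1 (by omega)
  refine eq_top_iff.2 fun a _ => ?_
  obtain ⟨c, hc⟩ := hden a
  have hdvd : ∀ e, r₀ ∣ c e := fun e => by
    refine CAlg4.ReducedCurve.dvd_of_forall_height_one r₀ (c e) hr₀ fun q _ hq _ => ?_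
    obtain ⟨r, hr, hmem⟩ := hloc q (.inr hq) a
    obtain ⟨d, hd⟩ := hrange _ hmem
    have heq : r • c = r₀ • d := by
      refine LinearMap.ker_eq_bot.1 hker ?_
      rw [map_smul, map_smul, hc, hd, smul_comm]
    have he := congrArg (algebraMap R (Localization.AtPrime q)) (congrFun heq e)
    simp only [Pi.smul_apply, smul_eq_mul, map_mul] at he
    exact (IsUnit.dvd_mul_left (IsLocalization.map_units _ (⟨r, hr⟩ : q.primeCompl))).1
      ⟨_, he⟩
  choose d hd using hdvd
  have hcd : c = r₀ • d := funext hd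
  have ha : Φ d = a := by
    have h : r₀ • Φ d = r₀ • a := by rw [← map_smul, ← hcd, hc]
    rw [Algebra.smul_def, Algebra.smul_def] at h
    exact mul_left_cancel₀ (fun h0 => hr₀ (hinj (by rw [h0, map_zero]))) h
  rw [← ha]
  simp only [Φ, LinearMap.sum_apply, LinearMap.smulRight_apply, LinearMap.proj_apply]
  exact sum_mem fun e _ => M.smul_mem (prod_mem fun i _ =>
    (le_iSup (fun i => FixedPoints.subalgebra R A (perp Gi i)) i) (b i (e i)).2) _

end Groth.Agent.WildQuot51
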